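import Cfsg.Agent.H18.TEg.V.C0
import Cfsg.Agent.H18.TEg.V.C1
import Cfsg.Agent.H18.TEg.V.C2
import Cfsg.Agent.H18.TEg.V.C3
import Cfsg.Agent.H18.TEg.V.C4
import Cfsg.Agent.H18.TEg.V.C5
import Cfsg.Agent.H18.TEg.V.C6
import Cfsg.Agent.H18.TEg.V.C7
import Cfsg.Agent.H18.TEg.V.C8

/-! Generated by tools/h0/tr.py. -/

set_option maxRecDepth 100000
set_option maxHeartbeats 0

namespace H18.TE.V
open H16 H0.TR
open scoped commutatorElement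

theorem pe : ∀ k < 11, ∀ i < 672, (permEnt P (nth 0 [nat_lit 0, nat_lit 1, nat_lit 3, nat_lit 2, nat_lit 5, nat_lit 4, nat_lit 7, nat_lit 6, nat_lit 8, nat_lit 9, nat_lit 10]) (nat_lit 672)) k i = 0 := allZ2_sound pe_a
theorem nm {G Ω : Type*} [Group G] [MulAction G Ω] {g : ℕ → G} {pt : ℕ → Ω} {c : ℕ}
    (M : Md g pt H18.TE.V.P 672 11 H18.TE.V.B c) : g 10 ∈ Subgroup.normalizer (gen g 10 : Set G) :=
  M.norm (M.act.mono (by decide : 10 ≤ 11)) M.act (by decide) nm_k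
theorem t_m : ∀ k < 16, ∀ i < 672, (matEnt (wdsP H18.TE.V.P t_W) t_P) k i = 0 := allZ2_sound t_m_a
theorem t_act {G Ω : Type*} [Group G] [MulAction G Ω] {g : ℕ → G} {pt : ℕ → Ω} {c : ℕ}
    (M : Md g pt H18.TE.V.P 672 11 H18.TE.V.B c) : Act (wds g t_W) pt t_P 672 16 :=
  act_mat (M.wact t_lt) t_m
theorem tpl0_e : ∀ i < 127, (dent tpl0 (wdsP t_P tpe) (nat_lit 672)) i = 0 := allZ_sound0 tpl0_e_0
theorem tpl0_ok : DOK tpl0 (wdsP t_P tpe) 672 := ⟨tpl0_h, tpl0_e⟩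
theorem tpl1_e : ∀ i < 127, (dent tpl1 (wdsP t_P tpe) (nat_lit 672)) i = 0 := allZ_sound0 tpl1_e_0
theorem tpl1_ok : DOK tpl1 (wdsP t_P tpe) 672 := ⟨tpl1_h, tpl1_e⟩
theorem tpl2_e : ∀ i < 3, (dent tpl2 (wdsP t_P tpe) (nat_lit 672)) i = 0 := allZ_sound0 tpl2_e_0
theorem tpl2_ok : DOK tpl2 (wdsP t_P tpe) 672 := ⟨tpl2_h, tpl2_e⟩
theorem tp_low {G Ω : Type*} [Group G] [MulAction G Ω] {g : ℕ → G} {pt : ℕ → Ω} {c : ℕ}
    (M : Md g pt H18.TE.V.P 672 11 H18.TE.V.B c) : SLow (gi (wds (wds g t_W) tpe)) pt 672 [tpl0, tpl1, tpl2] :=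
  (((SLow.nil).cons tpl2_ok (((t_act M).mono (by decide : 16 ≤ 16)).wds tp_e 22) tp_f2).cons tpl1_ok (((t_act M).mono (by decide : 16 ≤ 16)).wds tp_e 22) tp_f1).cons tpl0_ok (((t_act M).mono (by decide : 16 ≤ 16)).wds tp_e 22) tp_f0
theorem tp {G Ω : Type*} [Group G] [MulAction G Ω] {g : ℕ → G} {pt : ℕ → Ω} {c : ℕ}
    (M : Md g pt H18.TE.V.P 672 11 H18.TE.V.B c) : PC0 (wds g t_W) 16 2 ∧ Nat.card (gen (wds g t_W) 16) = 2 ^ 16 :=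
  have := M.fin
  have h := (M.sm.of_act ((t_act M).mono (by decide : 16 ≤ 16))).pc0 (by decide) tp_p
  ⟨h, le_antisymm (h.card_le' le_rfl) (tp_c ▸ ((tp_low M).card_ge M.inj).trans (Subgroup.card_le_of_le
    (by rw [gen_gi]; exact gen_le.2 fun k _ => evA_mem_gen _ (nth_lt tp_e k))))⟩
theorem tc {G Ω : Type*} [Group G] [MulAction G Ω] {g : ℕ → G} {pt : ℕ → Ω} {c : ℕ}
    (M : Md g pt H18.TE.V.P 672 11 H18.TE.V.B c) : gen (wds g t_W) 9 ≤ Subgroup.centralizer (gen (wds g t_W) 9 : Set G) :=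
  H0.Fi.comm_all M ((t_act M).mono (by decide : 9 ≤ 16)) ((t_act M).mono (by decide : 9 ≤ 16)) tc_k
theorem tq {G Ω : Type*} [Group G] [MulAction G Ω] {g : ℕ → G} {pt : ℕ → Ω} {c : ℕ}
    (M : Md g pt H18.TE.V.P 672 11 H18.TE.V.B c) : ∀ k < 9, (wds g t_W) k ^ 2 = 1 :=
  H0.Fi.pw_all M ((t_act M).mono (by decide : 9 ≤ 16)) tq_k
theorem th_i : ∀ i < 672, (H0.Fi.invEnt t_P (nat_lit 9) thA) i = 0 := allZ_sound0 th_i_0
theorem th_k_0 : ∀ i < 128, (H0.Fi.ncEnt t_P (fun i => ifz (H0.Fi.bit thA i) 0 1) [nat_lit 402, nat_lit 3, nat_lit 163, nat_lit 401, nat_lit 36] thK (H0.Fi.digW (nat_lit 2) (nat_lit 9) (nat_lit 7)) (H0.Fi.digW (nat_lit 2) (nat_lit 9) (nat_lit 7)) (nat_lit 0)) i = 0 := allZ_sound0 th_k_0_0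
theorem th_k_1 : ∀ i < 128, (H0.Fi.ncEnt t_P (fun i => ifz (H0.Fi.bit thA i) 0 1) [nat_lit 402, nat_lit 3, nat_lit 163, nat_lit 401, nat_lit 36] thK (H0.Fi.digW (nat_lit 2) (nat_lit 9) (nat_lit 7)) (H0.Fi.digW (nat_lit 2) (nat_lit 9) (nat_lit 7)) (nat_lit 1)) i = 0 := allZ_sound0 th_k_1_0
theorem th_k_2 : ∀ i < 128, (H0.Fi.ncEnt t_P (fun i => ifz (H0.Fi.bit thA i) 0 1) [nat_lit 402, nat_lit 3, nat_lit 163, nat_lit 401, nat_lit 36] thK (H0.Fi.digW (nat_lit 2) (nat_lit 9) (nat_lit 7)) (H0.Fi.digW (nat_lit 2) (nat_lit 9) (nat_lit 7)) (nat_lit 2)) i = 0 := allZ_sound0 th_k_2_0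
theorem th_k_3 : ∀ i < 128, (H0.Fi.ncEnt t_P (fun i => ifz (H0.Fi.bit thA i) 0 1) [nat_lit 402, nat_lit 3, nat_lit 163, nat_lit 401, nat_lit 36] thK (H0.Fi.digW (nat_lit 2) (nat_lit 9) (nat_lit 7)) (H0.Fi.digW (nat_lit 2) (nat_lit 9) (nat_lit 7)) (nat_lit 3)) i = 0 := allZ_sound0 th_k_3_0
theorem th_k_4 : ∀ i < 128, (H0.Fi.ncEnt t_P (fun i => ifz (H0.Fi.bit thA i) 0 1) [nat_lit 402, nat_lit 3, nat_lit 163, nat_lit 401, nat_lit 36] thK (H0.Fi.digW (nat_lit 2) (nat_lit 9) (nat_lit 7)) (H0.Fi.digW (nat_lit 2) (nat_lit 9) (nat_lit 7)) (nat_lit 4)) i = 0 := allZ_sound0 th_k_4_0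
theorem th_k_5 : ∀ i < 128, (H0.Fi.ncEnt t_P (fun i => ifz (H0.Fi.bit thA i) 0 1) [nat_lit 402, nat_lit 3, nat_lit 163, nat_lit 401, nat_lit 36] thK (H0.Fi.digW (nat_lit 2) (nat_lit 9) (nat_lit 7)) (H0.Fi.digW (nat_lit 2) (nat_lit 9) (nat_lit 7)) (nat_lit 5)) i = 0 := allZ_sound0 th_k_5_0
theorem th_k_6 : ∀ i < 128, (H0.Fi.ncEnt t_P (fun i => ifz (H0.Fi.bit thA i) 0 1) [nat_lit 402, nat_lit 3, nat_lit 163, nat_lit 401, nat_lit 36] thK (H0.Fi.digW (nat_lit 2) (nat_lit 9) (nat_lit 7)) (H0.Fi.digW (nat_lit 2) (nat_lit 9) (nat_lit 7)) (nat_lit 6)) i = 0 := allZ_sound0 th_k_6_0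
theorem th_k_7 : ∀ i < 128, (H0.Fi.ncEnt t_P (fun i => ifz (H0.Fi.bit thA i) 0 1) [nat_lit 402, nat_lit 3, nat_lit 163, nat_lit 401, nat_lit 36] thK (H0.Fi.digW (nat_lit 2) (nat_lit 9) (nat_lit 7)) (H0.Fi.digW (nat_lit 2) (nat_lit 9) (nat_lit 7)) (nat_lit 7)) i = 0 := allZ_sound0 th_k_7_0
theorem th_k_8 : ∀ i < 128, (H0.Fi.ncEnt t_P (fun i => ifz (H0.Fi.bit thA i) 0 1) [nat_lit 402, nat_lit 3, nat_lit 163, nat_lit 401, nat_lit 36] thK (H0.Fi.digW (nat_lit 2) (nat_lit 9) (nat_lit 7)) (H0.Fi.digW (nat_lit 2) (nat_lit 9) (nat_lit 7)) (nat_lit 8)) i = 0 := allZ_sound0 th_k_8_0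
theorem th_k_9 : ∀ i < 128, (H0.Fi.ncEnt t_P (fun i => ifz (H0.Fi.bit thA i) 0 1) [nat_lit 402, nat_lit 3, nat_lit 163, nat_lit 401, nat_lit 36] thK (H0.Fi.digW (nat_lit 2) (nat_lit 9) (nat_lit 7)) (H0.Fi.digW (nat_lit 2) (nat_lit 9) (nat_lit 7)) (nat_lit 9)) i = 0 := allZ_sound0 th_k_9_0
theorem th_k_10 : ∀ i < 128, (H0.Fi.ncEnt t_P (fun i => ifz (H0.Fi.bit thA i) 0 1) [nat_lit 402, nat_lit 3, nat_lit 163, nat_lit 401, nat_lit 36] thK (H0.Fi.digW (nat_lit 2) (nat_lit 9) (nat_lit 7)) (H0.Fi.digW (nat_lit 2) (nat_lit 9) (nat_lit 7)) (nat_lit 10)) i = 0 := allZ_sound0 th_k_10_0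
theorem th_k_11 : ∀ i < 128, (H0.Fi.ncEnt t_P (fun i => ifz (H0.Fi.bit thA i) 0 1) [nat_lit 402, nat_lit 3, nat_lit 163, nat_lit 401, nat_lit 36] thK (H0.Fi.digW (nat_lit 2) (nat_lit 9) (nat_lit 7)) (H0.Fi.digW (nat_lit 2) (nat_lit 9) (nat_lit 7)) (nat_lit 11)) i = 0 := allZ_sound0 th_k_11_0
theorem th_k_12 : ∀ i < 128, (H0.Fi.ncEnt t_P (fun i => ifz (H0.Fi.bit thA i) 0 1) [nat_lit 402, nat_lit 3, nat_lit 163, nat_lit 401, nat_lit 36] thK (H0.Fi.digW (nat_lit 2) (nat_lit 9) (nat_lit 7)) (H0.Fi.digW (nat_lit 2) (nat_lit 9) (nat_lit 7)) (nat_lit 12)) i = 0 := allZ_sound0 th_k_12_0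
theorem th_k_13 : ∀ i < 128, (H0.Fi.ncEnt t_P (fun i => ifz (H0.Fi.bit thA i) 0 1) [nat_lit 402, nat_lit 3, nat_lit 163, nat_lit 401, nat_lit 36] thK (H0.Fi.digW (nat_lit 2) (nat_lit 9) (nat_lit 7)) (H0.Fi.digW (nat_lit 2) (nat_lit 9) (nat_lit 7)) (nat_lit 13)) i = 0 := allZ_sound0 th_k_13_0
theorem th_k_14 : ∀ i < 128, (H0.Fi.ncEnt t_P (fun i => ifz (H0.Fi.bit thA i) 0 1) [nat_lit 402, nat_lit 3, nat_lit 163, nat_lit 401, nat_lit 36] thK (H0.Fi.digW (nat_lit 2) (nat_lit 9) (nat_lit 7)) (H0.Fi.digW (nat_lit 2) (nat_lit 9) (nat_lit 7)) (nat_lit 14)) i = 0 := allZ_sound0 th_k_14_0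
theorem th_k_15 : ∀ i < 128, (H0.Fi.ncEnt t_P (fun i => ifz (H0.Fi.bit thA i) 0 1) [nat_lit 402, nat_lit 3, nat_lit 163, nat_lit 401, nat_lit 36] thK (H0.Fi.digW (nat_lit 2) (nat_lit 9) (nat_lit 7)) (H0.Fi.digW (nat_lit 2) (nat_lit 9) (nat_lit 7)) (nat_lit 15)) i = 0 := allZ_sound0 th_k_15_0
theorem th_k_16 : ∀ i < 128, (H0.Fi.ncEnt t_P (fun i => ifz (H0.Fi.bit thA i) 0 1) [nat_lit 402, nat_lit 3, nat_lit 163, nat_lit 401, nat_lit 36] thK (H0.Fi.digW (nat_lit 2) (nat_lit 9) (nat_lit 7)) (H0.Fi.digW (nat_lit 2) (nat_lit 9) (nat_lit 7)) (nat_lit 16)) i = 0 := allZ_sound0 th_k_16_0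
theorem th_k_17 : ∀ i < 128, (H0.Fi.ncEnt t_P (fun i => ifz (H0.Fi.bit thA i) 0 1) [nat_lit 402, nat_lit 3, nat_lit 163, nat_lit 401, nat_lit 36] thK (H0.Fi.digW (nat_lit 2) (nat_lit 9) (nat_lit 7)) (H0.Fi.digW (nat_lit 2) (nat_lit 9) (nat_lit 7)) (nat_lit 17)) i = 0 := allZ_sound0 th_k_17_0
theorem th_k_18 : ∀ i < 128, (H0.Fi.ncEnt t_P (fun i => ifz (H0.Fi.bit thA i) 0 1) [nat_lit 402, nat_lit 3, nat_lit 163, nat_lit 401, nat_lit 36] thK (H0.Fi.digW (nat_lit 2) (nat_lit 9) (nat_lit 7)) (H0.Fi.digW (nat_lit 2) (nat_lit 9) (nat_lit 7)) (nat_lit 18)) i = 0 := allZ_sound0 th_k_18_0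
theorem th_k_19 : ∀ i < 128, (H0.Fi.ncEnt t_P (fun i => ifz (H0.Fi.bit thA i) 0 1) [nat_lit 402, nat_lit 3, nat_lit 163, nat_lit 401, nat_lit 36] thK (H0.Fi.digW (nat_lit 2) (nat_lit 9) (nat_lit 7)) (H0.Fi.digW (nat_lit 2) (nat_lit 9) (nat_lit 7)) (nat_lit 19)) i = 0 := allZ_sound0 th_k_19_0
theorem th_k_20 : ∀ i < 128, (H0.Fi.ncEnt t_P (fun i => ifz (H0.Fi.bit thA i) 0 1) [nat_lit 402, nat_lit 3, nat_lit 163, nat_lit 401, nat_lit 36] thK (H0.Fi.digW (nat_lit 2) (nat_lit 9) (nat_lit 7)) (H0.Fi.digW (nat_lit 2) (nat_lit 9) (nat_lit 7)) (nat_lit 20)) i = 0 := allZ_sound0 th_k_20_0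
theorem th_k_21 : ∀ i < 128, (H0.Fi.ncEnt t_P (fun i => ifz (H0.Fi.bit thA i) 0 1) [nat_lit 402, nat_lit 3, nat_lit 163, nat_lit 401, nat_lit 36] thK (H0.Fi.digW (nat_lit 2) (nat_lit 9) (nat_lit 7)) (H0.Fi.digW (nat_lit 2) (nat_lit 9) (nat_lit 7)) (nat_lit 21)) i = 0 := allZ_sound0 th_k_21_0
theorem th_k_22 : ∀ i < 128, (H0.Fi.ncEnt t_P (fun i => ifz (H0.Fi.bit thA i) 0 1) [nat_lit 402, nat_lit 3, nat_lit 163, nat_lit 401, nat_lit 36] thK (H0.Fi.digW (nat_lit 2) (nat_lit 9) (nat_lit 7)) (H0.Fi.digW (nat_lit 2) (nat_lit 9) (nat_lit 7)) (nat_lit 22)) i = 0 := allZ_sound0 th_k_22_0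
theorem th_k_23 : ∀ i < 128, (H0.Fi.ncEnt t_P (fun i => ifz (H0.Fi.bit thA i) 0 1) [nat_lit 402, nat_lit 3, nat_lit 163, nat_lit 401, nat_lit 36] thK (H0.Fi.digW (nat_lit 2) (nat_lit 9) (nat_lit 7)) (H0.Fi.digW (nat_lit 2) (nat_lit 9) (nat_lit 7)) (nat_lit 23)) i = 0 := allZ_sound0 th_k_23_0
theorem th_k_24 : ∀ i < 128, (H0.Fi.ncEnt t_P (fun i => ifz (H0.Fi.bit thA i) 0 1) [nat_lit 402, nat_lit 3, nat_lit 163, nat_lit 401, nat_lit 36] thK (H0.Fi.digW (nat_lit 2) (nat_lit 9) (nat_lit 7)) (H0.Fi.digW (nat_lit 2) (nat_lit 9) (nat_lit 7)) (nat_lit 24)) i = 0 := allZ_sound0 th_k_24_0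
theorem th_k_25 : ∀ i < 128, (H0.Fi.ncEnt t_P (fun i => ifz (H0.Fi.bit thA i) 0 1) [nat_lit 402, nat_lit 3, nat_lit 163, nat_lit 401, nat_lit 36] thK (H0.Fi.digW (nat_lit 2) (nat_lit 9) (nat_lit 7)) (H0.Fi.digW (nat_lit 2) (nat_lit 9) (nat_lit 7)) (nat_lit 25)) i = 0 := allZ_sound0 th_k_25_0
theorem th_k_26 : ∀ i < 128, (H0.Fi.ncEnt t_P (fun i => ifz (H0.Fi.bit thA i) 0 1) [nat_lit 402, nat_lit 3, nat_lit 163, nat_lit 401, nat_lit 36] thK (H0.Fi.digW (nat_lit 2) (nat_lit 9) (nat_lit 7)) (H0.Fi.digW (nat_lit 2) (nat_lit 9) (nat_lit 7)) (nat_lit 26)) i = 0 := allZ_sound0 th_k_26_0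
theorem th_k_27 : ∀ i < 128, (H0.Fi.ncEnt t_P (fun i => ifz (H0.Fi.bit thA i) 0 1) [nat_lit 402, nat_lit 3, nat_lit 163, nat_lit 401, nat_lit 36] thK (H0.Fi.digW (nat_lit 2) (nat_lit 9) (nat_lit 7)) (H0.Fi.digW (nat_lit 2) (nat_lit 9) (nat_lit 7)) (nat_lit 27)) i = 0 := allZ_sound0 th_k_27_0
theorem th_k_28 : ∀ i < 128, (H0.Fi.ncEnt t_P (fun i => ifz (H0.Fi.bit thA i) 0 1) [nat_lit 402, nat_lit 3, nat_lit 163, nat_lit 401, nat_lit 36] thK (H0.Fi.digW (nat_lit 2) (nat_lit 9) (nat_lit 7)) (H0.Fi.digW (nat_lit 2) (nat_lit 9) (nat_lit 7)) (nat_lit 28)) i = 0 := allZ_sound0 th_k_28_0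
theorem th_k_29 : ∀ i < 128, (H0.Fi.ncEnt t_P (fun i => ifz (H0.Fi.bit thA i) 0 1) [nat_lit 402, nat_lit 3, nat_lit 163, nat_lit 401, nat_lit 36] thK (H0.Fi.digW (nat_lit 2) (nat_lit 9) (nat_lit 7)) (H0.Fi.digW (nat_lit 2) (nat_lit 9) (nat_lit 7)) (nat_lit 29)) i = 0 := allZ_sound0 th_k_29_0
theorem th_k_30 : ∀ i < 128, (H0.Fi.ncEnt t_P (fun i => ifz (H0.Fi.bit thA i) 0 1) [nat_lit 402, nat_lit 3, nat_lit 163, nat_lit 401, nat_lit 36] thK (H0.Fi.digW (nat_lit 2) (nat_lit 9) (nat_lit 7)) (H0.Fi.digW (nat_lit 2) (nat_lit 9) (nat_lit 7)) (nat_lit 30)) i = 0 := allZ_sound0 th_k_30_0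
theorem th_k_31 : ∀ i < 128, (H0.Fi.ncEnt t_P (fun i => ifz (H0.Fi.bit thA i) 0 1) [nat_lit 402, nat_lit 3, nat_lit 163, nat_lit 401, nat_lit 36] thK (H0.Fi.digW (nat_lit 2) (nat_lit 9) (nat_lit 7)) (H0.Fi.digW (nat_lit 2) (nat_lit 9) (nat_lit 7)) (nat_lit 31)) i = 0 := allZ_sound0 th_k_31_0
theorem th_k_32 : ∀ i < 128, (H0.Fi.ncEnt t_P (fun i => ifz (H0.Fi.bit thA i) 0 1) [nat_lit 402, nat_lit 3, nat_lit 163, nat_lit 401, nat_lit 36] thK (H0.Fi.digW (nat_lit 2) (nat_lit 9) (nat_lit 7)) (H0.Fi.digW (nat_lit 2) (nat_lit 9) (nat_lit 7)) (nat_lit 32)) i = 0 := allZ_sound0 th_k_32_0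
theorem th_k_33 : ∀ i < 128, (H0.Fi.ncEnt t_P (fun i => ifz (H0.Fi.bit thA i) 0 1) [nat_lit 402, nat_lit 3, nat_lit 163, nat_lit 401, nat_lit 36] thK (H0.Fi.digW (nat_lit 2) (nat_lit 9) (nat_lit 7)) (H0.Fi.digW (nat_lit 2) (nat_lit 9) (nat_lit 7)) (nat_lit 33)) i = 0 := allZ_sound0 th_k_33_0
theorem th_k_34 : ∀ i < 128, (H0.Fi.ncEnt t_P (fun i => ifz (H0.Fi.bit thA i) 0 1) [nat_lit 402, nat_lit 3, nat_lit 163, nat_lit 401, nat_lit 36] thK (H0.Fi.digW (nat_lit 2) (nat_lit 9) (nat_lit 7)) (H0.Fi.digW (nat_lit 2) (nat_lit 9) (nat_lit 7)) (nat_lit 34)) i = 0 := allZ_sound0 th_k_34_0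
theorem th_k_35 : ∀ i < 128, (H0.Fi.ncEnt t_P (fun i => ifz (H0.Fi.bit thA i) 0 1) [nat_lit 402, nat_lit 3, nat_lit 163, nat_lit 401, nat_lit 36] thK (H0.Fi.digW (nat_lit 2) (nat_lit 9) (nat_lit 7)) (H0.Fi.digW (nat_lit 2) (nat_lit 9) (nat_lit 7)) (nat_lit 35)) i = 0 := allZ_sound0 th_k_35_0
theorem th_k_36 : ∀ i < 128, (H0.Fi.ncEnt t_P (fun i => ifz (H0.Fi.bit thA i) 0 1) [nat_lit 402, nat_lit 3, nat_lit 163, nat_lit 401, nat_lit 36] thK (H0.Fi.digW (nat_lit 2) (nat_lit 9) (nat_lit 7)) (H0.Fi.digW (nat_lit 2) (nat_lit 9) (nat_lit 7)) (nat_lit 36)) i = 0 := allZ_sound0 th_k_36_0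
theorem th_k_37 : ∀ i < 128, (H0.Fi.ncEnt t_P (fun i => ifz (H0.Fi.bit thA i) 0 1) [nat_lit 402, nat_lit 3, nat_lit 163, nat_lit 401, nat_lit 36] thK (H0.Fi.digW (nat_lit 2) (nat_lit 9) (nat_lit 7)) (H0.Fi.digW (nat_lit 2) (nat_lit 9) (nat_lit 7)) (nat_lit 37)) i = 0 := allZ_sound0 th_k_37_0
theorem th_k_38 : ∀ i < 128, (H0.Fi.ncEnt t_P (fun i => ifz (H0.Fi.bit thA i) 0 1) [nat_lit 402, nat_lit 3, nat_lit 163, nat_lit 401, nat_lit 36] thK (H0.Fi.digW (nat_lit 2) (nat_lit 9) (nat_lit 7)) (H0.Fi.digW (nat_lit 2) (nat_lit 9) (nat_lit 7)) (nat_lit 38)) i = 0 := allZ_sound0 th_k_38_0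
theorem th_k_39 : ∀ i < 128, (H0.Fi.ncEnt t_P (fun i => ifz (H0.Fi.bit thA i) 0 1) [nat_lit 402, nat_lit 3, nat_lit 163, nat_lit 401, nat_lit 36] thK (H0.Fi.digW (nat_lit 2) (nat_lit 9) (nat_lit 7)) (H0.Fi.digW (nat_lit 2) (nat_lit 9) (nat_lit 7)) (nat_lit 39)) i = 0 := allZ_sound0 th_k_39_0
theorem th_k_40 : ∀ i < 128, (H0.Fi.ncEnt t_P (fun i => ifz (H0.Fi.bit thA i) 0 1) [nat_lit 402, nat_lit 3, nat_lit 163, nat_lit 401, nat_lit 36] thK (H0.Fi.digW (nat_lit 2) (nat_lit 9) (nat_lit 7)) (H0.Fi.digW (nat_lit 2) (nat_lit 9) (nat_lit 7)) (nat_lit 40)) i = 0 := allZ_sound0 th_k_40_0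
theorem th_k_41 : ∀ i < 128, (H0.Fi.ncEnt t_P (fun i => ifz (H0.Fi.bit thA i) 0 1) [nat_lit 402, nat_lit 3, nat_lit 163, nat_lit 401, nat_lit 36] thK (H0.Fi.digW (nat_lit 2) (nat_lit 9) (nat_lit 7)) (H0.Fi.digW (nat_lit 2) (nat_lit 9) (nat_lit 7)) (nat_lit 41)) i = 0 := allZ_sound0 th_k_41_0
theorem th_k_42 : ∀ i < 128, (H0.Fi.ncEnt t_P (fun i => ifz (H0.Fi.bit thA i) 0 1) [nat_lit 402, nat_lit 3, nat_lit 163, nat_lit 401, nat_lit 36] thK (H0.Fi.digW (nat_lit 2) (nat_lit 9) (nat_lit 7)) (H0.Fi.digW (nat_lit 2) (nat_lit 9) (nat_lit 7)) (nat_lit 42)) i = 0 := allZ_sound0 th_k_42_0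
theorem th_k_43 : ∀ i < 128, (H0.Fi.ncEnt t_P (fun i => ifz (H0.Fi.bit thA i) 0 1) [nat_lit 402, nat_lit 3, nat_lit 163, nat_lit 401, nat_lit 36] thK (H0.Fi.digW (nat_lit 2) (nat_lit 9) (nat_lit 7)) (H0.Fi.digW (nat_lit 2) (nat_lit 9) (nat_lit 7)) (nat_lit 43)) i = 0 := allZ_sound0 th_k_43_0
theorem th_k_44 : ∀ i < 128, (H0.Fi.ncEnt t_P (fun i => ifz (H0.Fi.bit thA i) 0 1) [nat_lit 402, nat_lit 3, nat_lit 163, nat_lit 401, nat_lit 36] thK (H0.Fi.digW (nat_lit 2) (nat_lit 9) (nat_lit 7)) (H0.Fi.digW (nat_lit 2) (nat_lit 9) (nat_lit 7)) (nat_lit 44)) i = 0 := allZ_sound0 th_k_44_0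
theorem th_k_45 : ∀ i < 128, (H0.Fi.ncEnt t_P (fun i => ifz (H0.Fi.bit thA i) 0 1) [nat_lit 402, nat_lit 3, nat_lit 163, nat_lit 401, nat_lit 36] thK (H0.Fi.digW (nat_lit 2) (nat_lit 9) (nat_lit 7)) (H0.Fi.digW (nat_lit 2) (nat_lit 9) (nat_lit 7)) (nat_lit 45)) i = 0 := allZ_sound0 th_k_45_0
theorem th_k_46 : ∀ i < 128, (H0.Fi.ncEnt t_P (fun i => ifz (H0.Fi.bit thA i) 0 1) [nat_lit 402, nat_lit 3, nat_lit 163, nat_lit 401, nat_lit 36] thK (H0.Fi.digW (nat_lit 2) (nat_lit 9) (nat_lit 7)) (H0.Fi.digW (nat_lit 2) (nat_lit 9) (nat_lit 7)) (nat_lit 46)) i = 0 := allZ_sound0 th_k_46_0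
theorem th_k_47 : ∀ i < 128, (H0.Fi.ncEnt t_P (fun i => ifz (H0.Fi.bit thA i) 0 1) [nat_lit 402, nat_lit 3, nat_lit 163, nat_lit 401, nat_lit 36] thK (H0.Fi.digW (nat_lit 2) (nat_lit 9) (nat_lit 7)) (H0.Fi.digW (nat_lit 2) (nat_lit 9) (nat_lit 7)) (nat_lit 47)) i = 0 := allZ_sound0 th_k_47_0
theorem th_k_48 : ∀ i < 128, (H0.Fi.ncEnt t_P (fun i => ifz (H0.Fi.bit thA i) 0 1) [nat_lit 402, nat_lit 3, nat_lit 163, nat_lit 401, nat_lit 36] thK (H0.Fi.digW (nat_lit 2) (nat_lit 9) (nat_lit 7)) (H0.Fi.digW (nat_lit 2) (nat_lit 9) (nat_lit 7)) (nat_lit 48)) i = 0 := allZ_sound0 th_k_48_0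
theorem th_k_49 : ∀ i < 128, (H0.Fi.ncEnt t_P (fun i => ifz (H0.Fi.bit thA i) 0 1) [nat_lit 402, nat_lit 3, nat_lit 163, nat_lit 401, nat_lit 36] thK (H0.Fi.digW (nat_lit 2) (nat_lit 9) (nat_lit 7)) (H0.Fi.digW (nat_lit 2) (nat_lit 9) (nat_lit 7)) (nat_lit 49)) i = 0 := allZ_sound0 th_k_49_0
theorem th_k_50 : ∀ i < 128, (H0.Fi.ncEnt t_P (fun i => ifz (H0.Fi.bit thA i) 0 1) [nat_lit 402, nat_lit 3, nat_lit 163, nat_lit 401, nat_lit 36] thK (H0.Fi.digW (nat_lit 2) (nat_lit 9) (nat_lit 7)) (H0.Fi.digW (nat_lit 2) (nat_lit 9) (nat_lit 7)) (nat_lit 50)) i = 0 := allZ_sound0 th_k_50_0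
theorem th_k_51 : ∀ i < 128, (H0.Fi.ncEnt t_P (fun i => ifz (H0.Fi.bit thA i) 0 1) [nat_lit 402, nat_lit 3, nat_lit 163, nat_lit 401, nat_lit 36] thK (H0.Fi.digW (nat_lit 2) (nat_lit 9) (nat_lit 7)) (H0.Fi.digW (nat_lit 2) (nat_lit 9) (nat_lit 7)) (nat_lit 51)) i = 0 := allZ_sound0 th_k_51_0
theorem th_k_52 : ∀ i < 128, (H0.Fi.ncEnt t_P (fun i => ifz (H0.Fi.bit thA i) 0 1) [nat_lit 402, nat_lit 3, nat_lit 163, nat_lit 401, nat_lit 36] thK (H0.Fi.digW (nat_lit 2) (nat_lit 9) (nat_lit 7)) (H0.Fi.digW (nat_lit 2) (nat_lit 9) (nat_lit 7)) (nat_lit 52)) i = 0 := allZ_sound0 th_k_52_0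
theorem th_k_53 : ∀ i < 128, (H0.Fi.ncEnt t_P (fun i => ifz (H0.Fi.bit thA i) 0 1) [nat_lit 402, nat_lit 3, nat_lit 163, nat_lit 401, nat_lit 36] thK (H0.Fi.digW (nat_lit 2) (nat_lit 9) (nat_lit 7)) (H0.Fi.digW (nat_lit 2) (nat_lit 9) (nat_lit 7)) (nat_lit 53)) i = 0 := allZ_sound0 th_k_53_0
theorem th_k_54 : ∀ i < 128, (H0.Fi.ncEnt t_P (fun i => ifz (H0.Fi.bit thA i) 0 1) [nat_lit 402, nat_lit 3, nat_lit 163, nat_lit 401, nat_lit 36] thK (H0.Fi.digW (nat_lit 2) (nat_lit 9) (nat_lit 7)) (H0.Fi.digW (nat_lit 2) (nat_lit 9) (nat_lit 7)) (nat_lit 54)) i = 0 := allZ_sound0 th_k_54_0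
theorem th_k_55 : ∀ i < 128, (H0.Fi.ncEnt t_P (fun i => ifz (H0.Fi.bit thA i) 0 1) [nat_lit 402, nat_lit 3, nat_lit 163, nat_lit 401, nat_lit 36] thK (H0.Fi.digW (nat_lit 2) (nat_lit 9) (nat_lit 7)) (H0.Fi.digW (nat_lit 2) (nat_lit 9) (nat_lit 7)) (nat_lit 55)) i = 0 := allZ_sound0 th_k_55_0
theorem th_k_56 : ∀ i < 128, (H0.Fi.ncEnt t_P (fun i => ifz (H0.Fi.bit thA i) 0 1) [nat_lit 402, nat_lit 3, nat_lit 163, nat_lit 401, nat_lit 36] thK (H0.Fi.digW (nat_lit 2) (nat_lit 9) (nat_lit 7)) (H0.Fi.digW (nat_lit 2) (nat_lit 9) (nat_lit 7)) (nat_lit 56)) i = 0 := allZ_sound0 th_k_56_0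
theorem th_k_57 : ∀ i < 128, (H0.Fi.ncEnt t_P (fun i => ifz (H0.Fi.bit thA i) 0 1) [nat_lit 402, nat_lit 3, nat_lit 163, nat_lit 401, nat_lit 36] thK (H0.Fi.digW (nat_lit 2) (nat_lit 9) (nat_lit 7)) (H0.Fi.digW (nat_lit 2) (nat_lit 9) (nat_lit 7)) (nat_lit 57)) i = 0 := allZ_sound0 th_k_57_0
theorem th_k_58 : ∀ i < 128, (H0.Fi.ncEnt t_P (fun i => ifz (H0.Fi.bit thA i) 0 1) [nat_lit 402, nat_lit 3, nat_lit 163, nat_lit 401, nat_lit 36] thK (H0.Fi.digW (nat_lit 2) (nat_lit 9) (nat_lit 7)) (H0.Fi.digW (nat_lit 2) (nat_lit 9) (nat_lit 7)) (nat_lit 58)) i = 0 := allZ_sound0 th_k_58_0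
theorem th_k_59 : ∀ i < 128, (H0.Fi.ncEnt t_P (fun i => ifz (H0.Fi.bit thA i) 0 1) [nat_lit 402, nat_lit 3, nat_lit 163, nat_lit 401, nat_lit 36] thK (H0.Fi.digW (nat_lit 2) (nat_lit 9) (nat_lit 7)) (H0.Fi.digW (nat_lit 2) (nat_lit 9) (nat_lit 7)) (nat_lit 59)) i = 0 := allZ_sound0 th_k_59_0
theorem th_k_60 : ∀ i < 128, (H0.Fi.ncEnt t_P (fun i => ifz (H0.Fi.bit thA i) 0 1) [nat_lit 402, nat_lit 3, nat_lit 163, nat_lit 401, nat_lit 36] thK (H0.Fi.digW (nat_lit 2) (nat_lit 9) (nat_lit 7)) (H0.Fi.digW (nat_lit 2) (nat_lit 9) (nat_lit 7)) (nat_lit 60)) i = 0 := allZ_sound0 th_k_60_0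
theorem th_k_61 : ∀ i < 128, (H0.Fi.ncEnt t_P (fun i => ifz (H0.Fi.bit thA i) 0 1) [nat_lit 402, nat_lit 3, nat_lit 163, nat_lit 401, nat_lit 36] thK (H0.Fi.digW (nat_lit 2) (nat_lit 9) (nat_lit 7)) (H0.Fi.digW (nat_lit 2) (nat_lit 9) (nat_lit 7)) (nat_lit 61)) i = 0 := allZ_sound0 th_k_61_0
theorem th_k_62 : ∀ i < 128, (H0.Fi.ncEnt t_P (fun i => ifz (H0.Fi.bit thA i) 0 1) [nat_lit 402, nat_lit 3, nat_lit 163, nat_lit 401, nat_lit 36] thK (H0.Fi.digW (nat_lit 2) (nat_lit 9) (nat_lit 7)) (H0.Fi.digW (nat_lit 2) (nat_lit 9) (nat_lit 7)) (nat_lit 62)) i = 0 := allZ_sound0 th_k_62_0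
theorem th_k_63 : ∀ i < 128, (H0.Fi.ncEnt t_P (fun i => ifz (H0.Fi.bit thA i) 0 1) [nat_lit 402, nat_lit 3, nat_lit 163, nat_lit 401, nat_lit 36] thK (H0.Fi.digW (nat_lit 2) (nat_lit 9) (nat_lit 7)) (H0.Fi.digW (nat_lit 2) (nat_lit 9) (nat_lit 7)) (nat_lit 63)) i = 0 := allZ_sound0 th_k_63_0
theorem th_k_64 : ∀ i < 128, (H0.Fi.ncEnt t_P (fun i => ifz (H0.Fi.bit thA i) 0 1) [nat_lit 402, nat_lit 3, nat_lit 163, nat_lit 401, nat_lit 36] thK (H0.Fi.digW (nat_lit 2) (nat_lit 9) (nat_lit 7)) (H0.Fi.digW (nat_lit 2) (nat_lit 9) (nat_lit 7)) (nat_lit 64)) i = 0 := allZ_sound0 th_k_64_0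
theorem th_k_65 : ∀ i < 128, (H0.Fi.ncEnt t_P (fun i => ifz (H0.Fi.bit thA i) 0 1) [nat_lit 402, nat_lit 3, nat_lit 163, nat_lit 401, nat_lit 36] thK (H0.Fi.digW (nat_lit 2) (nat_lit 9) (nat_lit 7)) (H0.Fi.digW (nat_lit 2) (nat_lit 9) (nat_lit 7)) (nat_lit 65)) i = 0 := allZ_sound0 th_k_65_0
theorem th_k_66 : ∀ i < 128, (H0.Fi.ncEnt t_P (fun i => ifz (H0.Fi.bit thA i) 0 1) [nat_lit 402, nat_lit 3, nat_lit 163, nat_lit 401, nat_lit 36] thK (H0.Fi.digW (nat_lit 2) (nat_lit 9) (nat_lit 7)) (H0.Fi.digW (nat_lit 2) (nat_lit 9) (nat_lit 7)) (nat_lit 66)) i = 0 := allZ_sound0 th_k_66_0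
theorem th_k_67 : ∀ i < 128, (H0.Fi.ncEnt t_P (fun i => ifz (H0.Fi.bit thA i) 0 1) [nat_lit 402, nat_lit 3, nat_lit 163, nat_lit 401, nat_lit 36] thK (H0.Fi.digW (nat_lit 2) (nat_lit 9) (nat_lit 7)) (H0.Fi.digW (nat_lit 2) (nat_lit 9) (nat_lit 7)) (nat_lit 67)) i = 0 := allZ_sound0 th_k_67_0
theorem th_k_68 : ∀ i < 128, (H0.Fi.ncEnt t_P (fun i => ifz (H0.Fi.bit thA i) 0 1) [nat_lit 402, nat_lit 3, nat_lit 163, nat_lit 401, nat_lit 36] thK (H0.Fi.digW (nat_lit 2) (nat_lit 9) (nat_lit 7)) (H0.Fi.digW (nat_lit 2) (nat_lit 9) (nat_lit 7)) (nat_lit 68)) i = 0 := allZ_sound0 th_k_68_0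
theorem th_k_69 : ∀ i < 128, (H0.Fi.ncEnt t_P (fun i => ifz (H0.Fi.bit thA i) 0 1) [nat_lit 402, nat_lit 3, nat_lit 163, nat_lit 401, nat_lit 36] thK (H0.Fi.digW (nat_lit 2) (nat_lit 9) (nat_lit 7)) (H0.Fi.digW (nat_lit 2) (nat_lit 9) (nat_lit 7)) (nat_lit 69)) i = 0 := allZ_sound0 th_k_69_0
theorem th_k_70 : ∀ i < 128, (H0.Fi.ncEnt t_P (fun i => ifz (H0.Fi.bit thA i) 0 1) [nat_lit 402, nat_lit 3, nat_lit 163, nat_lit 401, nat_lit 36] thK (H0.Fi.digW (nat_lit 2) (nat_lit 9) (nat_lit 7)) (H0.Fi.digW (nat_lit 2) (nat_lit 9) (nat_lit 7)) (nat_lit 70)) i = 0 := allZ_sound0 th_k_70_0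
theorem th_k_71 : ∀ i < 128, (H0.Fi.ncEnt t_P (fun i => ifz (H0.Fi.bit thA i) 0 1) [nat_lit 402, nat_lit 3, nat_lit 163, nat_lit 401, nat_lit 36] thK (H0.Fi.digW (nat_lit 2) (nat_lit 9) (nat_lit 7)) (H0.Fi.digW (nat_lit 2) (nat_lit 9) (nat_lit 7)) (nat_lit 71)) i = 0 := allZ_sound0 th_k_71_0
theorem th_k_72 : ∀ i < 128, (H0.Fi.ncEnt t_P (fun i => ifz (H0.Fi.bit thA i) 0 1) [nat_lit 402, nat_lit 3, nat_lit 163, nat_lit 401, nat_lit 36] thK (H0.Fi.digW (nat_lit 2) (nat_lit 9) (nat_lit 7)) (H0.Fi.digW (nat_lit 2) (nat_lit 9) (nat_lit 7)) (nat_lit 72)) i = 0 := allZ_sound0 th_k_72_0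
theorem th_k_73 : ∀ i < 128, (H0.Fi.ncEnt t_P (fun i => ifz (H0.Fi.bit thA i) 0 1) [nat_lit 402, nat_lit 3, nat_lit 163, nat_lit 401, nat_lit 36] thK (H0.Fi.digW (nat_lit 2) (nat_lit 9) (nat_lit 7)) (H0.Fi.digW (nat_lit 2) (nat_lit 9) (nat_lit 7)) (nat_lit 73)) i = 0 := allZ_sound0 th_k_73_0
theorem th_k_74 : ∀ i < 128, (H0.Fi.ncEnt t_P (fun i => ifz (H0.Fi.bit thA i) 0 1) [nat_lit 402, nat_lit 3, nat_lit 163, nat_lit 401, nat_lit 36] thK (H0.Fi.digW (nat_lit 2) (nat_lit 9) (nat_lit 7)) (H0.Fi.digW (nat_lit 2) (nat_lit 9) (nat_lit 7)) (nat_lit 74)) i = 0 := allZ_sound0 th_k_74_0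
theorem th_k_75 : ∀ i < 128, (H0.Fi.ncEnt t_P (fun i => ifz (H0.Fi.bit thA i) 0 1) [nat_lit 402, nat_lit 3, nat_lit 163, nat_lit 401, nat_lit 36] thK (H0.Fi.digW (nat_lit 2) (nat_lit 9) (nat_lit 7)) (H0.Fi.digW (nat_lit 2) (nat_lit 9) (nat_lit 7)) (nat_lit 75)) i = 0 := allZ_sound0 th_k_75_0
theorem th_k_76 : ∀ i < 128, (H0.Fi.ncEnt t_P (fun i => ifz (H0.Fi.bit thA i) 0 1) [nat_lit 402, nat_lit 3, nat_lit 163, nat_lit 401, nat_lit 36] thK (H0.Fi.digW (nat_lit 2) (nat_lit 9) (nat_lit 7)) (H0.Fi.digW (nat_lit 2) (nat_lit 9) (nat_lit 7)) (nat_lit 76)) i = 0 := allZ_sound0 th_k_76_0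
theorem th_k_77 : ∀ i < 128, (H0.Fi.ncEnt t_P (fun i => ifz (H0.Fi.bit thA i) 0 1) [nat_lit 402, nat_lit 3, nat_lit 163, nat_lit 401, nat_lit 36] thK (H0.Fi.digW (nat_lit 2) (nat_lit 9) (nat_lit 7)) (H0.Fi.digW (nat_lit 2) (nat_lit 9) (nat_lit 7)) (nat_lit 77)) i = 0 := allZ_sound0 th_k_77_0
theorem th_k_78 : ∀ i < 128, (H0.Fi.ncEnt t_P (fun i => ifz (H0.Fi.bit thA i) 0 1) [nat_lit 402, nat_lit 3, nat_lit 163, nat_lit 401, nat_lit 36] thK (H0.Fi.digW (nat_lit 2) (nat_lit 9) (nat_lit 7)) (H0.Fi.digW (nat_lit 2) (nat_lit 9) (nat_lit 7)) (nat_lit 78)) i = 0 := allZ_sound0 th_k_78_0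
theorem th_k_79 : ∀ i < 128, (H0.Fi.ncEnt t_P (fun i => ifz (H0.Fi.bit thA i) 0 1) [nat_lit 402, nat_lit 3, nat_lit 163, nat_lit 401, nat_lit 36] thK (H0.Fi.digW (nat_lit 2) (nat_lit 9) (nat_lit 7)) (H0.Fi.digW (nat_lit 2) (nat_lit 9) (nat_lit 7)) (nat_lit 79)) i = 0 := allZ_sound0 th_k_79_0
theorem th_k_80 : ∀ i < 128, (H0.Fi.ncEnt t_P (fun i => ifz (H0.Fi.bit thA i) 0 1) [nat_lit 402, nat_lit 3, nat_lit 163, nat_lit 401, nat_lit 36] thK (H0.Fi.digW (nat_lit 2) (nat_lit 9) (nat_lit 7)) (H0.Fi.digW (nat_lit 2) (nat_lit 9) (nat_lit 7)) (nat_lit 80)) i = 0 := allZ_sound0 th_k_80_0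
theorem th_k_81 : ∀ i < 128, (H0.Fi.ncEnt t_P (fun i => ifz (H0.Fi.bit thA i) 0 1) [nat_lit 402, nat_lit 3, nat_lit 163, nat_lit 401, nat_lit 36] thK (H0.Fi.digW (nat_lit 2) (nat_lit 9) (nat_lit 7)) (H0.Fi.digW (nat_lit 2) (nat_lit 9) (nat_lit 7)) (nat_lit 81)) i = 0 := allZ_sound0 th_k_81_0
theorem th_k_82 : ∀ i < 128, (H0.Fi.ncEnt t_P (fun i => ifz (H0.Fi.bit thA i) 0 1) [nat_lit 402, nat_lit 3, nat_lit 163, nat_lit 401, nat_lit 36] thK (H0.Fi.digW (nat_lit 2) (nat_lit 9) (nat_lit 7)) (H0.Fi.digW (nat_lit 2) (nat_lit 9) (nat_lit 7)) (nat_lit 82)) i = 0 := allZ_sound0 th_k_82_0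
theorem th_k_83 : ∀ i < 128, (H0.Fi.ncEnt t_P (fun i => ifz (H0.Fi.bit thA i) 0 1) [nat_lit 402, nat_lit 3, nat_lit 163, nat_lit 401, nat_lit 36] thK (H0.Fi.digW (nat_lit 2) (nat_lit 9) (nat_lit 7)) (H0.Fi.digW (nat_lit 2) (nat_lit 9) (nat_lit 7)) (nat_lit 83)) i = 0 := allZ_sound0 th_k_83_0
theorem th_k_84 : ∀ i < 128, (H0.Fi.ncEnt t_P (fun i => ifz (H0.Fi.bit thA i) 0 1) [nat_lit 402, nat_lit 3, nat_lit 163, nat_lit 401, nat_lit 36] thK (H0.Fi.digW (nat_lit 2) (nat_lit 9) (nat_lit 7)) (H0.Fi.digW (nat_lit 2) (nat_lit 9) (nat_lit 7)) (nat_lit 84)) i = 0 := allZ_sound0 th_k_84_0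
theorem th_k_85 : ∀ i < 128, (H0.Fi.ncEnt t_P (fun i => ifz (H0.Fi.bit thA i) 0 1) [nat_lit 402, nat_lit 3, nat_lit 163, nat_lit 401, nat_lit 36] thK (H0.Fi.digW (nat_lit 2) (nat_lit 9) (nat_lit 7)) (H0.Fi.digW (nat_lit 2) (nat_lit 9) (nat_lit 7)) (nat_lit 85)) i = 0 := allZ_sound0 th_k_85_0
theorem th_k_86 : ∀ i < 128, (H0.Fi.ncEnt t_P (fun i => ifz (H0.Fi.bit thA i) 0 1) [nat_lit 402, nat_lit 3, nat_lit 163, nat_lit 401, nat_lit 36] thK (H0.Fi.digW (nat_lit 2) (nat_lit 9) (nat_lit 7)) (H0.Fi.digW (nat_lit 2) (nat_lit 9) (nat_lit 7)) (nat_lit 86)) i = 0 := allZ_sound0 th_k_86_0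
theorem th_k_87 : ∀ i < 128, (H0.Fi.ncEnt t_P (fun i => ifz (H0.Fi.bit thA i) 0 1) [nat_lit 402, nat_lit 3, nat_lit 163, nat_lit 401, nat_lit 36] thK (H0.Fi.digW (nat_lit 2) (nat_lit 9) (nat_lit 7)) (H0.Fi.digW (nat_lit 2) (nat_lit 9) (nat_lit 7)) (nat_lit 87)) i = 0 := allZ_sound0 th_k_87_0
theorem th_k_88 : ∀ i < 128, (H0.Fi.ncEnt t_P (fun i => ifz (H0.Fi.bit thA i) 0 1) [nat_lit 402, nat_lit 3, nat_lit 163, nat_lit 401, nat_lit 36] thK (H0.Fi.digW (nat_lit 2) (nat_lit 9) (nat_lit 7)) (H0.Fi.digW (nat_lit 2) (nat_lit 9) (nat_lit 7)) (nat_lit 88)) i = 0 := allZ_sound0 th_k_88_0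
theorem th_k_89 : ∀ i < 128, (H0.Fi.ncEnt t_P (fun i => ifz (H0.Fi.bit thA i) 0 1) [nat_lit 402, nat_lit 3, nat_lit 163, nat_lit 401, nat_lit 36] thK (H0.Fi.digW (nat_lit 2) (nat_lit 9) (nat_lit 7)) (H0.Fi.digW (nat_lit 2) (nat_lit 9) (nat_lit 7)) (nat_lit 89)) i = 0 := allZ_sound0 th_k_89_0
theorem th_k_90 : ∀ i < 128, (H0.Fi.ncEnt t_P (fun i => ifz (H0.Fi.bit thA i) 0 1) [nat_lit 402, nat_lit 3, nat_lit 163, nat_lit 401, nat_lit 36] thK (H0.Fi.digW (nat_lit 2) (nat_lit 9) (nat_lit 7)) (H0.Fi.digW (nat_lit 2) (nat_lit 9) (nat_lit 7)) (nat_lit 90)) i = 0 := allZ_sound0 th_k_90_0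
theorem th_k_91 : ∀ i < 128, (H0.Fi.ncEnt t_P (fun i => ifz (H0.Fi.bit thA i) 0 1) [nat_lit 402, nat_lit 3, nat_lit 163, nat_lit 401, nat_lit 36] thK (H0.Fi.digW (nat_lit 2) (nat_lit 9) (nat_lit 7)) (H0.Fi.digW (nat_lit 2) (nat_lit 9) (nat_lit 7)) (nat_lit 91)) i = 0 := allZ_sound0 th_k_91_0
theorem th_k_92 : ∀ i < 128, (H0.Fi.ncEnt t_P (fun i => ifz (H0.Fi.bit thA i) 0 1) [nat_lit 402, nat_lit 3, nat_lit 163, nat_lit 401, nat_lit 36] thK (H0.Fi.digW (nat_lit 2) (nat_lit 9) (nat_lit 7)) (H0.Fi.digW (nat_lit 2) (nat_lit 9) (nat_lit 7)) (nat_lit 92)) i = 0 := allZ_sound0 th_k_92_0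
theorem th_k_93 : ∀ i < 128, (H0.Fi.ncEnt t_P (fun i => ifz (H0.Fi.bit thA i) 0 1) [nat_lit 402, nat_lit 3, nat_lit 163, nat_lit 401, nat_lit 36] thK (H0.Fi.digW (nat_lit 2) (nat_lit 9) (nat_lit 7)) (H0.Fi.digW (nat_lit 2) (nat_lit 9) (nat_lit 7)) (nat_lit 93)) i = 0 := allZ_sound0 th_k_93_0
theorem th_k_94 : ∀ i < 128, (H0.Fi.ncEnt t_P (fun i => ifz (H0.Fi.bit thA i) 0 1) [nat_lit 402, nat_lit 3, nat_lit 163, nat_lit 401, nat_lit 36] thK (H0.Fi.digW (nat_lit 2) (nat_lit 9) (nat_lit 7)) (H0.Fi.digW (nat_lit 2) (nat_lit 9) (nat_lit 7)) (nat_lit 94)) i = 0 := allZ_sound0 th_k_94_0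
theorem th_k_95 : ∀ i < 128, (H0.Fi.ncEnt t_P (fun i => ifz (H0.Fi.bit thA i) 0 1) [nat_lit 402, nat_lit 3, nat_lit 163, nat_lit 401, nat_lit 36] thK (H0.Fi.digW (nat_lit 2) (nat_lit 9) (nat_lit 7)) (H0.Fi.digW (nat_lit 2) (nat_lit 9) (nat_lit 7)) (nat_lit 95)) i = 0 := allZ_sound0 th_k_95_0
theorem th_k_96 : ∀ i < 128, (H0.Fi.ncEnt t_P (fun i => ifz (H0.Fi.bit thA i) 0 1) [nat_lit 402, nat_lit 3, nat_lit 163, nat_lit 401, nat_lit 36] thK (H0.Fi.digW (nat_lit 2) (nat_lit 9) (nat_lit 7)) (H0.Fi.digW (nat_lit 2) (nat_lit 9) (nat_lit 7)) (nat_lit 96)) i = 0 := allZ_sound0 th_k_96_0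
theorem th_k_97 : ∀ i < 128, (H0.Fi.ncEnt t_P (fun i => ifz (H0.Fi.bit thA i) 0 1) [nat_lit 402, nat_lit 3, nat_lit 163, nat_lit 401, nat_lit 36] thK (H0.Fi.digW (nat_lit 2) (nat_lit 9) (nat_lit 7)) (H0.Fi.digW (nat_lit 2) (nat_lit 9) (nat_lit 7)) (nat_lit 97)) i = 0 := allZ_sound0 th_k_97_0
theorem th_k_98 : ∀ i < 128, (H0.Fi.ncEnt t_P (fun i => ifz (H0.Fi.bit thA i) 0 1) [nat_lit 402, nat_lit 3, nat_lit 163, nat_lit 401, nat_lit 36] thK (H0.Fi.digW (nat_lit 2) (nat_lit 9) (nat_lit 7)) (H0.Fi.digW (nat_lit 2) (nat_lit 9) (nat_lit 7)) (nat_lit 98)) i = 0 := allZ_sound0 th_k_98_0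
theorem th_k_99 : ∀ i < 128, (H0.Fi.ncEnt t_P (fun i => ifz (H0.Fi.bit thA i) 0 1) [nat_lit 402, nat_lit 3, nat_lit 163, nat_lit 401, nat_lit 36] thK (H0.Fi.digW (nat_lit 2) (nat_lit 9) (nat_lit 7)) (H0.Fi.digW (nat_lit 2) (nat_lit 9) (nat_lit 7)) (nat_lit 99)) i = 0 := allZ_sound0 th_k_99_0
theorem th_k_100 : ∀ i < 128, (H0.Fi.ncEnt t_P (fun i => ifz (H0.Fi.bit thA i) 0 1) [nat_lit 402, nat_lit 3, nat_lit 163, nat_lit 401, nat_lit 36] thK (H0.Fi.digW (nat_lit 2) (nat_lit 9) (nat_lit 7)) (H0.Fi.digW (nat_lit 2) (nat_lit 9) (nat_lit 7)) (nat_lit 100)) i = 0 := allZ_sound0 th_k_100_0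
theorem th_k_101 : ∀ i < 128, (H0.Fi.ncEnt t_P (fun i => ifz (H0.Fi.bit thA i) 0 1) [nat_lit 402, nat_lit 3, nat_lit 163, nat_lit 401, nat_lit 36] thK (H0.Fi.digW (nat_lit 2) (nat_lit 9) (nat_lit 7)) (H0.Fi.digW (nat_lit 2) (nat_lit 9) (nat_lit 7)) (nat_lit 101)) i = 0 := allZ_sound0 th_k_101_0
theorem th_k_102 : ∀ i < 128, (H0.Fi.ncEnt t_P (fun i => ifz (H0.Fi.bit thA i) 0 1) [nat_lit 402, nat_lit 3, nat_lit 163, nat_lit 401, nat_lit 36] thK (H0.Fi.digW (nat_lit 2) (nat_lit 9) (nat_lit 7)) (H0.Fi.digW (nat_lit 2) (nat_lit 9) (nat_lit 7)) (nat_lit 102)) i = 0 := allZ_sound0 th_k_102_0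
theorem th_k_103 : ∀ i < 128, (H0.Fi.ncEnt t_P (fun i => ifz (H0.Fi.bit thA i) 0 1) [nat_lit 402, nat_lit 3, nat_lit 163, nat_lit 401, nat_lit 36] thK (H0.Fi.digW (nat_lit 2) (nat_lit 9) (nat_lit 7)) (H0.Fi.digW (nat_lit 2) (nat_lit 9) (nat_lit 7)) (nat_lit 103)) i = 0 := allZ_sound0 th_k_103_0
theorem th_k_104 : ∀ i < 128, (H0.Fi.ncEnt t_P (fun i => ifz (H0.Fi.bit thA i) 0 1) [nat_lit 402, nat_lit 3, nat_lit 163, nat_lit 401, nat_lit 36] thK (H0.Fi.digW (nat_lit 2) (nat_lit 9) (nat_lit 7)) (H0.Fi.digW (nat_lit 2) (nat_lit 9) (nat_lit 7)) (nat_lit 104)) i = 0 := allZ_sound0 th_k_104_0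
theorem th_k_105 : ∀ i < 128, (H0.Fi.ncEnt t_P (fun i => ifz (H0.Fi.bit thA i) 0 1) [nat_lit 402, nat_lit 3, nat_lit 163, nat_lit 401, nat_lit 36] thK (H0.Fi.digW (nat_lit 2) (nat_lit 9) (nat_lit 7)) (H0.Fi.digW (nat_lit 2) (nat_lit 9) (nat_lit 7)) (nat_lit 105)) i = 0 := allZ_sound0 th_k_105_0
theorem th_k_106 : ∀ i < 128, (H0.Fi.ncEnt t_P (fun i => ifz (H0.Fi.bit thA i) 0 1) [nat_lit 402, nat_lit 3, nat_lit 163, nat_lit 401, nat_lit 36] thK (H0.Fi.digW (nat_lit 2) (nat_lit 9) (nat_lit 7)) (H0.Fi.digW (nat_lit 2) (nat_lit 9) (nat_lit 7)) (nat_lit 106)) i = 0 := allZ_sound0 th_k_106_0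
theorem th_k_107 : ∀ i < 128, (H0.Fi.ncEnt t_P (fun i => ifz (H0.Fi.bit thA i) 0 1) [nat_lit 402, nat_lit 3, nat_lit 163, nat_lit 401, nat_lit 36] thK (H0.Fi.digW (nat_lit 2) (nat_lit 9) (nat_lit 7)) (H0.Fi.digW (nat_lit 2) (nat_lit 9) (nat_lit 7)) (nat_lit 107)) i = 0 := allZ_sound0 th_k_107_0
theorem th_k_108 : ∀ i < 128, (H0.Fi.ncEnt t_P (fun i => ifz (H0.Fi.bit thA i) 0 1) [nat_lit 402, nat_lit 3, nat_lit 163, nat_lit 401, nat_lit 36] thK (H0.Fi.digW (nat_lit 2) (nat_lit 9) (nat_lit 7)) (H0.Fi.digW (nat_lit 2) (nat_lit 9) (nat_lit 7)) (nat_lit 108)) i = 0 := allZ_sound0 th_k_108_0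
theorem th_k_109 : ∀ i < 128, (H0.Fi.ncEnt t_P (fun i => ifz (H0.Fi.bit thA i) 0 1) [nat_lit 402, nat_lit 3, nat_lit 163, nat_lit 401, nat_lit 36] thK (H0.Fi.digW (nat_lit 2) (nat_lit 9) (nat_lit 7)) (H0.Fi.digW (nat_lit 2) (nat_lit 9) (nat_lit 7)) (nat_lit 109)) i = 0 := allZ_sound0 th_k_109_0
theorem th_k_110 : ∀ i < 128, (H0.Fi.ncEnt t_P (fun i => ifz (H0.Fi.bit thA i) 0 1) [nat_lit 402, nat_lit 3, nat_lit 163, nat_lit 401, nat_lit 36] thK (H0.Fi.digW (nat_lit 2) (nat_lit 9) (nat_lit 7)) (H0.Fi.digW (nat_lit 2) (nat_lit 9) (nat_lit 7)) (nat_lit 110)) i = 0 := allZ_sound0 th_k_110_0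
theorem th_k_111 : ∀ i < 128, (H0.Fi.ncEnt t_P (fun i => ifz (H0.Fi.bit thA i) 0 1) [nat_lit 402, nat_lit 3, nat_lit 163, nat_lit 401, nat_lit 36] thK (H0.Fi.digW (nat_lit 2) (nat_lit 9) (nat_lit 7)) (H0.Fi.digW (nat_lit 2) (nat_lit 9) (nat_lit 7)) (nat_lit 111)) i = 0 := allZ_sound0 th_k_111_0
theorem th_k_112 : ∀ i < 128, (H0.Fi.ncEnt t_P (fun i => ifz (H0.Fi.bit thA i) 0 1) [nat_lit 402, nat_lit 3, nat_lit 163, nat_lit 401, nat_lit 36] thK (H0.Fi.digW (nat_lit 2) (nat_lit 9) (nat_lit 7)) (H0.Fi.digW (nat_lit 2) (nat_lit 9) (nat_lit 7)) (nat_lit 112)) i = 0 := allZ_sound0 th_k_112_0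
theorem th_k_113 : ∀ i < 128, (H0.Fi.ncEnt t_P (fun i => ifz (H0.Fi.bit thA i) 0 1) [nat_lit 402, nat_lit 3, nat_lit 163, nat_lit 401, nat_lit 36] thK (H0.Fi.digW (nat_lit 2) (nat_lit 9) (nat_lit 7)) (H0.Fi.digW (nat_lit 2) (nat_lit 9) (nat_lit 7)) (nat_lit 113)) i = 0 := allZ_sound0 th_k_113_0
theorem th_k_114 : ∀ i < 128, (H0.Fi.ncEnt t_P (fun i => ifz (H0.Fi.bit thA i) 0 1) [nat_lit 402, nat_lit 3, nat_lit 163, nat_lit 401, nat_lit 36] thK (H0.Fi.digW (nat_lit 2) (nat_lit 9) (nat_lit 7)) (H0.Fi.digW (nat_lit 2) (nat_lit 9) (nat_lit 7)) (nat_lit 114)) i = 0 := allZ_sound0 th_k_114_0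
theorem th_k_115 : ∀ i < 128, (H0.Fi.ncEnt t_P (fun i => ifz (H0.Fi.bit thA i) 0 1) [nat_lit 402, nat_lit 3, nat_lit 163, nat_lit 401, nat_lit 36] thK (H0.Fi.digW (nat_lit 2) (nat_lit 9) (nat_lit 7)) (H0.Fi.digW (nat_lit 2) (nat_lit 9) (nat_lit 7)) (nat_lit 115)) i = 0 := allZ_sound0 th_k_115_0
theorem th_k_116 : ∀ i < 128, (H0.Fi.ncEnt t_P (fun i => ifz (H0.Fi.bit thA i) 0 1) [nat_lit 402, nat_lit 3, nat_lit 163, nat_lit 401, nat_lit 36] thK (H0.Fi.digW (nat_lit 2) (nat_lit 9) (nat_lit 7)) (H0.Fi.digW (nat_lit 2) (nat_lit 9) (nat_lit 7)) (nat_lit 116)) i = 0 := allZ_sound0 th_k_116_0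
theorem th_k_117 : ∀ i < 128, (H0.Fi.ncEnt t_P (fun i => ifz (H0.Fi.bit thA i) 0 1) [nat_lit 402, nat_lit 3, nat_lit 163, nat_lit 401, nat_lit 36] thK (H0.Fi.digW (nat_lit 2) (nat_lit 9) (nat_lit 7)) (H0.Fi.digW (nat_lit 2) (nat_lit 9) (nat_lit 7)) (nat_lit 117)) i = 0 := allZ_sound0 th_k_117_0
theorem th_k_118 : ∀ i < 128, (H0.Fi.ncEnt t_P (fun i => ifz (H0.Fi.bit thA i) 0 1) [nat_lit 402, nat_lit 3, nat_lit 163, nat_lit 401, nat_lit 36] thK (H0.Fi.digW (nat_lit 2) (nat_lit 9) (nat_lit 7)) (H0.Fi.digW (nat_lit 2) (nat_lit 9) (nat_lit 7)) (nat_lit 118)) i = 0 := allZ_sound0 th_k_118_0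
theorem th_k_119 : ∀ i < 128, (H0.Fi.ncEnt t_P (fun i => ifz (H0.Fi.bit thA i) 0 1) [nat_lit 402, nat_lit 3, nat_lit 163, nat_lit 401, nat_lit 36] thK (H0.Fi.digW (nat_lit 2) (nat_lit 9) (nat_lit 7)) (H0.Fi.digW (nat_lit 2) (nat_lit 9) (nat_lit 7)) (nat_lit 119)) i = 0 := allZ_sound0 th_k_119_0
theorem th_k_120 : ∀ i < 128, (H0.Fi.ncEnt t_P (fun i => ifz (H0.Fi.bit thA i) 0 1) [nat_lit 402, nat_lit 3, nat_lit 163, nat_lit 401, nat_lit 36] thK (H0.Fi.digW (nat_lit 2) (nat_lit 9) (nat_lit 7)) (H0.Fi.digW (nat_lit 2) (nat_lit 9) (nat_lit 7)) (nat_lit 120)) i = 0 := allZ_sound0 th_k_120_0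
theorem th_k_121 : ∀ i < 128, (H0.Fi.ncEnt t_P (fun i => ifz (H0.Fi.bit thA i) 0 1) [nat_lit 402, nat_lit 3, nat_lit 163, nat_lit 401, nat_lit 36] thK (H0.Fi.digW (nat_lit 2) (nat_lit 9) (nat_lit 7)) (H0.Fi.digW (nat_lit 2) (nat_lit 9) (nat_lit 7)) (nat_lit 121)) i = 0 := allZ_sound0 th_k_121_0
theorem th_k_122 : ∀ i < 128, (H0.Fi.ncEnt t_P (fun i => ifz (H0.Fi.bit thA i) 0 1) [nat_lit 402, nat_lit 3, nat_lit 163, nat_lit 401, nat_lit 36] thK (H0.Fi.digW (nat_lit 2) (nat_lit 9) (nat_lit 7)) (H0.Fi.digW (nat_lit 2) (nat_lit 9) (nat_lit 7)) (nat_lit 122)) i = 0 := allZ_sound0 th_k_122_0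
theorem th_k_123 : ∀ i < 128, (H0.Fi.ncEnt t_P (fun i => ifz (H0.Fi.bit thA i) 0 1) [nat_lit 402, nat_lit 3, nat_lit 163, nat_lit 401, nat_lit 36] thK (H0.Fi.digW (nat_lit 2) (nat_lit 9) (nat_lit 7)) (H0.Fi.digW (nat_lit 2) (nat_lit 9) (nat_lit 7)) (nat_lit 123)) i = 0 := allZ_sound0 th_k_123_0
theorem th_k_124 : ∀ i < 128, (H0.Fi.ncEnt t_P (fun i => ifz (H0.Fi.bit thA i) 0 1) [nat_lit 402, nat_lit 3, nat_lit 163, nat_lit 401, nat_lit 36] thK (H0.Fi.digW (nat_lit 2) (nat_lit 9) (nat_lit 7)) (H0.Fi.digW (nat_lit 2) (nat_lit 9) (nat_lit 7)) (nat_lit 124)) i = 0 := allZ_sound0 th_k_124_0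
theorem th_k_125 : ∀ i < 128, (H0.Fi.ncEnt t_P (fun i => ifz (H0.Fi.bit thA i) 0 1) [nat_lit 402, nat_lit 3, nat_lit 163, nat_lit 401, nat_lit 36] thK (H0.Fi.digW (nat_lit 2) (nat_lit 9) (nat_lit 7)) (H0.Fi.digW (nat_lit 2) (nat_lit 9) (nat_lit 7)) (nat_lit 125)) i = 0 := allZ_sound0 th_k_125_0
theorem th_k_126 : ∀ i < 128, (H0.Fi.ncEnt t_P (fun i => ifz (H0.Fi.bit thA i) 0 1) [nat_lit 402, nat_lit 3, nat_lit 163, nat_lit 401, nat_lit 36] thK (H0.Fi.digW (nat_lit 2) (nat_lit 9) (nat_lit 7)) (H0.Fi.digW (nat_lit 2) (nat_lit 9) (nat_lit 7)) (nat_lit 126)) i = 0 := allZ_sound0 th_k_126_0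
theorem th_k_127 : ∀ i < 128, (H0.Fi.ncEnt t_P (fun i => ifz (H0.Fi.bit thA i) 0 1) [nat_lit 402, nat_lit 3, nat_lit 163, nat_lit 401, nat_lit 36] thK (H0.Fi.digW (nat_lit 2) (nat_lit 9) (nat_lit 7)) (H0.Fi.digW (nat_lit 2) (nat_lit 9) (nat_lit 7)) (nat_lit 127)) i = 0 := allZ_sound0 th_k_127_0
theorem th_k : ∀ k < 128, ∀ i < 128, (H0.Fi.ncEnt t_P (fun i => ifz (H0.Fi.bit thA i) 0 1) [nat_lit 402, nat_lit 3, nat_lit 163, nat_lit 401, nat_lit 36] thK (H0.Fi.digW (nat_lit 2) (nat_lit 9) (nat_lit 7)) (H0.Fi.digW (nat_lit 2) (nat_lit 9) (nat_lit 7))) k i = 0 :=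
  letters_glue (letters_glue (letters_glue (letters_glue (letters_glue (letters_glue (letters_glue (letters_glue (letters_glue (letters_glue (letters_glue (letters_glue (letters_glue (letters_glue (letters_glue (letters_glue (letters_glue (letters_glue (letters_glue (letters_glue (letters_glue (letters_glue (letters_glue (letters_glue (letters_glue (letters_glue (letters_glue (letters_glue (letters_glue (letters_glue (letters_glue (letters_glue (letters_glue (letters_glue (letters_glue (letters_glue (letters_glue (letters_glue (letters_glue (letters_glue (letters_glue (letters_glue (letters_glue (letters_glue (letters_glue (letters_glue (letters_glue (letters_glue (letters_glue (letters_glue (letters_glue (letters_glue (letters_glue (letters_glue (letters_glue (letters_glue (letters_glue (letters_glue (letters_glue (letters_glue (letters_glue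 (letters_glue (letters_glue (letters_glue (letters_glue (letters_glue (letters_glue (letters_glue (letters_glue (letters_glue (letters_glue (letters_glue (letters_glue (letters_glue (letters_glue (letters_glue (letters_glue (letters_glue (letters_glue (letters_glue (letters_glue (letters_glue (letters_glue (letters_glue (letters_glue (letters_glue (letters_glue (letters_glue (letters_glue (letters_glue (letters_glue (letters_glue (letters_glue (letters_glue (letters_glue (letters_glue (letters_glue (letters_glue (letters_glue (letters_glue (letters_glue (letters_glue (letters_glue (letters_glue (letters_glue (letters_glue (letters_glue (letters_glue (letters_glue (letters_glue (letters_glue (letters_glue (letters_glue (letters_glue (letters_glue (letters_glue (letters_glue (letters_glue (letters_glue (letters_glue (letters_glue (letters_glue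 (letters_glue (letters_glue (letters_glue (letters_glue (letters_glue (letters_glue (letters_nil) th_k_0) th_k_1) th_k_2) th_k_3) th_k_4) th_k_5) th_k_6) th_k_7) th_k_8) th_k_9) th_k_10) th_k_11) th_k_12) th_k_13) th_k_14) th_k_15) th_k_16) th_k_17) th_k_18) th_k_19) th_k_20) th_k_21) th_k_22) th_k_23) th_k_24) th_k_25) th_k_26) th_k_27) th_k_28) th_k_29) th_k_30) th_k_31) th_k_32) th_k_33) th_k_34) th_k_35) th_k_36) th_k_37) th_k_38) th_k_39) th_k_40) th_k_41) th_k_42) th_k_43) th_k_44) th_k_45) th_k_46) th_k_47) th_k_48) th_k_49) th_k_50) th_k_51) th_k_52) th_k_53) th_k_54) th_k_55) th_k_56) th_k_57) th_k_58) th_k_59) th_k_60) th_k_61) th_k_62) th_k_63) th_k_64) th_k_65) th_k_66) th_k_67) th_k_68) th_k_69) th_k_70) th_k_71) th_k_72) th_k_73) th_k_74) th_k_75) th_k_76) th_k_77) th_k_78) th_k_79) th_k_80) th_k_81) th_k_82) th_k_83) th_k_84)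 th_k_85) th_k_86) th_k_87) th_k_88) th_k_89) th_k_90) th_k_91) th_k_92) th_k_93) th_k_94) th_k_95) th_k_96) th_k_97) th_k_98) th_k_99) th_k_100) th_k_101) th_k_102) th_k_103) th_k_104) th_k_105) th_k_106) th_k_107) th_k_108) th_k_109) th_k_110) th_k_111) th_k_112) th_k_113) th_k_114) th_k_115) th_k_116) th_k_117) th_k_118) th_k_119) th_k_120) th_k_121) th_k_122) th_k_123) th_k_124) th_k_125) th_k_126) th_k_127
theorem th_f_0 : ∀ i < 512, (H0.Fi.ncEnt t_P id [nat_lit 205, nat_lit 288] thF (H0.Fi.digW (nat_lit 2) (nat_lit 9) (nat_lit 7)) (H0.Fi.digW (nat_lit 2) (nat_lit 0) (nat_lit 9)) (nat_lit 0)) i = 0 := allZ_sound0 th_f_0_0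
theorem th_f_1 : ∀ i < 512, (H0.Fi.ncEnt t_P id [nat_lit 205, nat_lit 288] thF (H0.Fi.digW (nat_lit 2) (nat_lit 9) (nat_lit 7)) (H0.Fi.digW (nat_lit 2) (nat_lit 0) (nat_lit 9)) (nat_lit 1)) i = 0 := allZ_sound0 th_f_1_0
theorem th_f_2 : ∀ i < 512, (H0.Fi.ncEnt t_P id [nat_lit 205, nat_lit 288] thF (H0.Fi.digW (nat_lit 2) (nat_lit 9) (nat_lit 7)) (H0.Fi.digW (nat_lit 2) (nat_lit 0) (nat_lit 9)) (nat_lit 2)) i = 0 := allZ_sound0 th_f_2_0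
theorem th_f_3 : ∀ i < 512, (H0.Fi.ncEnt t_P id [nat_lit 205, nat_lit 288] thF (H0.Fi.digW (nat_lit 2) (nat_lit 9) (nat_lit 7)) (H0.Fi.digW (nat_lit 2) (nat_lit 0) (nat_lit 9)) (nat_lit 3)) i = 0 := allZ_sound0 th_f_3_0
theorem th_f_4 : ∀ i < 512, (H0.Fi.ncEnt t_P id [nat_lit 205, nat_lit 288] thF (H0.Fi.digW (nat_lit 2) (nat_lit 9) (nat_lit 7)) (H0.Fi.digW (nat_lit 2) (nat_lit 0) (nat_lit 9)) (nat_lit 4)) i = 0 := allZ_sound0 th_f_4_0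
theorem th_f_5 : ∀ i < 512, (H0.Fi.ncEnt t_P id [nat_lit 205, nat_lit 288] thF (H0.Fi.digW (nat_lit 2) (nat_lit 9) (nat_lit 7)) (H0.Fi.digW (nat_lit 2) (nat_lit 0) (nat_lit 9)) (nat_lit 5)) i = 0 := allZ_sound0 th_f_5_0
theorem th_f_6 : ∀ i < 512, (H0.Fi.ncEnt t_P id [nat_lit 205, nat_lit 288] thF (H0.Fi.digW (nat_lit 2) (nat_lit 9) (nat_lit 7)) (H0.Fi.digW (nat_lit 2) (nat_lit 0) (nat_lit 9)) (nat_lit 6)) i = 0 := allZ_sound0 th_f_6_0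
theorem th_f_7 : ∀ i < 512, (H0.Fi.ncEnt t_P id [nat_lit 205, nat_lit 288] thF (H0.Fi.digW (nat_lit 2) (nat_lit 9) (nat_lit 7)) (H0.Fi.digW (nat_lit 2) (nat_lit 0) (nat_lit 9)) (nat_lit 7)) i = 0 := allZ_sound0 th_f_7_0
theorem th_f_8 : ∀ i < 512, (H0.Fi.ncEnt t_P id [nat_lit 205, nat_lit 288] thF (H0.Fi.digW (nat_lit 2) (nat_lit 9) (nat_lit 7)) (H0.Fi.digW (nat_lit 2) (nat_lit 0) (nat_lit 9)) (nat_lit 8)) i = 0 := allZ_sound0 th_f_8_0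
theorem th_f_9 : ∀ i < 512, (H0.Fi.ncEnt t_P id [nat_lit 205, nat_lit 288] thF (H0.Fi.digW (nat_lit 2) (nat_lit 9) (nat_lit 7)) (H0.Fi.digW (nat_lit 2) (nat_lit 0) (nat_lit 9)) (nat_lit 9)) i = 0 := allZ_sound0 th_f_9_0
theorem th_f_10 : ∀ i < 512, (H0.Fi.ncEnt t_P id [nat_lit 205, nat_lit 288] thF (H0.Fi.digW (nat_lit 2) (nat_lit 9) (nat_lit 7)) (H0.Fi.digW (nat_lit 2) (nat_lit 0) (nat_lit 9)) (nat_lit 10)) i = 0 := allZ_sound0 th_f_10_0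
theorem th_f_11 : ∀ i < 512, (H0.Fi.ncEnt t_P id [nat_lit 205, nat_lit 288] thF (H0.Fi.digW (nat_lit 2) (nat_lit 9) (nat_lit 7)) (H0.Fi.digW (nat_lit 2) (nat_lit 0) (nat_lit 9)) (nat_lit 11)) i = 0 := allZ_sound0 th_f_11_0
theorem th_f_12 : ∀ i < 512, (H0.Fi.ncEnt t_P id [nat_lit 205, nat_lit 288] thF (H0.Fi.digW (nat_lit 2) (nat_lit 9) (nat_lit 7)) (H0.Fi.digW (nat_lit 2) (nat_lit 0) (nat_lit 9)) (nat_lit 12)) i = 0 := allZ_sound0 th_f_12_0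
theorem th_f_13 : ∀ i < 512, (H0.Fi.ncEnt t_P id [nat_lit 205, nat_lit 288] thF (H0.Fi.digW (nat_lit 2) (nat_lit 9) (nat_lit 7)) (H0.Fi.digW (nat_lit 2) (nat_lit 0) (nat_lit 9)) (nat_lit 13)) i = 0 := allZ_sound0 th_f_13_0
theorem th_f_14 : ∀ i < 512, (H0.Fi.ncEnt t_P id [nat_lit 205, nat_lit 288] thF (H0.Fi.digW (nat_lit 2) (nat_lit 9) (nat_lit 7)) (H0.Fi.digW (nat_lit 2) (nat_lit 0) (nat_lit 9)) (nat_lit 14)) i = 0 := allZ_sound0 th_f_14_0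
theorem th_f_15 : ∀ i < 512, (H0.Fi.ncEnt t_P id [nat_lit 205, nat_lit 288] thF (H0.Fi.digW (nat_lit 2) (nat_lit 9) (nat_lit 7)) (H0.Fi.digW (nat_lit 2) (nat_lit 0) (nat_lit 9)) (nat_lit 15)) i = 0 := allZ_sound0 th_f_15_0
theorem th_f_16 : ∀ i < 512, (H0.Fi.ncEnt t_P id [nat_lit 205, nat_lit 288] thF (H0.Fi.digW (nat_lit 2) (nat_lit 9) (nat_lit 7)) (H0.Fi.digW (nat_lit 2) (nat_lit 0) (nat_lit 9)) (nat_lit 16)) i = 0 := allZ_sound0 th_f_16_0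
theorem th_f_17 : ∀ i < 512, (H0.Fi.ncEnt t_P id [nat_lit 205, nat_lit 288] thF (H0.Fi.digW (nat_lit 2) (nat_lit 9) (nat_lit 7)) (H0.Fi.digW (nat_lit 2) (nat_lit 0) (nat_lit 9)) (nat_lit 17)) i = 0 := allZ_sound0 th_f_17_0
theorem th_f_18 : ∀ i < 512, (H0.Fi.ncEnt t_P id [nat_lit 205, nat_lit 288] thF (H0.Fi.digW (nat_lit 2) (nat_lit 9) (nat_lit 7)) (H0.Fi.digW (nat_lit 2) (nat_lit 0) (nat_lit 9)) (nat_lit 18)) i = 0 := allZ_sound0 th_f_18_0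
theorem th_f_19 : ∀ i < 512, (H0.Fi.ncEnt t_P id [nat_lit 205, nat_lit 288] thF (H0.Fi.digW (nat_lit 2) (nat_lit 9) (nat_lit 7)) (H0.Fi.digW (nat_lit 2) (nat_lit 0) (nat_lit 9)) (nat_lit 19)) i = 0 := allZ_sound0 th_f_19_0
theorem th_f_20 : ∀ i < 512, (H0.Fi.ncEnt t_P id [nat_lit 205, nat_lit 288] thF (H0.Fi.digW (nat_lit 2) (nat_lit 9) (nat_lit 7)) (H0.Fi.digW (nat_lit 2) (nat_lit 0) (nat_lit 9)) (nat_lit 20)) i = 0 := allZ_sound0 th_f_20_0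
theorem th_f_21 : ∀ i < 512, (H0.Fi.ncEnt t_P id [nat_lit 205, nat_lit 288] thF (H0.Fi.digW (nat_lit 2) (nat_lit 9) (nat_lit 7)) (H0.Fi.digW (nat_lit 2) (nat_lit 0) (nat_lit 9)) (nat_lit 21)) i = 0 := allZ_sound0 th_f_21_0
theorem th_f_22 : ∀ i < 512, (H0.Fi.ncEnt t_P id [nat_lit 205, nat_lit 288] thF (H0.Fi.digW (nat_lit 2) (nat_lit 9) (nat_lit 7)) (H0.Fi.digW (nat_lit 2) (nat_lit 0) (nat_lit 9)) (nat_lit 22)) i = 0 := allZ_sound0 th_f_22_0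
theorem th_f_23 : ∀ i < 512, (H0.Fi.ncEnt t_P id [nat_lit 205, nat_lit 288] thF (H0.Fi.digW (nat_lit 2) (nat_lit 9) (nat_lit 7)) (H0.Fi.digW (nat_lit 2) (nat_lit 0) (nat_lit 9)) (nat_lit 23)) i = 0 := allZ_sound0 th_f_23_0
theorem th_f_24 : ∀ i < 512, (H0.Fi.ncEnt t_P id [nat_lit 205, nat_lit 288] thF (H0.Fi.digW (nat_lit 2) (nat_lit 9) (nat_lit 7)) (H0.Fi.digW (nat_lit 2) (nat_lit 0) (nat_lit 9)) (nat_lit 24)) i = 0 := allZ_sound0 th_f_24_0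
theorem th_f_25 : ∀ i < 512, (H0.Fi.ncEnt t_P id [nat_lit 205, nat_lit 288] thF (H0.Fi.digW (nat_lit 2) (nat_lit 9) (nat_lit 7)) (H0.Fi.digW (nat_lit 2) (nat_lit 0) (nat_lit 9)) (nat_lit 25)) i = 0 := allZ_sound0 th_f_25_0
theorem th_f_26 : ∀ i < 512, (H0.Fi.ncEnt t_P id [nat_lit 205, nat_lit 288] thF (H0.Fi.digW (nat_lit 2) (nat_lit 9) (nat_lit 7)) (H0.Fi.digW (nat_lit 2) (nat_lit 0) (nat_lit 9)) (nat_lit 26)) i = 0 := allZ_sound0 th_f_26_0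
theorem th_f_27 : ∀ i < 512, (H0.Fi.ncEnt t_P id [nat_lit 205, nat_lit 288] thF (H0.Fi.digW (nat_lit 2) (nat_lit 9) (nat_lit 7)) (H0.Fi.digW (nat_lit 2) (nat_lit 0) (nat_lit 9)) (nat_lit 27)) i = 0 := allZ_sound0 th_f_27_0
theorem th_f_28 : ∀ i < 512, (H0.Fi.ncEnt t_P id [nat_lit 205, nat_lit 288] thF (H0.Fi.digW (nat_lit 2) (nat_lit 9) (nat_lit 7)) (H0.Fi.digW (nat_lit 2) (nat_lit 0) (nat_lit 9)) (nat_lit 28)) i = 0 := allZ_sound0 th_f_28_0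
theorem th_f_29 : ∀ i < 512, (H0.Fi.ncEnt t_P id [nat_lit 205, nat_lit 288] thF (H0.Fi.digW (nat_lit 2) (nat_lit 9) (nat_lit 7)) (H0.Fi.digW (nat_lit 2) (nat_lit 0) (nat_lit 9)) (nat_lit 29)) i = 0 := allZ_sound0 th_f_29_0
theorem th_f_30 : ∀ i < 512, (H0.Fi.ncEnt t_P id [nat_lit 205, nat_lit 288] thF (H0.Fi.digW (nat_lit 2) (nat_lit 9) (nat_lit 7)) (H0.Fi.digW (nat_lit 2) (nat_lit 0) (nat_lit 9)) (nat_lit 30)) i = 0 := allZ_sound0 th_f_30_0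
theorem th_f_31 : ∀ i < 512, (H0.Fi.ncEnt t_P id [nat_lit 205, nat_lit 288] thF (H0.Fi.digW (nat_lit 2) (nat_lit 9) (nat_lit 7)) (H0.Fi.digW (nat_lit 2) (nat_lit 0) (nat_lit 9)) (nat_lit 31)) i = 0 := allZ_sound0 th_f_31_0
theorem th_f_32 : ∀ i < 512, (H0.Fi.ncEnt t_P id [nat_lit 205, nat_lit 288] thF (H0.Fi.digW (nat_lit 2) (nat_lit 9) (nat_lit 7)) (H0.Fi.digW (nat_lit 2) (nat_lit 0) (nat_lit 9)) (nat_lit 32)) i = 0 := allZ_sound0 th_f_32_0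
theorem th_f_33 : ∀ i < 512, (H0.Fi.ncEnt t_P id [nat_lit 205, nat_lit 288] thF (H0.Fi.digW (nat_lit 2) (nat_lit 9) (nat_lit 7)) (H0.Fi.digW (nat_lit 2) (nat_lit 0) (nat_lit 9)) (nat_lit 33)) i = 0 := allZ_sound0 th_f_33_0
theorem th_f_34 : ∀ i < 512, (H0.Fi.ncEnt t_P id [nat_lit 205, nat_lit 288] thF (H0.Fi.digW (nat_lit 2) (nat_lit 9) (nat_lit 7)) (H0.Fi.digW (nat_lit 2) (nat_lit 0) (nat_lit 9)) (nat_lit 34)) i = 0 := allZ_sound0 th_f_34_0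
theorem th_f_35 : ∀ i < 512, (H0.Fi.ncEnt t_P id [nat_lit 205, nat_lit 288] thF (H0.Fi.digW (nat_lit 2) (nat_lit 9) (nat_lit 7)) (H0.Fi.digW (nat_lit 2) (nat_lit 0) (nat_lit 9)) (nat_lit 35)) i = 0 := allZ_sound0 th_f_35_0
theorem th_f_36 : ∀ i < 512, (H0.Fi.ncEnt t_P id [nat_lit 205, nat_lit 288] thF (H0.Fi.digW (nat_lit 2) (nat_lit 9) (nat_lit 7)) (H0.Fi.digW (nat_lit 2) (nat_lit 0) (nat_lit 9)) (nat_lit 36)) i = 0 := allZ_sound0 th_f_36_0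
theorem th_f_37 : ∀ i < 512, (H0.Fi.ncEnt t_P id [nat_lit 205, nat_lit 288] thF (H0.Fi.digW (nat_lit 2) (nat_lit 9) (nat_lit 7)) (H0.Fi.digW (nat_lit 2) (nat_lit 0) (nat_lit 9)) (nat_lit 37)) i = 0 := allZ_sound0 th_f_37_0
theorem th_f_38 : ∀ i < 512, (H0.Fi.ncEnt t_P id [nat_lit 205, nat_lit 288] thF (H0.Fi.digW (nat_lit 2) (nat_lit 9) (nat_lit 7)) (H0.Fi.digW (nat_lit 2) (nat_lit 0) (nat_lit 9)) (nat_lit 38)) i = 0 := allZ_sound0 th_f_38_0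
theorem th_f_39 : ∀ i < 512, (H0.Fi.ncEnt t_P id [nat_lit 205, nat_lit 288] thF (H0.Fi.digW (nat_lit 2) (nat_lit 9) (nat_lit 7)) (H0.Fi.digW (nat_lit 2) (nat_lit 0) (nat_lit 9)) (nat_lit 39)) i = 0 := allZ_sound0 th_f_39_0
theorem th_f_40 : ∀ i < 512, (H0.Fi.ncEnt t_P id [nat_lit 205, nat_lit 288] thF (H0.Fi.digW (nat_lit 2) (nat_lit 9) (nat_lit 7)) (H0.Fi.digW (nat_lit 2) (nat_lit 0) (nat_lit 9)) (nat_lit 40)) i = 0 := allZ_sound0 th_f_40_0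
theorem th_f_41 : ∀ i < 512, (H0.Fi.ncEnt t_P id [nat_lit 205, nat_lit 288] thF (H0.Fi.digW (nat_lit 2) (nat_lit 9) (nat_lit 7)) (H0.Fi.digW (nat_lit 2) (nat_lit 0) (nat_lit 9)) (nat_lit 41)) i = 0 := allZ_sound0 th_f_41_0
theorem th_f_42 : ∀ i < 512, (H0.Fi.ncEnt t_P id [nat_lit 205, nat_lit 288] thF (H0.Fi.digW (nat_lit 2) (nat_lit 9) (nat_lit 7)) (H0.Fi.digW (nat_lit 2) (nat_lit 0) (nat_lit 9)) (nat_lit 42)) i = 0 := allZ_sound0 th_f_42_0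
theorem th_f_43 : ∀ i < 512, (H0.Fi.ncEnt t_P id [nat_lit 205, nat_lit 288] thF (H0.Fi.digW (nat_lit 2) (nat_lit 9) (nat_lit 7)) (H0.Fi.digW (nat_lit 2) (nat_lit 0) (nat_lit 9)) (nat_lit 43)) i = 0 := allZ_sound0 th_f_43_0
theorem th_f_44 : ∀ i < 512, (H0.Fi.ncEnt t_P id [nat_lit 205, nat_lit 288] thF (H0.Fi.digW (nat_lit 2) (nat_lit 9) (nat_lit 7)) (H0.Fi.digW (nat_lit 2) (nat_lit 0) (nat_lit 9)) (nat_lit 44)) i = 0 := allZ_sound0 th_f_44_0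
theorem th_f_45 : ∀ i < 512, (H0.Fi.ncEnt t_P id [nat_lit 205, nat_lit 288] thF (H0.Fi.digW (nat_lit 2) (nat_lit 9) (nat_lit 7)) (H0.Fi.digW (nat_lit 2) (nat_lit 0) (nat_lit 9)) (nat_lit 45)) i = 0 := allZ_sound0 th_f_45_0
theorem th_f_46 : ∀ i < 512, (H0.Fi.ncEnt t_P id [nat_lit 205, nat_lit 288] thF (H0.Fi.digW (nat_lit 2) (nat_lit 9) (nat_lit 7)) (H0.Fi.digW (nat_lit 2) (nat_lit 0) (nat_lit 9)) (nat_lit 46)) i = 0 := allZ_sound0 th_f_46_0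
theorem th_f_47 : ∀ i < 512, (H0.Fi.ncEnt t_P id [nat_lit 205, nat_lit 288] thF (H0.Fi.digW (nat_lit 2) (nat_lit 9) (nat_lit 7)) (H0.Fi.digW (nat_lit 2) (nat_lit 0) (nat_lit 9)) (nat_lit 47)) i = 0 := allZ_sound0 th_f_47_0
theorem th_f_48 : ∀ i < 512, (H0.Fi.ncEnt t_P id [nat_lit 205, nat_lit 288] thF (H0.Fi.digW (nat_lit 2) (nat_lit 9) (nat_lit 7)) (H0.Fi.digW (nat_lit 2) (nat_lit 0) (nat_lit 9)) (nat_lit 48)) i = 0 := allZ_sound0 th_f_48_0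
theorem th_f_49 : ∀ i < 512, (H0.Fi.ncEnt t_P id [nat_lit 205, nat_lit 288] thF (H0.Fi.digW (nat_lit 2) (nat_lit 9) (nat_lit 7)) (H0.Fi.digW (nat_lit 2) (nat_lit 0) (nat_lit 9)) (nat_lit 49)) i = 0 := allZ_sound0 th_f_49_0
theorem th_f_50 : ∀ i < 512, (H0.Fi.ncEnt t_P id [nat_lit 205, nat_lit 288] thF (H0.Fi.digW (nat_lit 2) (nat_lit 9) (nat_lit 7)) (H0.Fi.digW (nat_lit 2) (nat_lit 0) (nat_lit 9)) (nat_lit 50)) i = 0 := allZ_sound0 th_f_50_0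
theorem th_f_51 : ∀ i < 512, (H0.Fi.ncEnt t_P id [nat_lit 205, nat_lit 288] thF (H0.Fi.digW (nat_lit 2) (nat_lit 9) (nat_lit 7)) (H0.Fi.digW (nat_lit 2) (nat_lit 0) (nat_lit 9)) (nat_lit 51)) i = 0 := allZ_sound0 th_f_51_0
theorem th_f_52 : ∀ i < 512, (H0.Fi.ncEnt t_P id [nat_lit 205, nat_lit 288] thF (H0.Fi.digW (nat_lit 2) (nat_lit 9) (nat_lit 7)) (H0.Fi.digW (nat_lit 2) (nat_lit 0) (nat_lit 9)) (nat_lit 52)) i = 0 := allZ_sound0 th_f_52_0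
theorem th_f_53 : ∀ i < 512, (H0.Fi.ncEnt t_P id [nat_lit 205, nat_lit 288] thF (H0.Fi.digW (nat_lit 2) (nat_lit 9) (nat_lit 7)) (H0.Fi.digW (nat_lit 2) (nat_lit 0) (nat_lit 9)) (nat_lit 53)) i = 0 := allZ_sound0 th_f_53_0
theorem th_f_54 : ∀ i < 512, (H0.Fi.ncEnt t_P id [nat_lit 205, nat_lit 288] thF (H0.Fi.digW (nat_lit 2) (nat_lit 9) (nat_lit 7)) (H0.Fi.digW (nat_lit 2) (nat_lit 0) (nat_lit 9)) (nat_lit 54)) i = 0 := allZ_sound0 th_f_54_0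
theorem th_f_55 : ∀ i < 512, (H0.Fi.ncEnt t_P id [nat_lit 205, nat_lit 288] thF (H0.Fi.digW (nat_lit 2) (nat_lit 9) (nat_lit 7)) (H0.Fi.digW (nat_lit 2) (nat_lit 0) (nat_lit 9)) (nat_lit 55)) i = 0 := allZ_sound0 th_f_55_0
theorem th_f_56 : ∀ i < 512, (H0.Fi.ncEnt t_P id [nat_lit 205, nat_lit 288] thF (H0.Fi.digW (nat_lit 2) (nat_lit 9) (nat_lit 7)) (H0.Fi.digW (nat_lit 2) (nat_lit 0) (nat_lit 9)) (nat_lit 56)) i = 0 := allZ_sound0 th_f_56_0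
theorem th_f_57 : ∀ i < 512, (H0.Fi.ncEnt t_P id [nat_lit 205, nat_lit 288] thF (H0.Fi.digW (nat_lit 2) (nat_lit 9) (nat_lit 7)) (H0.Fi.digW (nat_lit 2) (nat_lit 0) (nat_lit 9)) (nat_lit 57)) i = 0 := allZ_sound0 th_f_57_0
theorem th_f_58 : ∀ i < 512, (H0.Fi.ncEnt t_P id [nat_lit 205, nat_lit 288] thF (H0.Fi.digW (nat_lit 2) (nat_lit 9) (nat_lit 7)) (H0.Fi.digW (nat_lit 2) (nat_lit 0) (nat_lit 9)) (nat_lit 58)) i = 0 := allZ_sound0 th_f_58_0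
theorem th_f_59 : ∀ i < 512, (H0.Fi.ncEnt t_P id [nat_lit 205, nat_lit 288] thF (H0.Fi.digW (nat_lit 2) (nat_lit 9) (nat_lit 7)) (H0.Fi.digW (nat_lit 2) (nat_lit 0) (nat_lit 9)) (nat_lit 59)) i = 0 := allZ_sound0 th_f_59_0
theorem th_f_60 : ∀ i < 512, (H0.Fi.ncEnt t_P id [nat_lit 205, nat_lit 288] thF (H0.Fi.digW (nat_lit 2) (nat_lit 9) (nat_lit 7)) (H0.Fi.digW (nat_lit 2) (nat_lit 0) (nat_lit 9)) (nat_lit 60)) i = 0 := allZ_sound0 th_f_60_0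
theorem th_f_61 : ∀ i < 512, (H0.Fi.ncEnt t_P id [nat_lit 205, nat_lit 288] thF (H0.Fi.digW (nat_lit 2) (nat_lit 9) (nat_lit 7)) (H0.Fi.digW (nat_lit 2) (nat_lit 0) (nat_lit 9)) (nat_lit 61)) i = 0 := allZ_sound0 th_f_61_0
theorem th_f_62 : ∀ i < 512, (H0.Fi.ncEnt t_P id [nat_lit 205, nat_lit 288] thF (H0.Fi.digW (nat_lit 2) (nat_lit 9) (nat_lit 7)) (H0.Fi.digW (nat_lit 2) (nat_lit 0) (nat_lit 9)) (nat_lit 62)) i = 0 := allZ_sound0 th_f_62_0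
theorem th_f_63 : ∀ i < 512, (H0.Fi.ncEnt t_P id [nat_lit 205, nat_lit 288] thF (H0.Fi.digW (nat_lit 2) (nat_lit 9) (nat_lit 7)) (H0.Fi.digW (nat_lit 2) (nat_lit 0) (nat_lit 9)) (nat_lit 63)) i = 0 := allZ_sound0 th_f_63_0
theorem th_f_64 : ∀ i < 512, (H0.Fi.ncEnt t_P id [nat_lit 205, nat_lit 288] thF (H0.Fi.digW (nat_lit 2) (nat_lit 9) (nat_lit 7)) (H0.Fi.digW (nat_lit 2) (nat_lit 0) (nat_lit 9)) (nat_lit 64)) i = 0 := allZ_sound0 th_f_64_0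
theorem th_f_65 : ∀ i < 512, (H0.Fi.ncEnt t_P id [nat_lit 205, nat_lit 288] thF (H0.Fi.digW (nat_lit 2) (nat_lit 9) (nat_lit 7)) (H0.Fi.digW (nat_lit 2) (nat_lit 0) (nat_lit 9)) (nat_lit 65)) i = 0 := allZ_sound0 th_f_65_0
theorem th_f_66 : ∀ i < 512, (H0.Fi.ncEnt t_P id [nat_lit 205, nat_lit 288] thF (H0.Fi.digW (nat_lit 2) (nat_lit 9) (nat_lit 7)) (H0.Fi.digW (nat_lit 2) (nat_lit 0) (nat_lit 9)) (nat_lit 66)) i = 0 := allZ_sound0 th_f_66_0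
theorem th_f_67 : ∀ i < 512, (H0.Fi.ncEnt t_P id [nat_lit 205, nat_lit 288] thF (H0.Fi.digW (nat_lit 2) (nat_lit 9) (nat_lit 7)) (H0.Fi.digW (nat_lit 2) (nat_lit 0) (nat_lit 9)) (nat_lit 67)) i = 0 := allZ_sound0 th_f_67_0
theorem th_f_68 : ∀ i < 512, (H0.Fi.ncEnt t_P id [nat_lit 205, nat_lit 288] thF (H0.Fi.digW (nat_lit 2) (nat_lit 9) (nat_lit 7)) (H0.Fi.digW (nat_lit 2) (nat_lit 0) (nat_lit 9)) (nat_lit 68)) i = 0 := allZ_sound0 th_f_68_0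
theorem th_f_69 : ∀ i < 512, (H0.Fi.ncEnt t_P id [nat_lit 205, nat_lit 288] thF (H0.Fi.digW (nat_lit 2) (nat_lit 9) (nat_lit 7)) (H0.Fi.digW (nat_lit 2) (nat_lit 0) (nat_lit 9)) (nat_lit 69)) i = 0 := allZ_sound0 th_f_69_0
theorem th_f_70 : ∀ i < 512, (H0.Fi.ncEnt t_P id [nat_lit 205, nat_lit 288] thF (H0.Fi.digW (nat_lit 2) (nat_lit 9) (nat_lit 7)) (H0.Fi.digW (nat_lit 2) (nat_lit 0) (nat_lit 9)) (nat_lit 70)) i = 0 := allZ_sound0 th_f_70_0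
theorem th_f_71 : ∀ i < 512, (H0.Fi.ncEnt t_P id [nat_lit 205, nat_lit 288] thF (H0.Fi.digW (nat_lit 2) (nat_lit 9) (nat_lit 7)) (H0.Fi.digW (nat_lit 2) (nat_lit 0) (nat_lit 9)) (nat_lit 71)) i = 0 := allZ_sound0 th_f_71_0
theorem th_f_72 : ∀ i < 512, (H0.Fi.ncEnt t_P id [nat_lit 205, nat_lit 288] thF (H0.Fi.digW (nat_lit 2) (nat_lit 9) (nat_lit 7)) (H0.Fi.digW (nat_lit 2) (nat_lit 0) (nat_lit 9)) (nat_lit 72)) i = 0 := allZ_sound0 th_f_72_0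
theorem th_f_73 : ∀ i < 512, (H0.Fi.ncEnt t_P id [nat_lit 205, nat_lit 288] thF (H0.Fi.digW (nat_lit 2) (nat_lit 9) (nat_lit 7)) (H0.Fi.digW (nat_lit 2) (nat_lit 0) (nat_lit 9)) (nat_lit 73)) i = 0 := allZ_sound0 th_f_73_0
theorem th_f_74 : ∀ i < 512, (H0.Fi.ncEnt t_P id [nat_lit 205, nat_lit 288] thF (H0.Fi.digW (nat_lit 2) (nat_lit 9) (nat_lit 7)) (H0.Fi.digW (nat_lit 2) (nat_lit 0) (nat_lit 9)) (nat_lit 74)) i = 0 := allZ_sound0 th_f_74_0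
theorem th_f_75 : ∀ i < 512, (H0.Fi.ncEnt t_P id [nat_lit 205, nat_lit 288] thF (H0.Fi.digW (nat_lit 2) (nat_lit 9) (nat_lit 7)) (H0.Fi.digW (nat_lit 2) (nat_lit 0) (nat_lit 9)) (nat_lit 75)) i = 0 := allZ_sound0 th_f_75_0
theorem th_f_76 : ∀ i < 512, (H0.Fi.ncEnt t_P id [nat_lit 205, nat_lit 288] thF (H0.Fi.digW (nat_lit 2) (nat_lit 9) (nat_lit 7)) (H0.Fi.digW (nat_lit 2) (nat_lit 0) (nat_lit 9)) (nat_lit 76)) i = 0 := allZ_sound0 th_f_76_0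
theorem th_f_77 : ∀ i < 512, (H0.Fi.ncEnt t_P id [nat_lit 205, nat_lit 288] thF (H0.Fi.digW (nat_lit 2) (nat_lit 9) (nat_lit 7)) (H0.Fi.digW (nat_lit 2) (nat_lit 0) (nat_lit 9)) (nat_lit 77)) i = 0 := allZ_sound0 th_f_77_0
theorem th_f_78 : ∀ i < 512, (H0.Fi.ncEnt t_P id [nat_lit 205, nat_lit 288] thF (H0.Fi.digW (nat_lit 2) (nat_lit 9) (nat_lit 7)) (H0.Fi.digW (nat_lit 2) (nat_lit 0) (nat_lit 9)) (nat_lit 78)) i = 0 := allZ_sound0 th_f_78_0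
theorem th_f_79 : ∀ i < 512, (H0.Fi.ncEnt t_P id [nat_lit 205, nat_lit 288] thF (H0.Fi.digW (nat_lit 2) (nat_lit 9) (nat_lit 7)) (H0.Fi.digW (nat_lit 2) (nat_lit 0) (nat_lit 9)) (nat_lit 79)) i = 0 := allZ_sound0 th_f_79_0
theorem th_f_80 : ∀ i < 512, (H0.Fi.ncEnt t_P id [nat_lit 205, nat_lit 288] thF (H0.Fi.digW (nat_lit 2) (nat_lit 9) (nat_lit 7)) (H0.Fi.digW (nat_lit 2) (nat_lit 0) (nat_lit 9)) (nat_lit 80)) i = 0 := allZ_sound0 th_f_80_0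
theorem th_f_81 : ∀ i < 512, (H0.Fi.ncEnt t_P id [nat_lit 205, nat_lit 288] thF (H0.Fi.digW (nat_lit 2) (nat_lit 9) (nat_lit 7)) (H0.Fi.digW (nat_lit 2) (nat_lit 0) (nat_lit 9)) (nat_lit 81)) i = 0 := allZ_sound0 th_f_81_0
theorem th_f_82 : ∀ i < 512, (H0.Fi.ncEnt t_P id [nat_lit 205, nat_lit 288] thF (H0.Fi.digW (nat_lit 2) (nat_lit 9) (nat_lit 7)) (H0.Fi.digW (nat_lit 2) (nat_lit 0) (nat_lit 9)) (nat_lit 82)) i = 0 := allZ_sound0 th_f_82_0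
theorem th_f_83 : ∀ i < 512, (H0.Fi.ncEnt t_P id [nat_lit 205, nat_lit 288] thF (H0.Fi.digW (nat_lit 2) (nat_lit 9) (nat_lit 7)) (H0.Fi.digW (nat_lit 2) (nat_lit 0) (nat_lit 9)) (nat_lit 83)) i = 0 := allZ_sound0 th_f_83_0
theorem th_f_84 : ∀ i < 512, (H0.Fi.ncEnt t_P id [nat_lit 205, nat_lit 288] thF (H0.Fi.digW (nat_lit 2) (nat_lit 9) (nat_lit 7)) (H0.Fi.digW (nat_lit 2) (nat_lit 0) (nat_lit 9)) (nat_lit 84)) i = 0 := allZ_sound0 th_f_84_0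
theorem th_f_85 : ∀ i < 512, (H0.Fi.ncEnt t_P id [nat_lit 205, nat_lit 288] thF (H0.Fi.digW (nat_lit 2) (nat_lit 9) (nat_lit 7)) (H0.Fi.digW (nat_lit 2) (nat_lit 0) (nat_lit 9)) (nat_lit 85)) i = 0 := allZ_sound0 th_f_85_0
theorem th_f_86 : ∀ i < 512, (H0.Fi.ncEnt t_P id [nat_lit 205, nat_lit 288] thF (H0.Fi.digW (nat_lit 2) (nat_lit 9) (nat_lit 7)) (H0.Fi.digW (nat_lit 2) (nat_lit 0) (nat_lit 9)) (nat_lit 86)) i = 0 := allZ_sound0 th_f_86_0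
theorem th_f_87 : ∀ i < 512, (H0.Fi.ncEnt t_P id [nat_lit 205, nat_lit 288] thF (H0.Fi.digW (nat_lit 2) (nat_lit 9) (nat_lit 7)) (H0.Fi.digW (nat_lit 2) (nat_lit 0) (nat_lit 9)) (nat_lit 87)) i = 0 := allZ_sound0 th_f_87_0
theorem th_f_88 : ∀ i < 512, (H0.Fi.ncEnt t_P id [nat_lit 205, nat_lit 288] thF (H0.Fi.digW (nat_lit 2) (nat_lit 9) (nat_lit 7)) (H0.Fi.digW (nat_lit 2) (nat_lit 0) (nat_lit 9)) (nat_lit 88)) i = 0 := allZ_sound0 th_f_88_0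
theorem th_f_89 : ∀ i < 512, (H0.Fi.ncEnt t_P id [nat_lit 205, nat_lit 288] thF (H0.Fi.digW (nat_lit 2) (nat_lit 9) (nat_lit 7)) (H0.Fi.digW (nat_lit 2) (nat_lit 0) (nat_lit 9)) (nat_lit 89)) i = 0 := allZ_sound0 th_f_89_0
theorem th_f_90 : ∀ i < 512, (H0.Fi.ncEnt t_P id [nat_lit 205, nat_lit 288] thF (H0.Fi.digW (nat_lit 2) (nat_lit 9) (nat_lit 7)) (H0.Fi.digW (nat_lit 2) (nat_lit 0) (nat_lit 9)) (nat_lit 90)) i = 0 := allZ_sound0 th_f_90_0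
theorem th_f_91 : ∀ i < 512, (H0.Fi.ncEnt t_P id [nat_lit 205, nat_lit 288] thF (H0.Fi.digW (nat_lit 2) (nat_lit 9) (nat_lit 7)) (H0.Fi.digW (nat_lit 2) (nat_lit 0) (nat_lit 9)) (nat_lit 91)) i = 0 := allZ_sound0 th_f_91_0
theorem th_f_92 : ∀ i < 512, (H0.Fi.ncEnt t_P id [nat_lit 205, nat_lit 288] thF (H0.Fi.digW (nat_lit 2) (nat_lit 9) (nat_lit 7)) (H0.Fi.digW (nat_lit 2) (nat_lit 0) (nat_lit 9)) (nat_lit 92)) i = 0 := allZ_sound0 th_f_92_0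
theorem th_f_93 : ∀ i < 512, (H0.Fi.ncEnt t_P id [nat_lit 205, nat_lit 288] thF (H0.Fi.digW (nat_lit 2) (nat_lit 9) (nat_lit 7)) (H0.Fi.digW (nat_lit 2) (nat_lit 0) (nat_lit 9)) (nat_lit 93)) i = 0 := allZ_sound0 th_f_93_0
theorem th_f_94 : ∀ i < 512, (H0.Fi.ncEnt t_P id [nat_lit 205, nat_lit 288] thF (H0.Fi.digW (nat_lit 2) (nat_lit 9) (nat_lit 7)) (H0.Fi.digW (nat_lit 2) (nat_lit 0) (nat_lit 9)) (nat_lit 94)) i = 0 := allZ_sound0 th_f_94_0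
theorem th_f_95 : ∀ i < 512, (H0.Fi.ncEnt t_P id [nat_lit 205, nat_lit 288] thF (H0.Fi.digW (nat_lit 2) (nat_lit 9) (nat_lit 7)) (H0.Fi.digW (nat_lit 2) (nat_lit 0) (nat_lit 9)) (nat_lit 95)) i = 0 := allZ_sound0 th_f_95_0
theorem th_f_96 : ∀ i < 512, (H0.Fi.ncEnt t_P id [nat_lit 205, nat_lit 288] thF (H0.Fi.digW (nat_lit 2) (nat_lit 9) (nat_lit 7)) (H0.Fi.digW (nat_lit 2) (nat_lit 0) (nat_lit 9)) (nat_lit 96)) i = 0 := allZ_sound0 th_f_96_0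
theorem th_f_97 : ∀ i < 512, (H0.Fi.ncEnt t_P id [nat_lit 205, nat_lit 288] thF (H0.Fi.digW (nat_lit 2) (nat_lit 9) (nat_lit 7)) (H0.Fi.digW (nat_lit 2) (nat_lit 0) (nat_lit 9)) (nat_lit 97)) i = 0 := allZ_sound0 th_f_97_0
theorem th_f_98 : ∀ i < 512, (H0.Fi.ncEnt t_P id [nat_lit 205, nat_lit 288] thF (H0.Fi.digW (nat_lit 2) (nat_lit 9) (nat_lit 7)) (H0.Fi.digW (nat_lit 2) (nat_lit 0) (nat_lit 9)) (nat_lit 98)) i = 0 := allZ_sound0 th_f_98_0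
theorem th_f_99 : ∀ i < 512, (H0.Fi.ncEnt t_P id [nat_lit 205, nat_lit 288] thF (H0.Fi.digW (nat_lit 2) (nat_lit 9) (nat_lit 7)) (H0.Fi.digW (nat_lit 2) (nat_lit 0) (nat_lit 9)) (nat_lit 99)) i = 0 := allZ_sound0 th_f_99_0
theorem th_f_100 : ∀ i < 512, (H0.Fi.ncEnt t_P id [nat_lit 205, nat_lit 288] thF (H0.Fi.digW (nat_lit 2) (nat_lit 9) (nat_lit 7)) (H0.Fi.digW (nat_lit 2) (nat_lit 0) (nat_lit 9)) (nat_lit 100)) i = 0 := allZ_sound0 th_f_100_0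
theorem th_f_101 : ∀ i < 512, (H0.Fi.ncEnt t_P id [nat_lit 205, nat_lit 288] thF (H0.Fi.digW (nat_lit 2) (nat_lit 9) (nat_lit 7)) (H0.Fi.digW (nat_lit 2) (nat_lit 0) (nat_lit 9)) (nat_lit 101)) i = 0 := allZ_sound0 th_f_101_0
theorem th_f_102 : ∀ i < 512, (H0.Fi.ncEnt t_P id [nat_lit 205, nat_lit 288] thF (H0.Fi.digW (nat_lit 2) (nat_lit 9) (nat_lit 7)) (H0.Fi.digW (nat_lit 2) (nat_lit 0) (nat_lit 9)) (nat_lit 102)) i = 0 := allZ_sound0 th_f_102_0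
theorem th_f_103 : ∀ i < 512, (H0.Fi.ncEnt t_P id [nat_lit 205, nat_lit 288] thF (H0.Fi.digW (nat_lit 2) (nat_lit 9) (nat_lit 7)) (H0.Fi.digW (nat_lit 2) (nat_lit 0) (nat_lit 9)) (nat_lit 103)) i = 0 := allZ_sound0 th_f_103_0
theorem th_f_104 : ∀ i < 512, (H0.Fi.ncEnt t_P id [nat_lit 205, nat_lit 288] thF (H0.Fi.digW (nat_lit 2) (nat_lit 9) (nat_lit 7)) (H0.Fi.digW (nat_lit 2) (nat_lit 0) (nat_lit 9)) (nat_lit 104)) i = 0 := allZ_sound0 th_f_104_0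
theorem th_f_105 : ∀ i < 512, (H0.Fi.ncEnt t_P id [nat_lit 205, nat_lit 288] thF (H0.Fi.digW (nat_lit 2) (nat_lit 9) (nat_lit 7)) (H0.Fi.digW (nat_lit 2) (nat_lit 0) (nat_lit 9)) (nat_lit 105)) i = 0 := allZ_sound0 th_f_105_0
theorem th_f_106 : ∀ i < 512, (H0.Fi.ncEnt t_P id [nat_lit 205, nat_lit 288] thF (H0.Fi.digW (nat_lit 2) (nat_lit 9) (nat_lit 7)) (H0.Fi.digW (nat_lit 2) (nat_lit 0) (nat_lit 9)) (nat_lit 106)) i = 0 := allZ_sound0 th_f_106_0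
theorem th_f_107 : ∀ i < 512, (H0.Fi.ncEnt t_P id [nat_lit 205, nat_lit 288] thF (H0.Fi.digW (nat_lit 2) (nat_lit 9) (nat_lit 7)) (H0.Fi.digW (nat_lit 2) (nat_lit 0) (nat_lit 9)) (nat_lit 107)) i = 0 := allZ_sound0 th_f_107_0
theorem th_f_108 : ∀ i < 512, (H0.Fi.ncEnt t_P id [nat_lit 205, nat_lit 288] thF (H0.Fi.digW (nat_lit 2) (nat_lit 9) (nat_lit 7)) (H0.Fi.digW (nat_lit 2) (nat_lit 0) (nat_lit 9)) (nat_lit 108)) i = 0 := allZ_sound0 th_f_108_0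
theorem th_f_109 : ∀ i < 512, (H0.Fi.ncEnt t_P id [nat_lit 205, nat_lit 288] thF (H0.Fi.digW (nat_lit 2) (nat_lit 9) (nat_lit 7)) (H0.Fi.digW (nat_lit 2) (nat_lit 0) (nat_lit 9)) (nat_lit 109)) i = 0 := allZ_sound0 th_f_109_0
theorem th_f_110 : ∀ i < 512, (H0.Fi.ncEnt t_P id [nat_lit 205, nat_lit 288] thF (H0.Fi.digW (nat_lit 2) (nat_lit 9) (nat_lit 7)) (H0.Fi.digW (nat_lit 2) (nat_lit 0) (nat_lit 9)) (nat_lit 110)) i = 0 := allZ_sound0 th_f_110_0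
theorem th_f_111 : ∀ i < 512, (H0.Fi.ncEnt t_P id [nat_lit 205, nat_lit 288] thF (H0.Fi.digW (nat_lit 2) (nat_lit 9) (nat_lit 7)) (H0.Fi.digW (nat_lit 2) (nat_lit 0) (nat_lit 9)) (nat_lit 111)) i = 0 := allZ_sound0 th_f_111_0
theorem th_f_112 : ∀ i < 512, (H0.Fi.ncEnt t_P id [nat_lit 205, nat_lit 288] thF (H0.Fi.digW (nat_lit 2) (nat_lit 9) (nat_lit 7)) (H0.Fi.digW (nat_lit 2) (nat_lit 0) (nat_lit 9)) (nat_lit 112)) i = 0 := allZ_sound0 th_f_112_0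
theorem th_f_113 : ∀ i < 512, (H0.Fi.ncEnt t_P id [nat_lit 205, nat_lit 288] thF (H0.Fi.digW (nat_lit 2) (nat_lit 9) (nat_lit 7)) (H0.Fi.digW (nat_lit 2) (nat_lit 0) (nat_lit 9)) (nat_lit 113)) i = 0 := allZ_sound0 th_f_113_0
theorem th_f_114 : ∀ i < 512, (H0.Fi.ncEnt t_P id [nat_lit 205, nat_lit 288] thF (H0.Fi.digW (nat_lit 2) (nat_lit 9) (nat_lit 7)) (H0.Fi.digW (nat_lit 2) (nat_lit 0) (nat_lit 9)) (nat_lit 114)) i = 0 := allZ_sound0 th_f_114_0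
theorem th_f_115 : ∀ i < 512, (H0.Fi.ncEnt t_P id [nat_lit 205, nat_lit 288] thF (H0.Fi.digW (nat_lit 2) (nat_lit 9) (nat_lit 7)) (H0.Fi.digW (nat_lit 2) (nat_lit 0) (nat_lit 9)) (nat_lit 115)) i = 0 := allZ_sound0 th_f_115_0
theorem th_f_116 : ∀ i < 512, (H0.Fi.ncEnt t_P id [nat_lit 205, nat_lit 288] thF (H0.Fi.digW (nat_lit 2) (nat_lit 9) (nat_lit 7)) (H0.Fi.digW (nat_lit 2) (nat_lit 0) (nat_lit 9)) (nat_lit 116)) i = 0 := allZ_sound0 th_f_116_0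
theorem th_f_117 : ∀ i < 512, (H0.Fi.ncEnt t_P id [nat_lit 205, nat_lit 288] thF (H0.Fi.digW (nat_lit 2) (nat_lit 9) (nat_lit 7)) (H0.Fi.digW (nat_lit 2) (nat_lit 0) (nat_lit 9)) (nat_lit 117)) i = 0 := allZ_sound0 th_f_117_0
theorem th_f_118 : ∀ i < 512, (H0.Fi.ncEnt t_P id [nat_lit 205, nat_lit 288] thF (H0.Fi.digW (nat_lit 2) (nat_lit 9) (nat_lit 7)) (H0.Fi.digW (nat_lit 2) (nat_lit 0) (nat_lit 9)) (nat_lit 118)) i = 0 := allZ_sound0 th_f_118_0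
theorem th_f_119 : ∀ i < 512, (H0.Fi.ncEnt t_P id [nat_lit 205, nat_lit 288] thF (H0.Fi.digW (nat_lit 2) (nat_lit 9) (nat_lit 7)) (H0.Fi.digW (nat_lit 2) (nat_lit 0) (nat_lit 9)) (nat_lit 119)) i = 0 := allZ_sound0 th_f_119_0
theorem th_f_120 : ∀ i < 512, (H0.Fi.ncEnt t_P id [nat_lit 205, nat_lit 288] thF (H0.Fi.digW (nat_lit 2) (nat_lit 9) (nat_lit 7)) (H0.Fi.digW (nat_lit 2) (nat_lit 0) (nat_lit 9)) (nat_lit 120)) i = 0 := allZ_sound0 th_f_120_0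
theorem th_f_121 : ∀ i < 512, (H0.Fi.ncEnt t_P id [nat_lit 205, nat_lit 288] thF (H0.Fi.digW (nat_lit 2) (nat_lit 9) (nat_lit 7)) (H0.Fi.digW (nat_lit 2) (nat_lit 0) (nat_lit 9)) (nat_lit 121)) i = 0 := allZ_sound0 th_f_121_0
theorem th_f_122 : ∀ i < 512, (H0.Fi.ncEnt t_P id [nat_lit 205, nat_lit 288] thF (H0.Fi.digW (nat_lit 2) (nat_lit 9) (nat_lit 7)) (H0.Fi.digW (nat_lit 2) (nat_lit 0) (nat_lit 9)) (nat_lit 122)) i = 0 := allZ_sound0 th_f_122_0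
theorem th_f_123 : ∀ i < 512, (H0.Fi.ncEnt t_P id [nat_lit 205, nat_lit 288] thF (H0.Fi.digW (nat_lit 2) (nat_lit 9) (nat_lit 7)) (H0.Fi.digW (nat_lit 2) (nat_lit 0) (nat_lit 9)) (nat_lit 123)) i = 0 := allZ_sound0 th_f_123_0
theorem th_f_124 : ∀ i < 512, (H0.Fi.ncEnt t_P id [nat_lit 205, nat_lit 288] thF (H0.Fi.digW (nat_lit 2) (nat_lit 9) (nat_lit 7)) (H0.Fi.digW (nat_lit 2) (nat_lit 0) (nat_lit 9)) (nat_lit 124)) i = 0 := allZ_sound0 th_f_124_0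
theorem th_f_125 : ∀ i < 512, (H0.Fi.ncEnt t_P id [nat_lit 205, nat_lit 288] thF (H0.Fi.digW (nat_lit 2) (nat_lit 9) (nat_lit 7)) (H0.Fi.digW (nat_lit 2) (nat_lit 0) (nat_lit 9)) (nat_lit 125)) i = 0 := allZ_sound0 th_f_125_0
theorem th_f_126 : ∀ i < 512, (H0.Fi.ncEnt t_P id [nat_lit 205, nat_lit 288] thF (H0.Fi.digW (nat_lit 2) (nat_lit 9) (nat_lit 7)) (H0.Fi.digW (nat_lit 2) (nat_lit 0) (nat_lit 9)) (nat_lit 126)) i = 0 := allZ_sound0 th_f_126_0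
theorem th_f_127 : ∀ i < 512, (H0.Fi.ncEnt t_P id [nat_lit 205, nat_lit 288] thF (H0.Fi.digW (nat_lit 2) (nat_lit 9) (nat_lit 7)) (H0.Fi.digW (nat_lit 2) (nat_lit 0) (nat_lit 9)) (nat_lit 127)) i = 0 := allZ_sound0 th_f_127_0
theorem th_f : ∀ k < 128, ∀ i < 512, (H0.Fi.ncEnt t_P id [nat_lit 205, nat_lit 288] thF (H0.Fi.digW (nat_lit 2) (nat_lit 9) (nat_lit 7)) (H0.Fi.digW (nat_lit 2) (nat_lit 0) (nat_lit 9))) k i = 0 :=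
  letters_glue (letters_glue (letters_glue (letters_glue (letters_glue (letters_glue (letters_glue (letters_glue (letters_glue (letters_glue (letters_glue (letters_glue (letters_glue (letters_glue (letters_glue (letters_glue (letters_glue (letters_glue (letters_glue (letters_glue (letters_glue (letters_glue (letters_glue (letters_glue (letters_glue (letters_glue (letters_glue (letters_glue (letters_glue (letters_glue (letters_glue (letters_glue (letters_glue (letters_glue (letters_glue (letters_glue (letters_glue (letters_glue (letters_glue (letters_glue (letters_glue (letters_glue (letters_glue (letters_glue (letters_glue (letters_glue (letters_glue (letters_glue (letters_glue (letters_glue (letters_glue (letters_glue (letters_glue (letters_glue (letters_glue (letters_glue (letters_glue (letters_glue (letters_glue (letters_glue (letters_glue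 (letters_glue (letters_glue (letters_glue (letters_glue (letters_glue (letters_glue (letters_glue (letters_glue (letters_glue (letters_glue (letters_glue (letters_glue (letters_glue (letters_glue (letters_glue (letters_glue (letters_glue (letters_glue (letters_glue (letters_glue (letters_glue (letters_glue (letters_glue (letters_glue (letters_glue (letters_glue (letters_glue (letters_glue (letters_glue (letters_glue (letters_glue (letters_glue (letters_glue (letters_glue (letters_glue (letters_glue (letters_glue (letters_glue (letters_glue (letters_glue (letters_glue (letters_glue (letters_glue (letters_glue (letters_glue (letters_glue (letters_glue (letters_glue (letters_glue (letters_glue (letters_glue (letters_glue (letters_glue (letters_glue (letters_glue (letters_glue (letters_glue (letters_glue (letters_glue (letters_glue (letters_glue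 (letters_glue (letters_glue (letters_glue (letters_glue (letters_glue (letters_glue (letters_nil) th_f_0) th_f_1) th_f_2) th_f_3) th_f_4) th_f_5) th_f_6) th_f_7) th_f_8) th_f_9) th_f_10) th_f_11) th_f_12) th_f_13) th_f_14) th_f_15) th_f_16) th_f_17) th_f_18) th_f_19) th_f_20) th_f_21) th_f_22) th_f_23) th_f_24) th_f_25) th_f_26) th_f_27) th_f_28) th_f_29) th_f_30) th_f_31) th_f_32) th_f_33) th_f_34) th_f_35) th_f_36) th_f_37) th_f_38) th_f_39) th_f_40) th_f_41) th_f_42) th_f_43) th_f_44) th_f_45) th_f_46) th_f_47) th_f_48) th_f_49) th_f_50) th_f_51) th_f_52) th_f_53) th_f_54) th_f_55) th_f_56) th_f_57) th_f_58) th_f_59) th_f_60) th_f_61) th_f_62) th_f_63) th_f_64) th_f_65) th_f_66) th_f_67) th_f_68) th_f_69) th_f_70) th_f_71) th_f_72) th_f_73) th_f_74) th_f_75) th_f_76) th_f_77) th_f_78) th_f_79) th_f_80) th_f_81) th_f_82) th_f_83) th_f_84)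 th_f_85) th_f_86) th_f_87) th_f_88) th_f_89) th_f_90) th_f_91) th_f_92) th_f_93) th_f_94) th_f_95) th_f_96) th_f_97) th_f_98) th_f_99) th_f_100) th_f_101) th_f_102) th_f_103) th_f_104) th_f_105) th_f_106) th_f_107) th_f_108) th_f_109) th_f_110) th_f_111) th_f_112) th_f_113) th_f_114) th_f_115) th_f_116) th_f_117) th_f_118) th_f_119) th_f_120) th_f_121) th_f_122) th_f_123) th_f_124) th_f_125) th_f_126) th_f_127
theorem th_s : ∀ i < 128, (fun c => bif c.beq 0 || H0.Fi.srch thK thF (nat_lit 128) (nat_lit 512) (nat_lit 3) (thK c) (thF c) then 0 else 1) i = 0 := range_glue (range_glue (range_glue (range_glue (range_glue (allZ_sound0 th_s_0) th_s_1) th_s_2) th_s_3) th_s_4) th_s_5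
theorem th {G Ω : Type*} [Group G] [MulAction G Ω] {g : ℕ → G} {pt : ℕ → Ω} {c : ℕ}
    (M : Md g pt H18.TE.V.P 672 11 H18.TE.V.B c) : Cfsg.thompsonSubgroupOf 2 (gen (wds g t_W) 16) = gen (wds g t_W) 9 :=
  have := M.fin
  H0.Fi.thomp (j := 9) (r := 7) M.inj (tp M).1 (H0.Fi.card_gen (tp M).1 (tp M).2 (by decide)) (t_act M)
    ((tp M).1.le_norm (by decide)) (H0.Fi.ea_of (tc M) (tq M)) th_i (X := [nat_lit 402, nat_lit 3, nat_lit 163, nat_lit 401, nat_lit 36]) (Y := [nat_lit 205, nat_lit 288]) (by decide) (by decide) th_k th_f th_s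

end H18.TE.V
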