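import Cfsg.Agent.H0.Am.F
import Cfsg.Agent.H0.Fi.H

/-! A finite group acting on labelled points. -/

set_option autoImplicit false

namespace H18.TE
open H16

/-- a finite group acting on labelled points -/
structure AM {G Ω : Type*} [Group G] [MulAction G Ω] (g : ℕ → G) (pt : ℕ → Ω) (P : ℕ → ℕ → ℕ) (N K : ℕ) : Prop where
  act : Act g pt P N K
  inj : PtInj pt N
  fin : Finite G

end H18.TE
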