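import Cfsg.Agent.H18.TEg.D.C0
import Cfsg.Agent.H18.TEg.D.C1
import Cfsg.Agent.H18.TEg.D.C2
import Cfsg.Agent.H18.TEg.D.C3
import Cfsg.Agent.H18.TEg.D.C4

/-! Generated by tools/h0/tr.py. -/

set_option maxRecDepth 100000
set_option maxHeartbeats 0

namespace H18.TE.D
open H16 H0.TR H0.Am H15.XM H15.E6 Cfsg.Lie
open scoped commutatorElement

theorem dc : ∀ k < 67, Nat.add (ltAll 16 (nth [] AW k)) (ne2 (ev 78 (msk 78 78) e1 CG (nth [] AW k)) (nth (0, 0) AC k)) = 0 := range_glue (range_glue (range_glue (range_glue (range_glue (range_glue (allZ_sound0 dc0) dc1) dc2) dc3) dc4) dc5) dc6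
theorem ac_0 : ∀ i < 23, (aEnt AC T M.P 1782 (nat_lit 0)) i = 0 := allZ_sound0 ac_0_0
theorem ac_1 : ∀ i < 23, (aEnt AC T M.P 1782 (nat_lit 1)) i = 0 := allZ_sound0 ac_1_0
theorem ac_2 : ∀ i < 23, (aEnt AC T M.P 1782 (nat_lit 2)) i = 0 := allZ_sound0 ac_2_0
theorem ac_3 : ∀ i < 23, (aEnt AC T M.P 1782 (nat_lit 3)) i = 0 := allZ_sound0 ac_3_0
theorem ac_4 : ∀ i < 23, (aEnt AC T M.P 1782 (nat_lit 4)) i = 0 := allZ_sound0 ac_4_0
theorem ac_5 : ∀ i < 23, (aEnt AC T M.P 1782 (nat_lit 5)) i = 0 := allZ_sound0 ac_5_0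
theorem ac_6 : ∀ i < 23, (aEnt AC T M.P 1782 (nat_lit 6)) i = 0 := allZ_sound0 ac_6_0
theorem ac_7 : ∀ i < 23, (aEnt AC T M.P 1782 (nat_lit 7)) i = 0 := allZ_sound0 ac_7_0
theorem ac_8 : ∀ i < 23, (aEnt AC T M.P 1782 (nat_lit 8)) i = 0 := allZ_sound0 ac_8_0
theorem ac_9 : ∀ i < 23, (aEnt AC T M.P 1782 (nat_lit 9)) i = 0 := allZ_sound0 ac_9_0
theorem ac_10 : ∀ i < 23, (aEnt AC T M.P 1782 (nat_lit 10)) i = 0 := allZ_sound0 ac_10_0
theorem ac_11 : ∀ i < 23, (aEnt AC T M.P 1782 (nat_lit 11)) i = 0 := allZ_sound0 ac_11_0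
theorem ac_12 : ∀ i < 23, (aEnt AC T M.P 1782 (nat_lit 12)) i = 0 := allZ_sound0 ac_12_0
theorem ac_13 : ∀ i < 23, (aEnt AC T M.P 1782 (nat_lit 13)) i = 0 := allZ_sound0 ac_13_0
theorem ac_14 : ∀ i < 23, (aEnt AC T M.P 1782 (nat_lit 14)) i = 0 := allZ_sound0 ac_14_0
theorem ac_15 : ∀ i < 23, (aEnt AC T M.P 1782 (nat_lit 15)) i = 0 := allZ_sound0 ac_15_0
theorem ac_16 : ∀ i < 23, (aEnt AC T M.P 1782 (nat_lit 16)) i = 0 := allZ_sound0 ac_16_0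
theorem ac_17 : ∀ i < 23, (aEnt AC T M.P 1782 (nat_lit 17)) i = 0 := allZ_sound0 ac_17_0
theorem ac_18 : ∀ i < 23, (aEnt AC T M.P 1782 (nat_lit 18)) i = 0 := allZ_sound0 ac_18_0
theorem ac_19 : ∀ i < 23, (aEnt AC T M.P 1782 (nat_lit 19)) i = 0 := allZ_sound0 ac_19_0
theorem ac_20 : ∀ i < 23, (aEnt AC T M.P 1782 (nat_lit 20)) i = 0 := allZ_sound0 ac_20_0
theorem ac_21 : ∀ i < 23, (aEnt AC T M.P 1782 (nat_lit 21)) i = 0 := allZ_sound0 ac_21_0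
theorem ac_22 : ∀ i < 23, (aEnt AC T M.P 1782 (nat_lit 22)) i = 0 := allZ_sound0 ac_22_0
theorem ac_23 : ∀ i < 23, (aEnt AC T M.P 1782 (nat_lit 23)) i = 0 := allZ_sound0 ac_23_0
theorem ac_24 : ∀ i < 23, (aEnt AC T M.P 1782 (nat_lit 24)) i = 0 := allZ_sound0 ac_24_0
theorem ac_25 : ∀ i < 23, (aEnt AC T M.P 1782 (nat_lit 25)) i = 0 := allZ_sound0 ac_25_0
theorem ac_26 : ∀ i < 23, (aEnt AC T M.P 1782 (nat_lit 26)) i = 0 := allZ_sound0 ac_26_0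
theorem ac_27 : ∀ i < 23, (aEnt AC T M.P 1782 (nat_lit 27)) i = 0 := allZ_sound0 ac_27_0
theorem ac_28 : ∀ i < 23, (aEnt AC T M.P 1782 (nat_lit 28)) i = 0 := allZ_sound0 ac_28_0
theorem ac_29 : ∀ i < 23, (aEnt AC T M.P 1782 (nat_lit 29)) i = 0 := allZ_sound0 ac_29_0
theorem ac_30 : ∀ i < 23, (aEnt AC T M.P 1782 (nat_lit 30)) i = 0 := allZ_sound0 ac_30_0
theorem ac_31 : ∀ i < 23, (aEnt AC T M.P 1782 (nat_lit 31)) i = 0 := allZ_sound0 ac_31_0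
theorem ac_32 : ∀ i < 23, (aEnt AC T M.P 1782 (nat_lit 32)) i = 0 := allZ_sound0 ac_32_0
theorem ac_33 : ∀ i < 23, (aEnt AC T M.P 1782 (nat_lit 33)) i = 0 := allZ_sound0 ac_33_0
theorem ac_34 : ∀ i < 23, (aEnt AC T M.P 1782 (nat_lit 34)) i = 0 := allZ_sound0 ac_34_0
theorem ac_35 : ∀ i < 23, (aEnt AC T M.P 1782 (nat_lit 35)) i = 0 := allZ_sound0 ac_35_0
theorem ac_36 : ∀ i < 23, (aEnt AC T M.P 1782 (nat_lit 36)) i = 0 := allZ_sound0 ac_36_0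
theorem ac_37 : ∀ i < 23, (aEnt AC T M.P 1782 (nat_lit 37)) i = 0 := allZ_sound0 ac_37_0
theorem ac_38 : ∀ i < 23, (aEnt AC T M.P 1782 (nat_lit 38)) i = 0 := allZ_sound0 ac_38_0
theorem ac_39 : ∀ i < 23, (aEnt AC T M.P 1782 (nat_lit 39)) i = 0 := allZ_sound0 ac_39_0
theorem ac_40 : ∀ i < 23, (aEnt AC T M.P 1782 (nat_lit 40)) i = 0 := allZ_sound0 ac_40_0
theorem ac_41 : ∀ i < 23, (aEnt AC T M.P 1782 (nat_lit 41)) i = 0 := allZ_sound0 ac_41_0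
theorem ac_42 : ∀ i < 23, (aEnt AC T M.P 1782 (nat_lit 42)) i = 0 := allZ_sound0 ac_42_0
theorem ac_43 : ∀ i < 23, (aEnt AC T M.P 1782 (nat_lit 43)) i = 0 := allZ_sound0 ac_43_0
theorem ac_44 : ∀ i < 23, (aEnt AC T M.P 1782 (nat_lit 44)) i = 0 := allZ_sound0 ac_44_0
theorem ac_45 : ∀ i < 23, (aEnt AC T M.P 1782 (nat_lit 45)) i = 0 := allZ_sound0 ac_45_0
theorem ac_46 : ∀ i < 23, (aEnt AC T M.P 1782 (nat_lit 46)) i = 0 := allZ_sound0 ac_46_0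
theorem ac_47 : ∀ i < 23, (aEnt AC T M.P 1782 (nat_lit 47)) i = 0 := allZ_sound0 ac_47_0
theorem ac_48 : ∀ i < 23, (aEnt AC T M.P 1782 (nat_lit 48)) i = 0 := allZ_sound0 ac_48_0
theorem ac_49 : ∀ i < 23, (aEnt AC T M.P 1782 (nat_lit 49)) i = 0 := allZ_sound0 ac_49_0
theorem ac_50 : ∀ i < 23, (aEnt AC T M.P 1782 (nat_lit 50)) i = 0 := allZ_sound0 ac_50_0
theorem ac_51 : ∀ i < 23, (aEnt AC T M.P 1782 (nat_lit 51)) i = 0 := allZ_sound0 ac_51_0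
theorem ac_52 : ∀ i < 23, (aEnt AC T M.P 1782 (nat_lit 52)) i = 0 := allZ_sound0 ac_52_0
theorem ac : ∀ k < 53, ∀ i < 23, (aEnt AC T M.P 1782) k i = 0 :=
  letters_glue (letters_glue (letters_glue (letters_glue (letters_glue (letters_glue (letters_glue (letters_glue (letters_glue (letters_glue (letters_glue (letters_glue (letters_glue (letters_glue (letters_glue (letters_glue (letters_glue (letters_glue (letters_glue (letters_glue (letters_glue (letters_glue (letters_glue (letters_glue (letters_glue (letters_glue (letters_glue (letters_glue (letters_glue (letters_glue (letters_glue (letters_glue (letters_glue (letters_glue (letters_glue (letters_glue (letters_glue (letters_glue (letters_glue (letters_glue (letters_glue (letters_glue (letters_glue (letters_glue (letters_glue (letters_glue (letters_glue (letters_glue (letters_glue (letters_glue (letters_glue (letters_glue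 (letters_glue (letters_nil) ac_0) ac_1) ac_2) ac_3) ac_4) ac_5) ac_6) ac_7) ac_8) ac_9) ac_10) ac_11) ac_12) ac_13) ac_14) ac_15) ac_16) ac_17) ac_18) ac_19) ac_20) ac_21) ac_22) ac_23) ac_24) ac_25) ac_26) ac_27) ac_28) ac_29) ac_30) ac_31) ac_32) ac_33) ac_34) ac_35) ac_36) ac_37) ac_38) ac_39) ac_40) ac_41) ac_42) ac_43) ac_44) ac_45) ac_46) ac_47) ac_48) ac_49) ac_50) ac_51) ac_52
theorem ic : ∀ i < 1781, (iEnt T) i = 0 := allZ_sound0 ic_0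

end H18.TE.D
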