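import Cfsg.Agent.H15.E6C
import Cfsg.Agent.H18.TEg.A

/-! Checkers for words and vectors in `²E₆(2)`. -/

set_option autoImplicit false

namespace H18.TE
open H16 H15.XM H15.E6 Cfsg.Lie Matrix
open H26 (frc)

/-- equality test -/
noncomputable def eqC (C : List (ℕ × ℕ)) (T : ℕ) (U V : List ℕ) : ℕ :=
  Nat.add (Nat.add (ltAll T U) (ltAll T V)) (ne2 (ev 78 (msk 78 78) e1 C U) (ev 78 (msk 78 78) e1 C V))

/-- a column -/
noncomputable def col (c : ℕ × ℕ) (j : ℕ) : ℕ × ℕ :=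
  (Nat.mod (Nat.shiftRight c.1 (Nat.mul 78 j)) (Nat.pow 2 78), Nat.mod (Nat.shiftRight c.2 (Nat.mul 78 j)) (Nat.pow 2 78))

/-- the code of a point -/
noncomputable def pc (T : List (ℕ × ℕ)) (i : ℕ) : ℕ × ℕ := col (nth (0, 0) T (Nat.div i 78)) (Nat.mod i 78)

/-- the action on a block of points -/
noncomputable def aEnt (C T : List (ℕ × ℕ)) (P : ℕ → ℕ → ℕ) (N k b : ℕ) : ℕ :=
  frc (mul2 78 (msk 78 78) (nth (0, 0) C k) (nth (0, 0) T b)).1 fun m =>
  frc (mul2 78 (msk 78 78) (nth (0, 0) C k) (nth (0, 0) T b)).2 fun m' =>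
  loop1 (fun j => frc (Nat.add (Nat.mul 78 b) j) fun i => H0.TR.ifz (Nat.sub N i) 0 (frc (P k i) fun p =>
    Nat.add (Nat.sub (Nat.succ p) N) (ne2 (col (m, m') j) (pc T p)))) 0 78

/-- the codes increase -/
noncomputable def iEnt (T : List (ℕ × ℕ)) (i : ℕ) : ℕ :=
  Nat.sub (Nat.succ (Nat.add (pc T i).1 (Nat.mul (Nat.pow 2 78) (pc T i).2)))
    (Nat.add (pc T (Nat.succ i)).1 (Nat.mul (Nat.pow 2 78) (pc T (Nat.succ i)).2))

variable {K : Type*} [Field K] [CharP K 2] {w : K} (hw : w * w = w + 1)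

/-- a vector -/
def vc (w : K) (c : ℕ × ℕ) : chevE6.Idx → K := fun i => bt K (c.1.testBit (IG.idx i)) + w * bt K (c.2.testBit (IG.idx i))

/-- the action on vectors -/
@[reducible] noncomputable def actV (K : Type*) [Field K] : MulAction (twistedE6 K 2) (chevE6.Idx → K) where
  smul g v := ρ K g *ᵥ v
  one_smul v := by change ρ K 1 *ᵥ v = v; rw [map_one, one_mulVec]
  mul_smul a b v := by change ρ K (a * b) *ᵥ v = ρ K a *ᵥ ρ K b *ᵥ v; rw [map_mul, mulVec_mulVec]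

omit [CharP K 2] in
theorem vc_col (c : ℕ × ℕ) {j : ℕ} (hj : j < 78) : vc w (col c j) = fun i => mat2 IG w c i (IG.ι j) := by
  ext i
  change bt K (((_ >>> (78 * j)) % 2 ^ 78).testBit _) + w * bt K (((_ >>> (78 * j)) % 2 ^ 78).testBit _) = _
  simp only [Nat.testBit_mod_two_pow, Nat.testBit_shiftRight]
  simp [mat2, mat, (IG.ok.1 i).1, IG.ok.2 j hj]

include hw

theorem eqC_sound {g : ℕ → twistedE6 K 2} {C : List (ℕ × ℕ)} {T : ℕ}
    (h : ∀ k < T, ρ K (g k) = mat2 IG w (nth (0, 0) C k)) {U V : List ℕ} (e : eqC C T U V = 0) : evA g U = evA g V := by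
  obtain ⟨a, b⟩ := Nat.add_eq_zero_iff.1 e
  obtain ⟨a, c⟩ := Nat.add_eq_zero_iff.1 a
  exact ρ_inj (by rw [mat2_ev IG hw (e1_eq w) _ h a, mat2_ev IG hw (e1_eq w) _ h c, ne2_zero b])

theorem mul_col (a c : ℕ × ℕ) {j : ℕ} (hj : j < 78) :
    mat2 IG w a *ᵥ vc w (col c j) = vc w (col (mul2 78 (msk 78 78) a c) j) := by
  rw [vc_col _ hj, vc_col _ hj, mat2_mul IG hw]; rfl

theorem act_of {g : ℕ → twistedE6 K 2} {C T : List (ℕ × ℕ)} {P : ℕ → ℕ → ℕ} {N n m : ℕ} (hN : N ≤ 78 * m)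
    (h : ∀ k < n, ρ K (g k) = mat2 IG w (nth (0, 0) C k)) (e : ∀ k < n, ∀ b < m, aEnt C T P N k b = 0) :
    @Act _ _ _ (actV K) g (fun i => vc w (pc T i)) P N n := fun k hk i hi => by
  have := e k hk (i / 78) (by omega)
  rw [aEnt, H26.frc_eq, H26.frc_eq] at this
  replace := loop1_zero this (i % 78) (by omega)
  simp only [H26.frc_eq, H0.TR.ifz_eq, Nat.add_eq, Nat.mul_eq, Nat.sub_eq, zero_add, Nat.div_add_mod,
    if_neg (Nat.sub_ne_zero_of_lt hi), Nat.add_eq_zero_iff] at this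
  refine ⟨by omega, ?_⟩
  change ρ K _ *ᵥ vc w _ = vc w _
  rw [h k hk, ← ne2_zero this.2]; exact mul_col hw _ _ (Nat.mod_lt _ (by decide))

theorem vc_inj {T : List (ℕ × ℕ)} {N : ℕ} (e : ∀ i < N, iEnt T i = 0) : PtInj (fun i => vc w (pc T i)) (N + 1) := by
  have w0 : w ≠ 0 := by rintro rfl; simp at hw
  have w1 : w ≠ 1 := by rintro rfl; simp at hw
  have w2 : 1 + w ≠ 0 := fun h => w1 (by linear_combination h - CharTwo.add_self_eq_zero (1 : K))
  have k : ∀ a b c d, bt K a + w * bt K b = bt K c + w * bt K d → a = c ∧ b = d := by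
    intro a b c d; cases a <;> cases b <;> cases c <;> cases d <;> simp [bt, w0, w1, w2, w0.symm, w1.symm, w2.symm]
  have m : StrictMonoOn (fun i => (pc T i).1 + 2 ^ 78 * (pc T i).2) (Set.Iic N) :=
    strictMonoOn_Iic_of_lt_succ fun i hi => Nat.lt_of_succ_le (Nat.sub_eq_zero_iff_le.1 (e i hi))
  have l : ∀ x y t : ℕ, (t < 78 → (x % 2 ^ 78).testBit t = (y % 2 ^ 78).testBit t) →
      (x % 2 ^ 78).testBit t = (y % 2 ^ 78).testBit t := fun x y t h => by
    by_cases p : t < 78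
    exacts [h p, by simp only [Nat.testBit_mod_two_pow, p, decide_false, Bool.false_and]]
  intro i hi j hj q
  refine m.injOn (Nat.le_of_lt_succ hi) (Nat.le_of_lt_succ hj) ?_
  have r := fun t (p : t < 78) => IG.ok.2 t p ▸ k _ _ _ _ (congrFun q (IG.ι t))
  rw [show (pc T i).1 = (pc T j).1 from Nat.eq_of_testBit_eq fun t => l _ _ t fun p => (r t p).1,
    show (pc T i).2 = (pc T j).2 from Nat.eq_of_testBit_eq fun t => l _ _ t fun p => (r t p).2]

end H18.TE
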