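import Cfsg.Agent.H18.TEg.C.C0
import Cfsg.Agent.H18.TEg.C.C1

/-! Generated by tools/h0/tr.py. -/

set_option maxRecDepth 100000
set_option maxHeartbeats 0

namespace H18.TE.M
open H16 H0.TR
open scoped commutatorElement

theorem x1_act {G Ω : Type*} [Group G] [MulAction G Ω] {g : ℕ → G} {pt : ℕ → Ω}
    (M : Md g pt H18.TE.M.P 1782 53 H18.TE.M.B 9643575969054720) : Act (rl [30, 31, 32, 33, 34, 35, 36, 37, 38, 29] g) pt (rl [nat_lit 30, nat_lit 31, nat_lit 32, nat_lit 33, nat_lit 34, nat_lit 35, nat_lit 36, nat_lit 37, nat_lit 38, nat_lit 29] H18.TE.M.P) 1782 10 :=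
  M.act.rl (by decide)
theorem t1h_act {G Ω : Type*} [Group G] [MulAction G Ω] {g : ℕ → G} {pt : ℕ → Ω}
    (M : Md g pt H18.TE.M.P 1782 53 H18.TE.M.B 9643575969054720) : Act (wds g t1h_W) pt t1h_P 1782 70 :=
  M.wact t1h_lt
theorem t1l0_e : ∀ i < 1781, (dent t1l0 t1h_P (nat_lit 1782)) i = 0 := allZ_sound0 t1l0_e_0
theorem t1l0_ok : DOK t1l0 t1h_P 1782 := ⟨t1l0_h, t1l0_e⟩
theorem t1l1_e : ∀ i < 83, (dent t1l1 t1h_P (nat_lit 1782)) i = 0 := allZ_sound0 t1l1_e_0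
theorem t1l1_ok : DOK t1l1 t1h_P 1782 := ⟨t1l1_h, t1l1_e⟩
theorem t1l2_e : ∀ i < 79, (dent t1l2 t1h_P (nat_lit 1782)) i = 0 := allZ_sound0 t1l2_e_0
theorem t1l2_ok : DOK t1l2 t1h_P 1782 := ⟨t1l2_h, t1l2_e⟩
theorem t1l3_e : ∀ i < 7, (dent t1l3 t1h_P (nat_lit 1782)) i = 0 := allZ_sound0 t1l3_e_0
theorem t1l3_ok : DOK t1l3 t1h_P 1782 := ⟨t1l3_h, t1l3_e⟩
theorem t1l4_e : ∀ i < 5, (dent t1l4 t1h_P (nat_lit 1782)) i = 0 := allZ_sound0 t1l4_e_0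
theorem t1l4_ok : DOK t1l4 t1h_P 1782 := ⟨t1l4_h, t1l4_e⟩
theorem t1l5_e : ∀ i < 1, (dent t1l5 t1h_P (nat_lit 1782)) i = 0 := allZ_sound0 t1l5_e_0
theorem t1l5_ok : DOK t1l5 t1h_P 1782 := ⟨t1l5_h, t1l5_e⟩
theorem t1l6_e : ∀ i < 63, (dent t1l6 t1h_P (nat_lit 1782)) i = 0 := allZ_sound0 t1l6_e_0
theorem t1l6_ok : DOK t1l6 t1h_P 1782 := ⟨t1l6_h, t1l6_e⟩
theorem t1l7_e : ∀ i < 7, (dent t1l7 t1h_P (nat_lit 1782)) i = 0 := allZ_sound0 t1l7_e_0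
theorem t1l7_ok : DOK t1l7 t1h_P 1782 := ⟨t1l7_h, t1l7_e⟩
theorem t1l8_e : ∀ i < 1, (dent t1l8 t1h_P (nat_lit 1782)) i = 0 := allZ_sound0 t1l8_e_0
theorem t1l8_ok : DOK t1l8 t1h_P 1782 := ⟨t1l8_h, t1l8_e⟩
theorem t1l9_e : ∀ i < 7, (dent t1l9 t1h_P (nat_lit 1782)) i = 0 := allZ_sound0 t1l9_e_0
theorem t1l9_ok : DOK t1l9 t1h_P 1782 := ⟨t1l9_h, t1l9_e⟩
theorem t1l10_e : ∀ i < 1, (dent t1l10 t1h_P (nat_lit 1782)) i = 0 := allZ_sound0 t1l10_e_0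
theorem t1l10_ok : DOK t1l10 t1h_P 1782 := ⟨t1l10_h, t1l10_e⟩
theorem t1l11_e : ∀ i < 1, (dent t1l11 t1h_P (nat_lit 1782)) i = 0 := allZ_sound0 t1l11_e_0
theorem t1l11_ok : DOK t1l11 t1h_P 1782 := ⟨t1l11_h, t1l11_e⟩
theorem t1l12_e : ∀ i < 1, (dent t1l12 t1h_P (nat_lit 1782)) i = 0 := allZ_sound0 t1l12_e_0
theorem t1l12_ok : DOK t1l12 t1h_P 1782 := ⟨t1l12_h, t1l12_e⟩
theorem t1l13_e : ∀ i < 1, (dent t1l13 t1h_P (nat_lit 1782)) i = 0 := allZ_sound0 t1l13_e_0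
theorem t1l13_ok : DOK t1l13 t1h_P 1782 := ⟨t1l13_h, t1l13_e⟩
theorem t1l14_e : ∀ i < 1, (dent t1l14 t1h_P (nat_lit 1782)) i = 0 := allZ_sound0 t1l14_e_0
theorem t1l14_ok : DOK t1l14 t1h_P 1782 := ⟨t1l14_h, t1l14_e⟩
theorem t1l15_e : ∀ i < 1, (dent t1l15 t1h_P (nat_lit 1782)) i = 0 := allZ_sound0 t1l15_e_0
theorem t1l15_ok : DOK t1l15 t1h_P 1782 := ⟨t1l15_h, t1l15_e⟩
theorem t1l16_e : ∀ i < 1, (dent t1l16 t1h_P (nat_lit 1782)) i = 0 := allZ_sound0 t1l16_e_0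
theorem t1l16_ok : DOK t1l16 t1h_P 1782 := ⟨t1l16_h, t1l16_e⟩
theorem t1l17_e : ∀ i < 1, (dent t1l17 t1h_P (nat_lit 1782)) i = 0 := allZ_sound0 t1l17_e_0
theorem t1l17_ok : DOK t1l17 t1h_P 1782 := ⟨t1l17_h, t1l17_e⟩
theorem t1l18_e : ∀ i < 1, (dent t1l18 t1h_P (nat_lit 1782)) i = 0 := allZ_sound0 t1l18_e_0
theorem t1l18_ok : DOK t1l18 t1h_P 1782 := ⟨t1l18_h, t1l18_e⟩
theorem t1l19_e : ∀ i < 1, (dent t1l19 t1h_P (nat_lit 1782)) i = 0 := allZ_sound0 t1l19_e_0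
theorem t1l19_ok : DOK t1l19 t1h_P 1782 := ⟨t1l19_h, t1l19_e⟩
theorem t1_low {G Ω : Type*} [Group G] [MulAction G Ω] {g : ℕ → G} {pt : ℕ → Ω}
    (M : Md g pt H18.TE.M.P 1782 53 H18.TE.M.B 9643575969054720) : SLow (gi (wds g t1h_W)) pt 1782 [t1l0, t1l1, t1l2, t1l3, t1l4, t1l5, t1l6, t1l7, t1l8, t1l9, t1l10, t1l11, t1l12, t1l13, t1l14, t1l15, t1l16, t1l17, t1l18, t1l19] :=
  ((((((((((((((((((((SLow.nil).cons t1l19_ok (t1h_act M) t1_f19).cons t1l18_ok (t1h_act M) t1_f18).cons t1l17_ok (t1h_act M) t1_f17).cons t1l16_ok (t1h_act M) t1_f16).cons t1l15_ok (t1h_act M) t1_f15).cons t1l14_ok (t1h_act M) t1_f14).cons t1l13_ok (t1h_act M) t1_f13).cons t1l12_ok (t1h_act M) t1_f12).cons t1l11_ok (t1h_act M) t1_f11).cons t1l10_ok (t1h_act M) t1_f10).cons t1l9_ok (t1h_act M) t1_f9).cons t1l8_ok (t1h_act M) t1_f8).cons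 t1l7_ok (t1h_act M) t1_f7).cons t1l6_ok (t1h_act M) t1_f6).cons t1l5_ok (t1h_act M) t1_f5).cons t1l4_ok (t1h_act M) t1_f4).cons t1l3_ok (t1h_act M) t1_f3).cons t1l2_ok (t1h_act M) t1_f2).cons t1l1_ok (t1h_act M) t1_f1).cons t1l0_ok (t1h_act M) t1_f0
theorem t1_S0 {G Ω : Type*} [Group G] [MulAction G Ω] {g : ℕ → G} {pt : ℕ → Ω}
    (M : Md g pt H18.TE.M.P 1782 53 H18.TE.M.B 9643575969054720) : Stage ⊤ (wds g t1h_W) pt 1782 [t1l0, t1l1, t1l2, t1l3, t1l4, t1l5, t1l6, t1l7, t1l8, t1l9, t1l10, t1l11, t1l12, t1l13, t1l14, t1l15, t1l16, t1l17, t1l18, t1l19] [] :=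
  M.stage (t1_low M) t1_c
theorem t1_S1 {G Ω : Type*} [Group G] [MulAction G Ω] {g : ℕ → G} {pt : ℕ → Ω}
    (M : Md g pt H18.TE.M.P 1782 53 H18.TE.M.B 9643575969054720) : Stage ⊤ (wds g t1h_W) pt 1782 [t1l1, t1l2, t1l3, t1l4, t1l5, t1l6, t1l7, t1l8, t1l9, t1l10, t1l11, t1l12, t1l13, t1l14, t1l15, t1l16, t1l17, t1l18, t1l19] [t1l0.Pt 0] :=
  (t1_S0 M).next
theorem t1_S2 {G Ω : Type*} [Group G] [MulAction G Ω] {g : ℕ → G} {pt : ℕ → Ω}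
    (M : Md g pt H18.TE.M.P 1782 53 H18.TE.M.B 9643575969054720) : Stage ⊤ (wds g t1h_W) pt 1782 [t1l2, t1l3, t1l4, t1l5, t1l6, t1l7, t1l8, t1l9, t1l10, t1l11, t1l12, t1l13, t1l14, t1l15, t1l16, t1l17, t1l18, t1l19] [t1l1.Pt 0, t1l0.Pt 0] :=
  (t1_S1 M).next
theorem t1_S3 {G Ω : Type*} [Group G] [MulAction G Ω] {g : ℕ → G} {pt : ℕ → Ω}
    (M : Md g pt H18.TE.M.P 1782 53 H18.TE.M.B 9643575969054720) : Stage ⊤ (wds g t1h_W) pt 1782 [t1l3, t1l4, t1l5, t1l6, t1l7, t1l8, t1l9, t1l10, t1l11, t1l12, t1l13, t1l14, t1l15, t1l16, t1l17, t1l18, t1l19] [t1l2.Pt 0, t1l1.Pt 0, t1l0.Pt 0] :=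
  (t1_S2 M).next
theorem t1_S4 {G Ω : Type*} [Group G] [MulAction G Ω] {g : ℕ → G} {pt : ℕ → Ω}
    (M : Md g pt H18.TE.M.P 1782 53 H18.TE.M.B 9643575969054720) : Stage ⊤ (wds g t1h_W) pt 1782 [t1l4, t1l5, t1l6, t1l7, t1l8, t1l9, t1l10, t1l11, t1l12, t1l13, t1l14, t1l15, t1l16, t1l17, t1l18, t1l19] [t1l3.Pt 0, t1l2.Pt 0, t1l1.Pt 0, t1l0.Pt 0] :=
  (t1_S3 M).next
theorem t1_S5 {G Ω : Type*} [Group G] [MulAction G Ω] {g : ℕ → G} {pt : ℕ → Ω}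
    (M : Md g pt H18.TE.M.P 1782 53 H18.TE.M.B 9643575969054720) : Stage ⊤ (wds g t1h_W) pt 1782 [t1l5, t1l6, t1l7, t1l8, t1l9, t1l10, t1l11, t1l12, t1l13, t1l14, t1l15, t1l16, t1l17, t1l18, t1l19] [t1l4.Pt 0, t1l3.Pt 0, t1l2.Pt 0, t1l1.Pt 0, t1l0.Pt 0] :=
  (t1_S4 M).next
theorem t1_S6 {G Ω : Type*} [Group G] [MulAction G Ω] {g : ℕ → G} {pt : ℕ → Ω}
    (M : Md g pt H18.TE.M.P 1782 53 H18.TE.M.B 9643575969054720) : Stage ⊤ (wds g t1h_W) pt 1782 [t1l6, t1l7, t1l8, t1l9, t1l10, t1l11, t1l12, t1l13, t1l14, t1l15, t1l16, t1l17, t1l18, t1l19] [t1l5.Pt 0, t1l4.Pt 0, t1l3.Pt 0, t1l2.Pt 0, t1l1.Pt 0, t1l0.Pt 0] :=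
  (t1_S5 M).next
theorem t1_S7 {G Ω : Type*} [Group G] [MulAction G Ω] {g : ℕ → G} {pt : ℕ → Ω}
    (M : Md g pt H18.TE.M.P 1782 53 H18.TE.M.B 9643575969054720) : Stage ⊤ (wds g t1h_W) pt 1782 [t1l7, t1l8, t1l9, t1l10, t1l11, t1l12, t1l13, t1l14, t1l15, t1l16, t1l17, t1l18, t1l19] [t1l6.Pt 0, t1l5.Pt 0, t1l4.Pt 0, t1l3.Pt 0, t1l2.Pt 0, t1l1.Pt 0, t1l0.Pt 0] :=
  (t1_S6 M).next
theorem t1_S8 {G Ω : Type*} [Group G] [MulAction G Ω] {g : ℕ → G} {pt : ℕ → Ω}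
    (M : Md g pt H18.TE.M.P 1782 53 H18.TE.M.B 9643575969054720) : Stage ⊤ (wds g t1h_W) pt 1782 [t1l8, t1l9, t1l10, t1l11, t1l12, t1l13, t1l14, t1l15, t1l16, t1l17, t1l18, t1l19] [t1l7.Pt 0, t1l6.Pt 0, t1l5.Pt 0, t1l4.Pt 0, t1l3.Pt 0, t1l2.Pt 0, t1l1.Pt 0, t1l0.Pt 0] :=
  (t1_S7 M).next
theorem t1_S9 {G Ω : Type*} [Group G] [MulAction G Ω] {g : ℕ → G} {pt : ℕ → Ω}
    (M : Md g pt H18.TE.M.P 1782 53 H18.TE.M.B 9643575969054720) : Stage ⊤ (wds g t1h_W) pt 1782 [t1l9, t1l10, t1l11, t1l12, t1l13, t1l14, t1l15, t1l16, t1l17, t1l18, t1l19] [t1l8.Pt 0, t1l7.Pt 0, t1l6.Pt 0, t1l5.Pt 0, t1l4.Pt 0, t1l3.Pt 0, t1l2.Pt 0, t1l1.Pt 0, t1l0.Pt 0] :=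
  (t1_S8 M).next
theorem t1_S10 {G Ω : Type*} [Group G] [MulAction G Ω] {g : ℕ → G} {pt : ℕ → Ω}
    (M : Md g pt H18.TE.M.P 1782 53 H18.TE.M.B 9643575969054720) : Stage ⊤ (wds g t1h_W) pt 1782 [t1l10, t1l11, t1l12, t1l13, t1l14, t1l15, t1l16, t1l17, t1l18, t1l19] [t1l9.Pt 0, t1l8.Pt 0, t1l7.Pt 0, t1l6.Pt 0, t1l5.Pt 0, t1l4.Pt 0, t1l3.Pt 0, t1l2.Pt 0, t1l1.Pt 0, t1l0.Pt 0] :=
  (t1_S9 M).next
theorem t1_S11 {G Ω : Type*} [Group G] [MulAction G Ω] {g : ℕ → G} {pt : ℕ → Ω}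
    (M : Md g pt H18.TE.M.P 1782 53 H18.TE.M.B 9643575969054720) : Stage ⊤ (wds g t1h_W) pt 1782 [t1l11, t1l12, t1l13, t1l14, t1l15, t1l16, t1l17, t1l18, t1l19] [t1l10.Pt 0, t1l9.Pt 0, t1l8.Pt 0, t1l7.Pt 0, t1l6.Pt 0, t1l5.Pt 0, t1l4.Pt 0, t1l3.Pt 0, t1l2.Pt 0, t1l1.Pt 0, t1l0.Pt 0] :=
  (t1_S10 M).next
theorem t1_S12 {G Ω : Type*} [Group G] [MulAction G Ω] {g : ℕ → G} {pt : ℕ → Ω}
    (M : Md g pt H18.TE.M.P 1782 53 H18.TE.M.B 9643575969054720) : Stage ⊤ (wds g t1h_W) pt 1782 [t1l12, t1l13, t1l14, t1l15, t1l16, t1l17, t1l18, t1l19] [t1l11.Pt 0, t1l10.Pt 0, t1l9.Pt 0, t1l8.Pt 0, t1l7.Pt 0, t1l6.Pt 0, t1l5.Pt 0, t1l4.Pt 0, t1l3.Pt 0, t1l2.Pt 0, t1l1.Pt 0, t1l0.Pt 0] :=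
  (t1_S11 M).next
theorem t1_S13 {G Ω : Type*} [Group G] [MulAction G Ω] {g : ℕ → G} {pt : ℕ → Ω}
    (M : Md g pt H18.TE.M.P 1782 53 H18.TE.M.B 9643575969054720) : Stage ⊤ (wds g t1h_W) pt 1782 [t1l13, t1l14, t1l15, t1l16, t1l17, t1l18, t1l19] [t1l12.Pt 0, t1l11.Pt 0, t1l10.Pt 0, t1l9.Pt 0, t1l8.Pt 0, t1l7.Pt 0, t1l6.Pt 0, t1l5.Pt 0, t1l4.Pt 0, t1l3.Pt 0, t1l2.Pt 0, t1l1.Pt 0, t1l0.Pt 0] :=
  (t1_S12 M).next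
theorem t1_S14 {G Ω : Type*} [Group G] [MulAction G Ω] {g : ℕ → G} {pt : ℕ → Ω}
    (M : Md g pt H18.TE.M.P 1782 53 H18.TE.M.B 9643575969054720) : Stage ⊤ (wds g t1h_W) pt 1782 [t1l14, t1l15, t1l16, t1l17, t1l18, t1l19] [t1l13.Pt 0, t1l12.Pt 0, t1l11.Pt 0, t1l10.Pt 0, t1l9.Pt 0, t1l8.Pt 0, t1l7.Pt 0, t1l6.Pt 0, t1l5.Pt 0, t1l4.Pt 0, t1l3.Pt 0, t1l2.Pt 0, t1l1.Pt 0, t1l0.Pt 0] :=
  (t1_S13 M).next
theorem t1_S15 {G Ω : Type*} [Group G] [MulAction G Ω] {g : ℕ → G} {pt : ℕ → Ω}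
    (M : Md g pt H18.TE.M.P 1782 53 H18.TE.M.B 9643575969054720) : Stage ⊤ (wds g t1h_W) pt 1782 [t1l15, t1l16, t1l17, t1l18, t1l19] [t1l14.Pt 0, t1l13.Pt 0, t1l12.Pt 0, t1l11.Pt 0, t1l10.Pt 0, t1l9.Pt 0, t1l8.Pt 0, t1l7.Pt 0, t1l6.Pt 0, t1l5.Pt 0, t1l4.Pt 0, t1l3.Pt 0, t1l2.Pt 0, t1l1.Pt 0, t1l0.Pt 0] :=
  (t1_S14 M).next
theorem t1_S16 {G Ω : Type*} [Group G] [MulAction G Ω] {g : ℕ → G} {pt : ℕ → Ω}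
    (M : Md g pt H18.TE.M.P 1782 53 H18.TE.M.B 9643575969054720) : Stage ⊤ (wds g t1h_W) pt 1782 [t1l16, t1l17, t1l18, t1l19] [t1l15.Pt 0, t1l14.Pt 0, t1l13.Pt 0, t1l12.Pt 0, t1l11.Pt 0, t1l10.Pt 0, t1l9.Pt 0, t1l8.Pt 0, t1l7.Pt 0, t1l6.Pt 0, t1l5.Pt 0, t1l4.Pt 0, t1l3.Pt 0, t1l2.Pt 0, t1l1.Pt 0, t1l0.Pt 0] :=
  (t1_S15 M).next
theorem t1_S17 {G Ω : Type*} [Group G] [MulAction G Ω] {g : ℕ → G} {pt : ℕ → Ω}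
    (M : Md g pt H18.TE.M.P 1782 53 H18.TE.M.B 9643575969054720) : Stage ⊤ (wds g t1h_W) pt 1782 [t1l17, t1l18, t1l19] [t1l16.Pt 0, t1l15.Pt 0, t1l14.Pt 0, t1l13.Pt 0, t1l12.Pt 0, t1l11.Pt 0, t1l10.Pt 0, t1l9.Pt 0, t1l8.Pt 0, t1l7.Pt 0, t1l6.Pt 0, t1l5.Pt 0, t1l4.Pt 0, t1l3.Pt 0, t1l2.Pt 0, t1l1.Pt 0, t1l0.Pt 0] :=
  (t1_S16 M).next
theorem t1_S18 {G Ω : Type*} [Group G] [MulAction G Ω] {g : ℕ → G} {pt : ℕ → Ω}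
    (M : Md g pt H18.TE.M.P 1782 53 H18.TE.M.B 9643575969054720) : Stage ⊤ (wds g t1h_W) pt 1782 [t1l18, t1l19] [t1l17.Pt 0, t1l16.Pt 0, t1l15.Pt 0, t1l14.Pt 0, t1l13.Pt 0, t1l12.Pt 0, t1l11.Pt 0, t1l10.Pt 0, t1l9.Pt 0, t1l8.Pt 0, t1l7.Pt 0, t1l6.Pt 0, t1l5.Pt 0, t1l4.Pt 0, t1l3.Pt 0, t1l2.Pt 0, t1l1.Pt 0, t1l0.Pt 0] :=
  (t1_S17 M).next
theorem t1_S19 {G Ω : Type*} [Group G] [MulAction G Ω] {g : ℕ → G} {pt : ℕ → Ω}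
    (M : Md g pt H18.TE.M.P 1782 53 H18.TE.M.B 9643575969054720) : Stage ⊤ (wds g t1h_W) pt 1782 [t1l19] [t1l18.Pt 0, t1l17.Pt 0, t1l16.Pt 0, t1l15.Pt 0, t1l14.Pt 0, t1l13.Pt 0, t1l12.Pt 0, t1l11.Pt 0, t1l10.Pt 0, t1l9.Pt 0, t1l8.Pt 0, t1l7.Pt 0, t1l6.Pt 0, t1l5.Pt 0, t1l4.Pt 0, t1l3.Pt 0, t1l2.Pt 0, t1l1.Pt 0, t1l0.Pt 0] :=
  (t1_S18 M).next
theorem t1_S20 {G Ω : Type*} [Group G] [MulAction G Ω] {g : ℕ → G} {pt : ℕ → Ω}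
    (M : Md g pt H18.TE.M.P 1782 53 H18.TE.M.B 9643575969054720) : Stage ⊤ (wds g t1h_W) pt 1782 [] [t1l19.Pt 0, t1l18.Pt 0, t1l17.Pt 0, t1l16.Pt 0, t1l15.Pt 0, t1l14.Pt 0, t1l13.Pt 0, t1l12.Pt 0, t1l11.Pt 0, t1l10.Pt 0, t1l9.Pt 0, t1l8.Pt 0, t1l7.Pt 0, t1l6.Pt 0, t1l5.Pt 0, t1l4.Pt 0, t1l3.Pt 0, t1l2.Pt 0, t1l1.Pt 0, t1l0.Pt 0] :=
  (t1_S19 M).next
theorem c1e_act {G Ω : Type*} [Group G] [MulAction G Ω] {g : ℕ → G} {pt : ℕ → Ω}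
    (M : Md g pt H18.TE.M.P 1782 53 H18.TE.M.B 9643575969054720) : Act (wds g c1e_W) pt c1e_P 1782 1 :=
  M.wact c1e_lt
theorem c1c0_e : ∀ i < 1, (dent c1c0 c1e_P (nat_lit 1782)) i = 0 := allZ_sound0 c1c0_e_0
theorem c1c0_ok : DOK c1c0 c1e_P 1782 := ⟨c1c0_h, c1c0_e⟩
theorem t1n0_1 : ∀ i < 1782, (t1n0.ent H18.TE.M.P t1h_P (rl [nat_lit 30, nat_lit 31, nat_lit 32, nat_lit 33, nat_lit 34, nat_lit 35, nat_lit 36, nat_lit 37, nat_lit 38, nat_lit 29] H18.TE.M.P) (rl [nat_lit 30, nat_lit 31, nat_lit 32, nat_lit 33, nat_lit 34, nat_lit 35, nat_lit 36, nat_lit 37, nat_lit 38, nat_lit 29] H18.TE.M.P) c1e_P (nat_lit 53) (nat_lit 10) H18.TE.M.B t1l0 [t1l1, t1l2, t1l3, t1l4, t1l5, t1l6, t1l7, t1l8, t1l9, t1l10, t1l11, t1l12, t1l13, t1l14, t1l15, t1l16, t1l17, t1l18, t1l19] (memO c1c0)) i = 0 := range_glue (range_glue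 (range_glue (range_glue (range_glue (range_glue (range_glue (range_glue (range_glue (allZ_sound0 t1n0_1_0) t1n0_1_1) t1n0_1_2) t1n0_1_3) t1n0_1_4) t1n0_1_5) t1n0_1_6) t1n0_1_7) t1n0_1_8) t1n0_1_9
theorem t1n0_t {G Ω : Type*} [Group G] [MulAction G Ω] {g : ℕ → G} {pt : ℕ → Ω}
    (M : Md g pt H18.TE.M.P 1782 53 H18.TE.M.B 9643575969054720) : TrO (gen (wds g t1h_W) t1l0.K) (rl [30, 31, 32, 33, 34, 35, 36, 37, 38, 29] g) (rl [30, 31, 32, 33, 34, 35, 36, 37, 38, 29] g) 10 pt 1782 (t1l0.Pt 0) (memO c1c0) :=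
  node M (t1_S0 M) (t1h_act M) (x1_act M) (x1_act M) t1n0 ((c1e_act M).mono (by decide)) (fun _ _ => trivial) t1n0_0 t1n0_1 (List.forall_mem_nil _)
theorem c1 {G Ω : Type*} [Group G] [MulAction G Ω] {g : ℕ → G} {pt : ℕ → Ω}
    (M : Md g pt H18.TE.M.P 1782 53 H18.TE.M.B 9643575969054720) : Cen ⊤ (rl [30, 31, 32, 33, 34, 35, 36, 37, 38, 29] g) 10 (wds g c1e_W) pt 1782 [c1c0] :=
  (t1_S0 M).top ▸ Cen.lev M (t1_S0 M) (Cen.triv (t1_S1 M) (Cen.triv (t1_S2 M) (Cen.triv (t1_S3 M) (Cen.triv (t1_S4 M) (Cen.triv (t1_S5 M) (Cen.triv (t1_S6 M) (Cen.triv (t1_S7 M) (Cen.triv (t1_S8 M) (Cen.triv (t1_S9 M) (Cen.triv (t1_S10 M) (Cen.triv (t1_S11 M) (Cen.triv (t1_S12 M) (Cen.triv (t1_S13 M) (Cen.triv (t1_S14 M) (Cen.triv (t1_S15 M) (Cen.triv (t1_S16 M) (Cen.triv (t1_S17 M) (Cen.triv (t1_S18 M) (Cen.triv (t1_S19 M)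 (Cen.bot) (forced (t1_S19 M) (t1h_act M) (x1_act M) _ _ c1_f19)) (forced (t1_S18 M) (t1h_act M) (x1_act M) _ _ c1_f18)) (forced (t1_S17 M) (t1h_act M) (x1_act M) _ _ c1_f17)) (forced (t1_S16 M) (t1h_act M) (x1_act M) _ _ c1_f16)) (forced (t1_S15 M) (t1h_act M) (x1_act M) _ _ c1_f15)) (forced (t1_S14 M) (t1h_act M) (x1_act M) _ _ c1_f14)) (forced (t1_S13 M) (t1h_act M) (x1_act M) _ _ c1_f13)) (forced (t1_S12 M) (t1h_act M) (x1_act M) _ _ c1_f12)) (forced (t1_S11 M) (t1h_act M) (x1_act M) _ _ c1_f11)) (forced (t1_S10 M) (t1h_act M) (x1_act M) _ _ c1_f10)) (forced (t1_S9 M) (t1h_act M) (x1_act M) _ _ c1_f9)) (forced (t1_S8 M) (t1h_act M) (x1_act M) _ _ c1_f8)) (forced (t1_S7 M) (t1h_act M) (x1_act M) _ _ c1_f7)) (forced (t1_S6 M) (t1h_act M) (x1_act M) _ _ c1_f6)) (forced (t1_S5 M) (t1h_act M) (x1_act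 M) _ _ c1_f5)) (forced (t1_S4 M) (t1h_act M) (x1_act M) _ _ c1_f4)) (forced (t1_S3 M) (t1h_act M) (x1_act M) _ _ c1_f3)) (forced (t1_S2 M) (t1h_act M) (x1_act M) _ _ c1_f2)) (forced (t1_S1 M) (t1h_act M) (x1_act M) _ _ c1_f1)) (t1n0_t M) (x1_act M) (c1e_act M) (fun _ _ => trivial) c1c0_ok c1_f0
theorem c1_eq {G Ω : Type*} [Group G] [MulAction G Ω] {g : ℕ → G} {pt : ℕ → Ω}
    (M : Md g pt H18.TE.M.P 1782 53 H18.TE.M.B 9643575969054720) : Subgroup.centralizer (gen (rl [30, 31, 32, 33, 34, 35, 36, 37, 38, 29] g) 10) = gen (wds g c1e_W) 1 ∧ Nat.card (gen (wds g c1e_W) 1) = 2 :=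
  c1_c.1 ▸ c1_c.2 ▸ ⟨(c1 M).cent, (c1 M).card M.inj⟩
theorem xb_act {G Ω : Type*} [Group G] [MulAction G Ω] {g : ℕ → G} {pt : ℕ → Ω}
    (M : Md g pt H18.TE.M.P 1782 53 H18.TE.M.B 9643575969054720) : Act (rl [45] g) pt (rl [nat_lit 45] H18.TE.M.P) 1782 1 :=
  M.act.rl (by decide)
theorem tbh_act {G Ω : Type*} [Group G] [MulAction G Ω] {g : ℕ → G} {pt : ℕ → Ω}
    (M : Md g pt H18.TE.M.P 1782 53 H18.TE.M.B 9643575969054720) : Act (wds g tbh_W) pt tbh_P 1782 67 :=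
  M.wact tbh_lt
theorem tbl0_e : ∀ i < 1781, (dent tbl0 tbh_P (nat_lit 1782)) i = 0 := allZ_sound0 tbl0_e_0
theorem tbl0_ok : DOK tbl0 tbh_P 1782 := ⟨tbl0_h, tbl0_e⟩
theorem tbl1_e : ∀ i < 83, (dent tbl1 tbh_P (nat_lit 1782)) i = 0 := allZ_sound0 tbl1_e_0
theorem tbl1_ok : DOK tbl1 tbh_P 1782 := ⟨tbl1_h, tbl1_e⟩
theorem tbl2_e : ∀ i < 79, (dent tbl2 tbh_P (nat_lit 1782)) i = 0 := allZ_sound0 tbl2_e_0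
theorem tbl2_ok : DOK tbl2 tbh_P 1782 := ⟨tbl2_h, tbl2_e⟩
theorem tbl3_e : ∀ i < 11, (dent tbl3 tbh_P (nat_lit 1782)) i = 0 := allZ_sound0 tbl3_e_0
theorem tbl3_ok : DOK tbl3 tbh_P 1782 := ⟨tbl3_h, tbl3_e⟩
theorem tbl4_e : ∀ i < 63, (dent tbl4 tbh_P (nat_lit 1782)) i = 0 := allZ_sound0 tbl4_e_0
theorem tbl4_ok : DOK tbl4 tbh_P 1782 := ⟨tbl4_h, tbl4_e⟩
theorem tbl5_e : ∀ i < 3, (dent tbl5 tbh_P (nat_lit 1782)) i = 0 := allZ_sound0 tbl5_e_0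
theorem tbl5_ok : DOK tbl5 tbh_P 1782 := ⟨tbl5_h, tbl5_e⟩
theorem tbl6_e : ∀ i < 3, (dent tbl6 tbh_P (nat_lit 1782)) i = 0 := allZ_sound0 tbl6_e_0
theorem tbl6_ok : DOK tbl6 tbh_P 1782 := ⟨tbl6_h, tbl6_e⟩
theorem tbl7_e : ∀ i < 3, (dent tbl7 tbh_P (nat_lit 1782)) i = 0 := allZ_sound0 tbl7_e_0
theorem tbl7_ok : DOK tbl7 tbh_P 1782 := ⟨tbl7_h, tbl7_e⟩
theorem tbl8_e : ∀ i < 3, (dent tbl8 tbh_P (nat_lit 1782)) i = 0 := allZ_sound0 tbl8_e_0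
theorem tbl8_ok : DOK tbl8 tbh_P 1782 := ⟨tbl8_h, tbl8_e⟩
theorem tbl9_e : ∀ i < 3, (dent tbl9 tbh_P (nat_lit 1782)) i = 0 := allZ_sound0 tbl9_e_0
theorem tbl9_ok : DOK tbl9 tbh_P 1782 := ⟨tbl9_h, tbl9_e⟩
theorem tbl10_e : ∀ i < 1, (dent tbl10 tbh_P (nat_lit 1782)) i = 0 := allZ_sound0 tbl10_e_0
theorem tbl10_ok : DOK tbl10 tbh_P 1782 := ⟨tbl10_h, tbl10_e⟩
theorem tbl11_e : ∀ i < 1, (dent tbl11 tbh_P (nat_lit 1782)) i = 0 := allZ_sound0 tbl11_e_0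
theorem tbl11_ok : DOK tbl11 tbh_P 1782 := ⟨tbl11_h, tbl11_e⟩
theorem tbl12_e : ∀ i < 1, (dent tbl12 tbh_P (nat_lit 1782)) i = 0 := allZ_sound0 tbl12_e_0
theorem tbl12_ok : DOK tbl12 tbh_P 1782 := ⟨tbl12_h, tbl12_e⟩
theorem tbl13_e : ∀ i < 1, (dent tbl13 tbh_P (nat_lit 1782)) i = 0 := allZ_sound0 tbl13_e_0
theorem tbl13_ok : DOK tbl13 tbh_P 1782 := ⟨tbl13_h, tbl13_e⟩
theorem tbl14_e : ∀ i < 1, (dent tbl14 tbh_P (nat_lit 1782)) i = 0 := allZ_sound0 tbl14_e_0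
theorem tbl14_ok : DOK tbl14 tbh_P 1782 := ⟨tbl14_h, tbl14_e⟩
theorem tbl15_e : ∀ i < 1, (dent tbl15 tbh_P (nat_lit 1782)) i = 0 := allZ_sound0 tbl15_e_0
theorem tbl15_ok : DOK tbl15 tbh_P 1782 := ⟨tbl15_h, tbl15_e⟩
theorem tbl16_e : ∀ i < 1, (dent tbl16 tbh_P (nat_lit 1782)) i = 0 := allZ_sound0 tbl16_e_0
theorem tbl16_ok : DOK tbl16 tbh_P 1782 := ⟨tbl16_h, tbl16_e⟩
theorem tbl17_e : ∀ i < 1, (dent tbl17 tbh_P (nat_lit 1782)) i = 0 := allZ_sound0 tbl17_e_0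
theorem tbl17_ok : DOK tbl17 tbh_P 1782 := ⟨tbl17_h, tbl17_e⟩
theorem tbl18_e : ∀ i < 1, (dent tbl18 tbh_P (nat_lit 1782)) i = 0 := allZ_sound0 tbl18_e_0
theorem tbl18_ok : DOK tbl18 tbh_P 1782 := ⟨tbl18_h, tbl18_e⟩
theorem tbl19_e : ∀ i < 1, (dent tbl19 tbh_P (nat_lit 1782)) i = 0 := allZ_sound0 tbl19_e_0
theorem tbl19_ok : DOK tbl19 tbh_P 1782 := ⟨tbl19_h, tbl19_e⟩
theorem tb_low {G Ω : Type*} [Group G] [MulAction G Ω] {g : ℕ → G} {pt : ℕ → Ω}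
    (M : Md g pt H18.TE.M.P 1782 53 H18.TE.M.B 9643575969054720) : SLow (gi (wds g tbh_W)) pt 1782 [tbl0, tbl1, tbl2, tbl3, tbl4, tbl5, tbl6, tbl7, tbl8, tbl9, tbl10, tbl11, tbl12, tbl13, tbl14, tbl15, tbl16, tbl17, tbl18, tbl19] :=
  ((((((((((((((((((((SLow.nil).cons tbl19_ok (tbh_act M) tb_f19).cons tbl18_ok (tbh_act M) tb_f18).cons tbl17_ok (tbh_act M) tb_f17).cons tbl16_ok (tbh_act M) tb_f16).cons tbl15_ok (tbh_act M) tb_f15).cons tbl14_ok (tbh_act M) tb_f14).cons tbl13_ok (tbh_act M) tb_f13).cons tbl12_ok (tbh_act M) tb_f12).cons tbl11_ok (tbh_act M) tb_f11).cons tbl10_ok (tbh_act M) tb_f10).cons tbl9_ok (tbh_act M) tb_f9).cons tbl8_ok (tbh_act M) tb_f8).cons tbl7_ok (tbh_act M) tb_f7).cons tbl6_ok (tbh_act M) tb_f6).cons tbl5_ok (tbh_act M) tb_f5).cons tbl4_ok (tbh_act M) tb_f4).cons tbl3_ok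 (tbh_act M) tb_f3).cons tbl2_ok (tbh_act M) tb_f2).cons tbl1_ok (tbh_act M) tb_f1).cons tbl0_ok (tbh_act M) tb_f0
theorem tb_S0 {G Ω : Type*} [Group G] [MulAction G Ω] {g : ℕ → G} {pt : ℕ → Ω}
    (M : Md g pt H18.TE.M.P 1782 53 H18.TE.M.B 9643575969054720) : Stage ⊤ (wds g tbh_W) pt 1782 [tbl0, tbl1, tbl2, tbl3, tbl4, tbl5, tbl6, tbl7, tbl8, tbl9, tbl10, tbl11, tbl12, tbl13, tbl14, tbl15, tbl16, tbl17, tbl18, tbl19] [] :=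
  M.stage (tb_low M) tb_c
theorem tb_S1 {G Ω : Type*} [Group G] [MulAction G Ω] {g : ℕ → G} {pt : ℕ → Ω}
    (M : Md g pt H18.TE.M.P 1782 53 H18.TE.M.B 9643575969054720) : Stage ⊤ (wds g tbh_W) pt 1782 [tbl1, tbl2, tbl3, tbl4, tbl5, tbl6, tbl7, tbl8, tbl9, tbl10, tbl11, tbl12, tbl13, tbl14, tbl15, tbl16, tbl17, tbl18, tbl19] [tbl0.Pt 0] :=
  (tb_S0 M).next
theorem tb_S2 {G Ω : Type*} [Group G] [MulAction G Ω] {g : ℕ → G} {pt : ℕ → Ω}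
    (M : Md g pt H18.TE.M.P 1782 53 H18.TE.M.B 9643575969054720) : Stage ⊤ (wds g tbh_W) pt 1782 [tbl2, tbl3, tbl4, tbl5, tbl6, tbl7, tbl8, tbl9, tbl10, tbl11, tbl12, tbl13, tbl14, tbl15, tbl16, tbl17, tbl18, tbl19] [tbl1.Pt 0, tbl0.Pt 0] :=
  (tb_S1 M).next
theorem tb_S3 {G Ω : Type*} [Group G] [MulAction G Ω] {g : ℕ → G} {pt : ℕ → Ω}
    (M : Md g pt H18.TE.M.P 1782 53 H18.TE.M.B 9643575969054720) : Stage ⊤ (wds g tbh_W) pt 1782 [tbl3, tbl4, tbl5, tbl6, tbl7, tbl8, tbl9, tbl10, tbl11, tbl12, tbl13, tbl14, tbl15, tbl16, tbl17, tbl18, tbl19] [tbl2.Pt 0, tbl1.Pt 0, tbl0.Pt 0] :=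
  (tb_S2 M).next
theorem tb_S4 {G Ω : Type*} [Group G] [MulAction G Ω] {g : ℕ → G} {pt : ℕ → Ω}
    (M : Md g pt H18.TE.M.P 1782 53 H18.TE.M.B 9643575969054720) : Stage ⊤ (wds g tbh_W) pt 1782 [tbl4, tbl5, tbl6, tbl7, tbl8, tbl9, tbl10, tbl11, tbl12, tbl13, tbl14, tbl15, tbl16, tbl17, tbl18, tbl19] [tbl3.Pt 0, tbl2.Pt 0, tbl1.Pt 0, tbl0.Pt 0] :=
  (tb_S3 M).next
theorem tb_S5 {G Ω : Type*} [Group G] [MulAction G Ω] {g : ℕ → G} {pt : ℕ → Ω}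
    (M : Md g pt H18.TE.M.P 1782 53 H18.TE.M.B 9643575969054720) : Stage ⊤ (wds g tbh_W) pt 1782 [tbl5, tbl6, tbl7, tbl8, tbl9, tbl10, tbl11, tbl12, tbl13, tbl14, tbl15, tbl16, tbl17, tbl18, tbl19] [tbl4.Pt 0, tbl3.Pt 0, tbl2.Pt 0, tbl1.Pt 0, tbl0.Pt 0] :=
  (tb_S4 M).next
theorem tb_S6 {G Ω : Type*} [Group G] [MulAction G Ω] {g : ℕ → G} {pt : ℕ → Ω}
    (M : Md g pt H18.TE.M.P 1782 53 H18.TE.M.B 9643575969054720) : Stage ⊤ (wds g tbh_W) pt 1782 [tbl6, tbl7, tbl8, tbl9, tbl10, tbl11, tbl12, tbl13, tbl14, tbl15, tbl16, tbl17, tbl18, tbl19] [tbl5.Pt 0, tbl4.Pt 0, tbl3.Pt 0, tbl2.Pt 0, tbl1.Pt 0, tbl0.Pt 0] :=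
  (tb_S5 M).next
theorem tb_S7 {G Ω : Type*} [Group G] [MulAction G Ω] {g : ℕ → G} {pt : ℕ → Ω}
    (M : Md g pt H18.TE.M.P 1782 53 H18.TE.M.B 9643575969054720) : Stage ⊤ (wds g tbh_W) pt 1782 [tbl7, tbl8, tbl9, tbl10, tbl11, tbl12, tbl13, tbl14, tbl15, tbl16, tbl17, tbl18, tbl19] [tbl6.Pt 0, tbl5.Pt 0, tbl4.Pt 0, tbl3.Pt 0, tbl2.Pt 0, tbl1.Pt 0, tbl0.Pt 0] :=
  (tb_S6 M).next
theorem tb_S8 {G Ω : Type*} [Group G] [MulAction G Ω] {g : ℕ → G} {pt : ℕ → Ω}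
    (M : Md g pt H18.TE.M.P 1782 53 H18.TE.M.B 9643575969054720) : Stage ⊤ (wds g tbh_W) pt 1782 [tbl8, tbl9, tbl10, tbl11, tbl12, tbl13, tbl14, tbl15, tbl16, tbl17, tbl18, tbl19] [tbl7.Pt 0, tbl6.Pt 0, tbl5.Pt 0, tbl4.Pt 0, tbl3.Pt 0, tbl2.Pt 0, tbl1.Pt 0, tbl0.Pt 0] :=
  (tb_S7 M).next
theorem tb_S9 {G Ω : Type*} [Group G] [MulAction G Ω] {g : ℕ → G} {pt : ℕ → Ω}
    (M : Md g pt H18.TE.M.P 1782 53 H18.TE.M.B 9643575969054720) : Stage ⊤ (wds g tbh_W) pt 1782 [tbl9, tbl10, tbl11, tbl12, tbl13, tbl14, tbl15, tbl16, tbl17, tbl18, tbl19] [tbl8.Pt 0, tbl7.Pt 0, tbl6.Pt 0, tbl5.Pt 0, tbl4.Pt 0, tbl3.Pt 0, tbl2.Pt 0, tbl1.Pt 0, tbl0.Pt 0] :=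
  (tb_S8 M).next
theorem tb_S10 {G Ω : Type*} [Group G] [MulAction G Ω] {g : ℕ → G} {pt : ℕ → Ω}
    (M : Md g pt H18.TE.M.P 1782 53 H18.TE.M.B 9643575969054720) : Stage ⊤ (wds g tbh_W) pt 1782 [tbl10, tbl11, tbl12, tbl13, tbl14, tbl15, tbl16, tbl17, tbl18, tbl19] [tbl9.Pt 0, tbl8.Pt 0, tbl7.Pt 0, tbl6.Pt 0, tbl5.Pt 0, tbl4.Pt 0, tbl3.Pt 0, tbl2.Pt 0, tbl1.Pt 0, tbl0.Pt 0] :=
  (tb_S9 M).next
theorem tb_S11 {G Ω : Type*} [Group G] [MulAction G Ω] {g : ℕ → G} {pt : ℕ → Ω}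
    (M : Md g pt H18.TE.M.P 1782 53 H18.TE.M.B 9643575969054720) : Stage ⊤ (wds g tbh_W) pt 1782 [tbl11, tbl12, tbl13, tbl14, tbl15, tbl16, tbl17, tbl18, tbl19] [tbl10.Pt 0, tbl9.Pt 0, tbl8.Pt 0, tbl7.Pt 0, tbl6.Pt 0, tbl5.Pt 0, tbl4.Pt 0, tbl3.Pt 0, tbl2.Pt 0, tbl1.Pt 0, tbl0.Pt 0] :=
  (tb_S10 M).next
theorem tb_S12 {G Ω : Type*} [Group G] [MulAction G Ω] {g : ℕ → G} {pt : ℕ → Ω}
    (M : Md g pt H18.TE.M.P 1782 53 H18.TE.M.B 9643575969054720) : Stage ⊤ (wds g tbh_W) pt 1782 [tbl12, tbl13, tbl14, tbl15, tbl16, tbl17, tbl18, tbl19] [tbl11.Pt 0, tbl10.Pt 0, tbl9.Pt 0, tbl8.Pt 0, tbl7.Pt 0, tbl6.Pt 0, tbl5.Pt 0, tbl4.Pt 0, tbl3.Pt 0, tbl2.Pt 0, tbl1.Pt 0, tbl0.Pt 0] :=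
  (tb_S11 M).next
theorem tb_S13 {G Ω : Type*} [Group G] [MulAction G Ω] {g : ℕ → G} {pt : ℕ → Ω}
    (M : Md g pt H18.TE.M.P 1782 53 H18.TE.M.B 9643575969054720) : Stage ⊤ (wds g tbh_W) pt 1782 [tbl13, tbl14, tbl15, tbl16, tbl17, tbl18, tbl19] [tbl12.Pt 0, tbl11.Pt 0, tbl10.Pt 0, tbl9.Pt 0, tbl8.Pt 0, tbl7.Pt 0, tbl6.Pt 0, tbl5.Pt 0, tbl4.Pt 0, tbl3.Pt 0, tbl2.Pt 0, tbl1.Pt 0, tbl0.Pt 0] :=
  (tb_S12 M).next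
theorem tb_S14 {G Ω : Type*} [Group G] [MulAction G Ω] {g : ℕ → G} {pt : ℕ → Ω}
    (M : Md g pt H18.TE.M.P 1782 53 H18.TE.M.B 9643575969054720) : Stage ⊤ (wds g tbh_W) pt 1782 [tbl14, tbl15, tbl16, tbl17, tbl18, tbl19] [tbl13.Pt 0, tbl12.Pt 0, tbl11.Pt 0, tbl10.Pt 0, tbl9.Pt 0, tbl8.Pt 0, tbl7.Pt 0, tbl6.Pt 0, tbl5.Pt 0, tbl4.Pt 0, tbl3.Pt 0, tbl2.Pt 0, tbl1.Pt 0, tbl0.Pt 0] :=
  (tb_S13 M).next
theorem tb_S15 {G Ω : Type*} [Group G] [MulAction G Ω] {g : ℕ → G} {pt : ℕ → Ω}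
    (M : Md g pt H18.TE.M.P 1782 53 H18.TE.M.B 9643575969054720) : Stage ⊤ (wds g tbh_W) pt 1782 [tbl15, tbl16, tbl17, tbl18, tbl19] [tbl14.Pt 0, tbl13.Pt 0, tbl12.Pt 0, tbl11.Pt 0, tbl10.Pt 0, tbl9.Pt 0, tbl8.Pt 0, tbl7.Pt 0, tbl6.Pt 0, tbl5.Pt 0, tbl4.Pt 0, tbl3.Pt 0, tbl2.Pt 0, tbl1.Pt 0, tbl0.Pt 0] :=
  (tb_S14 M).next
theorem tb_S16 {G Ω : Type*} [Group G] [MulAction G Ω] {g : ℕ → G} {pt : ℕ → Ω}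
    (M : Md g pt H18.TE.M.P 1782 53 H18.TE.M.B 9643575969054720) : Stage ⊤ (wds g tbh_W) pt 1782 [tbl16, tbl17, tbl18, tbl19] [tbl15.Pt 0, tbl14.Pt 0, tbl13.Pt 0, tbl12.Pt 0, tbl11.Pt 0, tbl10.Pt 0, tbl9.Pt 0, tbl8.Pt 0, tbl7.Pt 0, tbl6.Pt 0, tbl5.Pt 0, tbl4.Pt 0, tbl3.Pt 0, tbl2.Pt 0, tbl1.Pt 0, tbl0.Pt 0] :=
  (tb_S15 M).next
theorem tb_S17 {G Ω : Type*} [Group G] [MulAction G Ω] {g : ℕ → G} {pt : ℕ → Ω}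
    (M : Md g pt H18.TE.M.P 1782 53 H18.TE.M.B 9643575969054720) : Stage ⊤ (wds g tbh_W) pt 1782 [tbl17, tbl18, tbl19] [tbl16.Pt 0, tbl15.Pt 0, tbl14.Pt 0, tbl13.Pt 0, tbl12.Pt 0, tbl11.Pt 0, tbl10.Pt 0, tbl9.Pt 0, tbl8.Pt 0, tbl7.Pt 0, tbl6.Pt 0, tbl5.Pt 0, tbl4.Pt 0, tbl3.Pt 0, tbl2.Pt 0, tbl1.Pt 0, tbl0.Pt 0] :=
  (tb_S16 M).next
theorem tb_S18 {G Ω : Type*} [Group G] [MulAction G Ω] {g : ℕ → G} {pt : ℕ → Ω}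
    (M : Md g pt H18.TE.M.P 1782 53 H18.TE.M.B 9643575969054720) : Stage ⊤ (wds g tbh_W) pt 1782 [tbl18, tbl19] [tbl17.Pt 0, tbl16.Pt 0, tbl15.Pt 0, tbl14.Pt 0, tbl13.Pt 0, tbl12.Pt 0, tbl11.Pt 0, tbl10.Pt 0, tbl9.Pt 0, tbl8.Pt 0, tbl7.Pt 0, tbl6.Pt 0, tbl5.Pt 0, tbl4.Pt 0, tbl3.Pt 0, tbl2.Pt 0, tbl1.Pt 0, tbl0.Pt 0] :=
  (tb_S17 M).next
theorem tb_S19 {G Ω : Type*} [Group G] [MulAction G Ω] {g : ℕ → G} {pt : ℕ → Ω}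
    (M : Md g pt H18.TE.M.P 1782 53 H18.TE.M.B 9643575969054720) : Stage ⊤ (wds g tbh_W) pt 1782 [tbl19] [tbl18.Pt 0, tbl17.Pt 0, tbl16.Pt 0, tbl15.Pt 0, tbl14.Pt 0, tbl13.Pt 0, tbl12.Pt 0, tbl11.Pt 0, tbl10.Pt 0, tbl9.Pt 0, tbl8.Pt 0, tbl7.Pt 0, tbl6.Pt 0, tbl5.Pt 0, tbl4.Pt 0, tbl3.Pt 0, tbl2.Pt 0, tbl1.Pt 0, tbl0.Pt 0] :=
  (tb_S18 M).next
theorem tb_S20 {G Ω : Type*} [Group G] [MulAction G Ω] {g : ℕ → G} {pt : ℕ → Ω}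
    (M : Md g pt H18.TE.M.P 1782 53 H18.TE.M.B 9643575969054720) : Stage ⊤ (wds g tbh_W) pt 1782 [] [tbl19.Pt 0, tbl18.Pt 0, tbl17.Pt 0, tbl16.Pt 0, tbl15.Pt 0, tbl14.Pt 0, tbl13.Pt 0, tbl12.Pt 0, tbl11.Pt 0, tbl10.Pt 0, tbl9.Pt 0, tbl8.Pt 0, tbl7.Pt 0, tbl6.Pt 0, tbl5.Pt 0, tbl4.Pt 0, tbl3.Pt 0, tbl2.Pt 0, tbl1.Pt 0, tbl0.Pt 0] :=
  (tb_S19 M).next
theorem cbe_act {G Ω : Type*} [Group G] [MulAction G Ω] {g : ℕ → G} {pt : ℕ → Ω}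
    (M : Md g pt H18.TE.M.P 1782 53 H18.TE.M.B 9643575969054720) : Act (wds g cbe_W) pt cbe_P 1782 3 :=
  M.wact cbe_lt
theorem tbn0_1 : ∀ i < 2, (tbn0.ent H18.TE.M.P tbh_P (rl [nat_lit 45] H18.TE.M.P) (rl [nat_lit 45] H18.TE.M.P) cbe_P (nat_lit 53) (nat_lit 1) H18.TE.M.B tbl17 [tbl18, tbl19] (fun w => Nat.xor w (tbl17.Pt (nat_lit 0)))) i = 0 := allZ_sound0 tbn0_1_0
theorem tbn0_t {G Ω : Type*} [Group G] [MulAction G Ω] {g : ℕ → G} {pt : ℕ → Ω}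
    (M : Md g pt H18.TE.M.P 1782 53 H18.TE.M.B 9643575969054720) : TrO (gen (wds g tbh_W) tbl17.K) (rl [45] g) (rl [45] g) 1 pt 1782 (tbl17.Pt 0) (fun w => Nat.xor w (tbl17.Pt (nat_lit 0))) :=
  node M (tb_S17 M) (tbh_act M) (xb_act M) (xb_act M) tbn0 ((cbe_act M).mono (by decide)) (fun _ _ => trivial) tbn0_0 tbn0_1 (List.forall_mem_nil _)
theorem tbn1_1 : ∀ i < 2, (tbn1.ent H18.TE.M.P tbh_P (rl [nat_lit 45] H18.TE.M.P) (rl [nat_lit 45] H18.TE.M.P) cbe_P (nat_lit 53) (nat_lit 1) H18.TE.M.B tbl14 [tbl15, tbl16, tbl17, tbl18, tbl19] (fun w => Nat.xor w (tbl14.Pt (nat_lit 0)))) i = 0 := allZ_sound0 tbn1_1_0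
theorem tbn1_t {G Ω : Type*} [Group G] [MulAction G Ω] {g : ℕ → G} {pt : ℕ → Ω}
    (M : Md g pt H18.TE.M.P 1782 53 H18.TE.M.B 9643575969054720) : TrO (gen (wds g tbh_W) tbl14.K) (rl [45] g) (rl [45] g) 1 pt 1782 (tbl14.Pt 0) (fun w => Nat.xor w (tbl14.Pt (nat_lit 0))) :=
  node M (tb_S14 M) (tbh_act M) (xb_act M) (xb_act M) tbn1 ((cbe_act M).mono (by decide)) (fun _ _ => trivial) tbn1_0 tbn1_1 (List.forall_mem_nil _)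
theorem cbc13_e : ∀ i < 1, (dent cbc13 cbe_P (nat_lit 1782)) i = 0 := allZ_sound0 cbc13_e_0
theorem cbc13_ok : DOK cbc13 cbe_P 1782 := ⟨cbc13_h, cbc13_e⟩
theorem tbn2_1 : ∀ i < 2, (tbn2.ent H18.TE.M.P tbh_P (rl [nat_lit 45] H18.TE.M.P) (rl [nat_lit 45] H18.TE.M.P) cbe_P (nat_lit 53) (nat_lit 1) H18.TE.M.B tbl13 [tbl14, tbl15, tbl16, tbl17, tbl18, tbl19] (memO cbc13)) i = 0 := allZ_sound0 tbn2_1_0
theorem tbn2_t {G Ω : Type*} [Group G] [MulAction G Ω] {g : ℕ → G} {pt : ℕ → Ω}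
    (M : Md g pt H18.TE.M.P 1782 53 H18.TE.M.B 9643575969054720) : TrO (gen (wds g tbh_W) tbl13.K) (rl [45] g) (rl [45] g) 1 pt 1782 (tbl13.Pt 0) (memO cbc13) :=
  node M (tb_S13 M) (tbh_act M) (xb_act M) (xb_act M) tbn2 ((cbe_act M).mono (by decide)) (fun _ _ => trivial) tbn2_0 tbn2_1 (List.forall_mem_nil _)
theorem tbn3_1 : ∀ i < 4, (tbn3.ent H18.TE.M.P tbh_P (rl [nat_lit 45] H18.TE.M.P) (rl [nat_lit 45] H18.TE.M.P) cbe_P (nat_lit 53) (nat_lit 1) H18.TE.M.B tbl7 [tbl8, tbl9, tbl10, tbl11, tbl12, tbl13, tbl14, tbl15, tbl16, tbl17, tbl18, tbl19] (fun w => Nat.xor w (tbl7.Pt (nat_lit 0)))) i = 0 := allZ_sound0 tbn3_1_0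
theorem tbn3_t {G Ω : Type*} [Group G] [MulAction G Ω] {g : ℕ → G} {pt : ℕ → Ω}
    (M : Md g pt H18.TE.M.P 1782 53 H18.TE.M.B 9643575969054720) : TrO (gen (wds g tbh_W) tbl7.K) (rl [45] g) (rl [45] g) 1 pt 1782 (tbl7.Pt 0) (fun w => Nat.xor w (tbl7.Pt (nat_lit 0))) :=
  node M (tb_S7 M) (tbh_act M) (xb_act M) (xb_act M) tbn3 ((cbe_act M).mono (by decide)) (fun _ _ => trivial) tbn3_0 tbn3_1 (List.forall_mem_nil _)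
theorem cbc1_e : ∀ i < 6, (dent cbc1 cbe_P (nat_lit 1782)) i = 0 := allZ_sound0 cbc1_e_0
theorem cbc1_ok : DOK cbc1 cbe_P 1782 := ⟨cbc1_h, cbc1_e⟩
theorem tbn4_1 : ∀ i < 84, (tbn4.ent H18.TE.M.P tbh_P (rl [nat_lit 45] H18.TE.M.P) (rl [nat_lit 45] H18.TE.M.P) cbe_P (nat_lit 53) (nat_lit 1) H18.TE.M.B tbl1 [tbl2, tbl3, tbl4, tbl5, tbl6, tbl7, tbl8, tbl9, tbl10, tbl11, tbl12, tbl13, tbl14, tbl15, tbl16, tbl17, tbl18, tbl19] (memO cbc1)) i = 0 := allZ_sound0 tbn4_1_0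
theorem tbn4_t {G Ω : Type*} [Group G] [MulAction G Ω] {g : ℕ → G} {pt : ℕ → Ω}
    (M : Md g pt H18.TE.M.P 1782 53 H18.TE.M.B 9643575969054720) : TrO (gen (wds g tbh_W) tbl1.K) (rl [45] g) (rl [45] g) 1 pt 1782 (tbl1.Pt 0) (memO cbc1) :=
  node M (tb_S1 M) (tbh_act M) (xb_act M) (xb_act M) tbn4 ((cbe_act M).mono (by decide)) (fun _ _ => trivial) tbn4_0 tbn4_1 (List.forall_mem_nil _)
theorem cbc0_e : ∀ i < 1, (dent cbc0 cbe_P (nat_lit 1782)) i = 0 := allZ_sound0 cbc0_e_0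
theorem cbc0_ok : DOK cbc0 cbe_P 1782 := ⟨cbc0_h, cbc0_e⟩
theorem tbn5y71_act {G Ω : Type*} [Group G] [MulAction G Ω] {g : ℕ → G} {pt : ℕ → Ω}
    (M : Md g pt H18.TE.M.P 1782 53 H18.TE.M.B 9643575969054720) : Act (wds g tbn5y71_W) pt tbn5y71_P 1782 1 :=
  M.wact tbn5y71_lt
theorem tbr6k_act {G Ω : Type*} [Group G] [MulAction G Ω] {g : ℕ → G} {pt : ℕ → Ω}
    (M : Md g pt H18.TE.M.P 1782 53 H18.TE.M.B 9643575969054720) : Act (wds g tbr6k_W) pt tbr6k_P 1782 2 :=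
  M.wact tbr6k_lt
theorem tbn6_1 : ∀ i < 84, (tbn6.ent H18.TE.M.P tbh_P (rl [nat_lit 45] H18.TE.M.P) tbn5y71_P tbr6k_P (nat_lit 53) (nat_lit 1) H18.TE.M.B tbl1 [tbl2, tbl3, tbl4, tbl5, tbl6, tbl7, tbl8, tbl9, tbl10, tbl11, tbl12, tbl13, tbl14, tbl15, tbl16, tbl17, tbl18, tbl19] (fun _ => nat_lit 1)) i = 0 := allZ_sound0 tbn6_1_0
theorem tbn6_t {G Ω : Type*} [Group G] [MulAction G Ω] {g : ℕ → G} {pt : ℕ → Ω}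
    (M : Md g pt H18.TE.M.P 1782 53 H18.TE.M.B 9643575969054720) : TrO (gen (wds g tbh_W) tbl1.K) (rl [45] g) (wds g tbn5y71_W) 1 pt 1782 (tbl1.Pt 0) (fun _ => nat_lit 1) :=
  node M (tb_S1 M) (tbh_act M) (xb_act M) (tbn5y71_act M) tbn6 ((tbr6k_act M).mono (by decide)) (fun _ _ => trivial) tbn6_0 tbn6_1 (List.forall_mem_nil _)
theorem tbr6 {G Ω : Type*} [Group G] [MulAction G Ω] {g : ℕ → G} {pt : ℕ → Ω}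
    (M : Md g pt H18.TE.M.P 1782 53 H18.TE.M.B 9643575969054720) : Ref (gen (wds g tbh_W) (topK [tbl1, tbl2, tbl3, tbl4, tbl5, tbl6, tbl7, tbl8, tbl9, tbl10, tbl11, tbl12, tbl13, tbl14, tbl15, tbl16, tbl17, tbl18, tbl19])) (rl [45] g) (wds g tbn5y71_W) 1 :=
  (tbn6_t M).ref
theorem tbn5_1 : ∀ i < 1782, (tbn5.ent H18.TE.M.P tbh_P (rl [nat_lit 45] H18.TE.M.P) (rl [nat_lit 45] H18.TE.M.P) cbe_P (nat_lit 53) (nat_lit 1) H18.TE.M.B tbl0 [tbl1, tbl2, tbl3, tbl4, tbl5, tbl6, tbl7, tbl8, tbl9, tbl10, tbl11, tbl12, tbl13, tbl14, tbl15, tbl16, tbl17, tbl18, tbl19] (memO cbc0)) i = 0 := allZ_sound0 tbn5_1_0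
theorem tbn5_t {G Ω : Type*} [Group G] [MulAction G Ω] {g : ℕ → G} {pt : ℕ → Ω}
    (M : Md g pt H18.TE.M.P 1782 53 H18.TE.M.B 9643575969054720) : TrO (gen (wds g tbh_W) tbl0.K) (rl [45] g) (rl [45] g) 1 pt 1782 (tbl0.Pt 0) (memO cbc0) :=
  node M (tb_S0 M) (tbh_act M) (xb_act M) (xb_act M) tbn5 ((cbe_act M).mono (by decide)) (fun _ _ => trivial) tbn5_0 tbn5_1 (List.forall_mem_cons.2 ⟨tbr6 M, List.forall_mem_nil _⟩)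
theorem cb {G Ω : Type*} [Group G] [MulAction G Ω] {g : ℕ → G} {pt : ℕ → Ω}
    (M : Md g pt H18.TE.M.P 1782 53 H18.TE.M.B 9643575969054720) : Cen ⊤ (rl [45] g) 1 (wds g cbe_W) pt 1782 [cbc0, cbc1, cbc13] :=
  (tb_S0 M).top ▸ Cen.lev M (tb_S0 M) (Cen.lev M (tb_S1 M) (Cen.triv (tb_S2 M) (Cen.triv (tb_S3 M) (Cen.triv (tb_S4 M) (Cen.triv (tb_S5 M) (Cen.triv (tb_S6 M) (Cen.triv (tb_S7 M) (Cen.triv (tb_S8 M) (Cen.triv (tb_S9 M) (Cen.triv (tb_S10 M) (Cen.triv (tb_S11 M) (Cen.triv (tb_S12 M) (Cen.lev M (tb_S13 M) (Cen.triv (tb_S14 M) (Cen.triv (tb_S15 M) (Cen.triv (tb_S16 M) (Cen.triv (tb_S17 M) (Cen.triv (tb_S18 M) (Cen.triv (tb_S19 M) (Cen.bot) (forced (tb_S19 M) (tbh_act M) (xb_act M) _ _ cb_f19)) (forced (tb_S18 M) (tbh_act M) (xb_act M) _ _ cb_f18)) (tbn0_t M)) (forced (tb_S16 M) (tbh_act M) (xb_act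 M) _ _ cb_f16)) (forced (tb_S15 M) (tbh_act M) (xb_act M) _ _ cb_f15)) (tbn1_t M)) (tbn2_t M) (xb_act M) (cbe_act M) (fun _ _ => trivial) cbc13_ok cb_f13) (forced (tb_S12 M) (tbh_act M) (xb_act M) _ _ cb_f12)) (forced (tb_S11 M) (tbh_act M) (xb_act M) _ _ cb_f11)) (forced (tb_S10 M) (tbh_act M) (xb_act M) _ _ cb_f10)) (forced (tb_S9 M) (tbh_act M) (xb_act M) _ _ cb_f9)) (forced (tb_S8 M) (tbh_act M) (xb_act M) _ _ cb_f8)) (tbn3_t M)) (forced (tb_S6 M) (tbh_act M) (xb_act M) _ _ cb_f6)) (forced (tb_S5 M) (tbh_act M) (xb_act M) _ _ cb_f5)) (forced (tb_S4 M) (tbh_act M) (xb_act M) _ _ cb_f4)) (forced (tb_S3 M) (tbh_act M) (xb_act M) _ _ cb_f3)) (forced (tb_S2 M) (tbh_act M) (xb_act M) _ _ cb_f2)) (tbn4_t M) (xb_act M) (cbe_act M) (fun _ _ => trivial) cbc1_ok cb_f1) (tbn5_t M) (xb_act M) (cbe_act M)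 (fun _ _ => trivial) cbc0_ok cb_f0
theorem cb_card {G Ω : Type*} [Group G] [MulAction G Ω] {g : ℕ → G} {pt : ℕ → Ω}
    (M : Md g pt H18.TE.M.P 1782 53 H18.TE.M.B 9643575969054720) : Nat.card (Subgroup.centralizer {(rl [45] g) 0}) = 28 :=
  (cb M).card_cent1 M.inj cb_c.1
theorem cb_eq {G Ω : Type*} [Group G] [MulAction G Ω] {g : ℕ → G} {pt : ℕ → Ω}
    (M : Md g pt H18.TE.M.P 1782 53 H18.TE.M.B 9643575969054720) : Subgroup.centralizer (gen (rl [45] g) 1) = gen (wds g cbe_W) 3 ∧ Nat.card (gen (wds g cbe_W) 3) = 28 :=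
  cb_c.1 ▸ cb_c.2 ▸ ⟨(cb M).cent, (cb M).card M.inj⟩
theorem yb_act {G Ω : Type*} [Group G] [MulAction G Ω] {g : ℕ → G} {pt : ℕ → Ω}
    (M : Md g pt H18.TE.M.P 1782 53 H18.TE.M.B 9643575969054720) : Act (rl [45, 10, 29] g) pt (rl [nat_lit 45, nat_lit 10, nat_lit 29] H18.TE.M.P) 1782 3 :=
  M.act.rl (by decide)
theorem gb {G Ω : Type*} [Group G] [MulAction G Ω] {g : ℕ → G} {pt : ℕ → Ω}
    (M : Md g pt H18.TE.M.P 1782 53 H18.TE.M.B 9643575969054720) : gen (wds g cbe_W) 3 ≤ gen (rl [45, 10, 29] g) 3 :=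
  M.gen_le (yb_act M) (cbe_act M) gb_k
theorem x4_act {G Ω : Type*} [Group G] [MulAction G Ω] {g : ℕ → G} {pt : ℕ → Ω}
    (M : Md g pt H18.TE.M.P 1782 53 H18.TE.M.B 9643575969054720) : Act (rl [49, 50, 11] g) pt (rl [nat_lit 49, nat_lit 50, nat_lit 11] H18.TE.M.P) 1782 3 :=
  M.act.rl (by decide)
theorem t4h_act {G Ω : Type*} [Group G] [MulAction G Ω] {g : ℕ → G} {pt : ℕ → Ω}
    (M : Md g pt H18.TE.M.P 1782 53 H18.TE.M.B 9643575969054720) : Act (wds g t4h_W) pt t4h_P 1782 70 :=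
  M.wact t4h_lt
theorem t4l0_e : ∀ i < 1781, (dent t4l0 t4h_P (nat_lit 1782)) i = 0 := allZ_sound0 t4l0_e_0
theorem t4l0_ok : DOK t4l0 t4h_P 1782 := ⟨t4l0_h, t4l0_e⟩
theorem t4l1_e : ∀ i < 83, (dent t4l1 t4h_P (nat_lit 1782)) i = 0 := allZ_sound0 t4l1_e_0
theorem t4l1_ok : DOK t4l1 t4h_P 1782 := ⟨t4l1_h, t4l1_e⟩
theorem t4l2_e : ∀ i < 79, (dent t4l2 t4h_P (nat_lit 1782)) i = 0 := allZ_sound0 t4l2_e_0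
theorem t4l2_ok : DOK t4l2 t4h_P 1782 := ⟨t4l2_h, t4l2_e⟩
theorem t4l3_e : ∀ i < 7, (dent t4l3 t4h_P (nat_lit 1782)) i = 0 := allZ_sound0 t4l3_e_0
theorem t4l3_ok : DOK t4l3 t4h_P 1782 := ⟨t4l3_h, t4l3_e⟩
theorem t4l4_e : ∀ i < 63, (dent t4l4 t4h_P (nat_lit 1782)) i = 0 := allZ_sound0 t4l4_e_0
theorem t4l4_ok : DOK t4l4 t4h_P 1782 := ⟨t4l4_h, t4l4_e⟩
theorem t4l5_e : ∀ i < 23, (dent t4l5 t4h_P (nat_lit 1782)) i = 0 := allZ_sound0 t4l5_e_0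
theorem t4l5_ok : DOK t4l5 t4h_P 1782 := ⟨t4l5_h, t4l5_e⟩
theorem t4l6_e : ∀ i < 7, (dent t4l6 t4h_P (nat_lit 1782)) i = 0 := allZ_sound0 t4l6_e_0
theorem t4l6_ok : DOK t4l6 t4h_P 1782 := ⟨t4l6_h, t4l6_e⟩
theorem t4l7_e : ∀ i < 1, (dent t4l7 t4h_P (nat_lit 1782)) i = 0 := allZ_sound0 t4l7_e_0
theorem t4l7_ok : DOK t4l7 t4h_P 1782 := ⟨t4l7_h, t4l7_e⟩
theorem t4l8_e : ∀ i < 1, (dent t4l8 t4h_P (nat_lit 1782)) i = 0 := allZ_sound0 t4l8_e_0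
theorem t4l8_ok : DOK t4l8 t4h_P 1782 := ⟨t4l8_h, t4l8_e⟩
theorem t4l9_e : ∀ i < 1, (dent t4l9 t4h_P (nat_lit 1782)) i = 0 := allZ_sound0 t4l9_e_0
theorem t4l9_ok : DOK t4l9 t4h_P 1782 := ⟨t4l9_h, t4l9_e⟩
theorem t4l10_e : ∀ i < 1, (dent t4l10 t4h_P (nat_lit 1782)) i = 0 := allZ_sound0 t4l10_e_0
theorem t4l10_ok : DOK t4l10 t4h_P 1782 := ⟨t4l10_h, t4l10_e⟩
theorem t4l11_e : ∀ i < 1, (dent t4l11 t4h_P (nat_lit 1782)) i = 0 := allZ_sound0 t4l11_e_0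
theorem t4l11_ok : DOK t4l11 t4h_P 1782 := ⟨t4l11_h, t4l11_e⟩
theorem t4l12_e : ∀ i < 1, (dent t4l12 t4h_P (nat_lit 1782)) i = 0 := allZ_sound0 t4l12_e_0
theorem t4l12_ok : DOK t4l12 t4h_P 1782 := ⟨t4l12_h, t4l12_e⟩
theorem t4l13_e : ∀ i < 1, (dent t4l13 t4h_P (nat_lit 1782)) i = 0 := allZ_sound0 t4l13_e_0
theorem t4l13_ok : DOK t4l13 t4h_P 1782 := ⟨t4l13_h, t4l13_e⟩
theorem t4l14_e : ∀ i < 1, (dent t4l14 t4h_P (nat_lit 1782)) i = 0 := allZ_sound0 t4l14_e_0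
theorem t4l14_ok : DOK t4l14 t4h_P 1782 := ⟨t4l14_h, t4l14_e⟩
theorem t4l15_e : ∀ i < 1, (dent t4l15 t4h_P (nat_lit 1782)) i = 0 := allZ_sound0 t4l15_e_0
theorem t4l15_ok : DOK t4l15 t4h_P 1782 := ⟨t4l15_h, t4l15_e⟩
theorem t4l16_e : ∀ i < 1, (dent t4l16 t4h_P (nat_lit 1782)) i = 0 := allZ_sound0 t4l16_e_0
theorem t4l16_ok : DOK t4l16 t4h_P 1782 := ⟨t4l16_h, t4l16_e⟩
theorem t4l17_e : ∀ i < 1, (dent t4l17 t4h_P (nat_lit 1782)) i = 0 := allZ_sound0 t4l17_e_0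
theorem t4l17_ok : DOK t4l17 t4h_P 1782 := ⟨t4l17_h, t4l17_e⟩
theorem t4l18_e : ∀ i < 1, (dent t4l18 t4h_P (nat_lit 1782)) i = 0 := allZ_sound0 t4l18_e_0
theorem t4l18_ok : DOK t4l18 t4h_P 1782 := ⟨t4l18_h, t4l18_e⟩
theorem t4l19_e : ∀ i < 1, (dent t4l19 t4h_P (nat_lit 1782)) i = 0 := allZ_sound0 t4l19_e_0
theorem t4l19_ok : DOK t4l19 t4h_P 1782 := ⟨t4l19_h, t4l19_e⟩
theorem t4_low {G Ω : Type*} [Group G] [MulAction G Ω] {g : ℕ → G} {pt : ℕ → Ω}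
    (M : Md g pt H18.TE.M.P 1782 53 H18.TE.M.B 9643575969054720) : SLow (gi (wds g t4h_W)) pt 1782 [t4l0, t4l1, t4l2, t4l3, t4l4, t4l5, t4l6, t4l7, t4l8, t4l9, t4l10, t4l11, t4l12, t4l13, t4l14, t4l15, t4l16, t4l17, t4l18, t4l19] :=
  ((((((((((((((((((((SLow.nil).cons t4l19_ok (t4h_act M) t4_f19).cons t4l18_ok (t4h_act M) t4_f18).cons t4l17_ok (t4h_act M) t4_f17).cons t4l16_ok (t4h_act M) t4_f16).cons t4l15_ok (t4h_act M) t4_f15).cons t4l14_ok (t4h_act M) t4_f14).cons t4l13_ok (t4h_act M) t4_f13).cons t4l12_ok (t4h_act M) t4_f12).cons t4l11_ok (t4h_act M) t4_f11).cons t4l10_ok (t4h_act M) t4_f10).cons t4l9_ok (t4h_act M) t4_f9).cons t4l8_ok (t4h_act M) t4_f8).cons t4l7_ok (t4h_act M) t4_f7).cons t4l6_ok (t4h_act M) t4_f6).cons t4l5_ok (t4h_act M) t4_f5).cons t4l4_ok (t4h_act M) t4_f4).cons t4l3_ok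 (t4h_act M) t4_f3).cons t4l2_ok (t4h_act M) t4_f2).cons t4l1_ok (t4h_act M) t4_f1).cons t4l0_ok (t4h_act M) t4_f0
theorem t4_S0 {G Ω : Type*} [Group G] [MulAction G Ω] {g : ℕ → G} {pt : ℕ → Ω}
    (M : Md g pt H18.TE.M.P 1782 53 H18.TE.M.B 9643575969054720) : Stage ⊤ (wds g t4h_W) pt 1782 [t4l0, t4l1, t4l2, t4l3, t4l4, t4l5, t4l6, t4l7, t4l8, t4l9, t4l10, t4l11, t4l12, t4l13, t4l14, t4l15, t4l16, t4l17, t4l18, t4l19] [] :=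
  M.stage (t4_low M) t4_c
theorem t4_S1 {G Ω : Type*} [Group G] [MulAction G Ω] {g : ℕ → G} {pt : ℕ → Ω}
    (M : Md g pt H18.TE.M.P 1782 53 H18.TE.M.B 9643575969054720) : Stage ⊤ (wds g t4h_W) pt 1782 [t4l1, t4l2, t4l3, t4l4, t4l5, t4l6, t4l7, t4l8, t4l9, t4l10, t4l11, t4l12, t4l13, t4l14, t4l15, t4l16, t4l17, t4l18, t4l19] [t4l0.Pt 0] :=
  (t4_S0 M).next
theorem t4_S2 {G Ω : Type*} [Group G] [MulAction G Ω] {g : ℕ → G} {pt : ℕ → Ω}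
    (M : Md g pt H18.TE.M.P 1782 53 H18.TE.M.B 9643575969054720) : Stage ⊤ (wds g t4h_W) pt 1782 [t4l2, t4l3, t4l4, t4l5, t4l6, t4l7, t4l8, t4l9, t4l10, t4l11, t4l12, t4l13, t4l14, t4l15, t4l16, t4l17, t4l18, t4l19] [t4l1.Pt 0, t4l0.Pt 0] :=
  (t4_S1 M).next
theorem t4_S3 {G Ω : Type*} [Group G] [MulAction G Ω] {g : ℕ → G} {pt : ℕ → Ω}
    (M : Md g pt H18.TE.M.P 1782 53 H18.TE.M.B 9643575969054720) : Stage ⊤ (wds g t4h_W) pt 1782 [t4l3, t4l4, t4l5, t4l6, t4l7, t4l8, t4l9, t4l10, t4l11, t4l12, t4l13, t4l14, t4l15, t4l16, t4l17, t4l18, t4l19] [t4l2.Pt 0, t4l1.Pt 0, t4l0.Pt 0] :=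
  (t4_S2 M).next
theorem t4_S4 {G Ω : Type*} [Group G] [MulAction G Ω] {g : ℕ → G} {pt : ℕ → Ω}
    (M : Md g pt H18.TE.M.P 1782 53 H18.TE.M.B 9643575969054720) : Stage ⊤ (wds g t4h_W) pt 1782 [t4l4, t4l5, t4l6, t4l7, t4l8, t4l9, t4l10, t4l11, t4l12, t4l13, t4l14, t4l15, t4l16, t4l17, t4l18, t4l19] [t4l3.Pt 0, t4l2.Pt 0, t4l1.Pt 0, t4l0.Pt 0] :=
  (t4_S3 M).next
theorem t4_S5 {G Ω : Type*} [Group G] [MulAction G Ω] {g : ℕ → G} {pt : ℕ → Ω}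
    (M : Md g pt H18.TE.M.P 1782 53 H18.TE.M.B 9643575969054720) : Stage ⊤ (wds g t4h_W) pt 1782 [t4l5, t4l6, t4l7, t4l8, t4l9, t4l10, t4l11, t4l12, t4l13, t4l14, t4l15, t4l16, t4l17, t4l18, t4l19] [t4l4.Pt 0, t4l3.Pt 0, t4l2.Pt 0, t4l1.Pt 0, t4l0.Pt 0] :=
  (t4_S4 M).next
theorem t4_S6 {G Ω : Type*} [Group G] [MulAction G Ω] {g : ℕ → G} {pt : ℕ → Ω}
    (M : Md g pt H18.TE.M.P 1782 53 H18.TE.M.B 9643575969054720) : Stage ⊤ (wds g t4h_W) pt 1782 [t4l6, t4l7, t4l8, t4l9, t4l10, t4l11, t4l12, t4l13, t4l14, t4l15, t4l16, t4l17, t4l18, t4l19] [t4l5.Pt 0, t4l4.Pt 0, t4l3.Pt 0, t4l2.Pt 0, t4l1.Pt 0, t4l0.Pt 0] :=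
  (t4_S5 M).next
theorem t4_S7 {G Ω : Type*} [Group G] [MulAction G Ω] {g : ℕ → G} {pt : ℕ → Ω}
    (M : Md g pt H18.TE.M.P 1782 53 H18.TE.M.B 9643575969054720) : Stage ⊤ (wds g t4h_W) pt 1782 [t4l7, t4l8, t4l9, t4l10, t4l11, t4l12, t4l13, t4l14, t4l15, t4l16, t4l17, t4l18, t4l19] [t4l6.Pt 0, t4l5.Pt 0, t4l4.Pt 0, t4l3.Pt 0, t4l2.Pt 0, t4l1.Pt 0, t4l0.Pt 0] :=
  (t4_S6 M).next
theorem t4_S8 {G Ω : Type*} [Group G] [MulAction G Ω] {g : ℕ → G} {pt : ℕ → Ω}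
    (M : Md g pt H18.TE.M.P 1782 53 H18.TE.M.B 9643575969054720) : Stage ⊤ (wds g t4h_W) pt 1782 [t4l8, t4l9, t4l10, t4l11, t4l12, t4l13, t4l14, t4l15, t4l16, t4l17, t4l18, t4l19] [t4l7.Pt 0, t4l6.Pt 0, t4l5.Pt 0, t4l4.Pt 0, t4l3.Pt 0, t4l2.Pt 0, t4l1.Pt 0, t4l0.Pt 0] :=
  (t4_S7 M).next
theorem t4_S9 {G Ω : Type*} [Group G] [MulAction G Ω] {g : ℕ → G} {pt : ℕ → Ω}
    (M : Md g pt H18.TE.M.P 1782 53 H18.TE.M.B 9643575969054720) : Stage ⊤ (wds g t4h_W) pt 1782 [t4l9, t4l10, t4l11, t4l12, t4l13, t4l14, t4l15, t4l16, t4l17, t4l18, t4l19] [t4l8.Pt 0, t4l7.Pt 0, t4l6.Pt 0, t4l5.Pt 0, t4l4.Pt 0, t4l3.Pt 0, t4l2.Pt 0, t4l1.Pt 0, t4l0.Pt 0] :=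
  (t4_S8 M).next
theorem t4_S10 {G Ω : Type*} [Group G] [MulAction G Ω] {g : ℕ → G} {pt : ℕ → Ω}
    (M : Md g pt H18.TE.M.P 1782 53 H18.TE.M.B 9643575969054720) : Stage ⊤ (wds g t4h_W) pt 1782 [t4l10, t4l11, t4l12, t4l13, t4l14, t4l15, t4l16, t4l17, t4l18, t4l19] [t4l9.Pt 0, t4l8.Pt 0, t4l7.Pt 0, t4l6.Pt 0, t4l5.Pt 0, t4l4.Pt 0, t4l3.Pt 0, t4l2.Pt 0, t4l1.Pt 0, t4l0.Pt 0] :=
  (t4_S9 M).next
theorem t4_S11 {G Ω : Type*} [Group G] [MulAction G Ω] {g : ℕ → G} {pt : ℕ → Ω}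
    (M : Md g pt H18.TE.M.P 1782 53 H18.TE.M.B 9643575969054720) : Stage ⊤ (wds g t4h_W) pt 1782 [t4l11, t4l12, t4l13, t4l14, t4l15, t4l16, t4l17, t4l18, t4l19] [t4l10.Pt 0, t4l9.Pt 0, t4l8.Pt 0, t4l7.Pt 0, t4l6.Pt 0, t4l5.Pt 0, t4l4.Pt 0, t4l3.Pt 0, t4l2.Pt 0, t4l1.Pt 0, t4l0.Pt 0] :=
  (t4_S10 M).next
theorem t4_S12 {G Ω : Type*} [Group G] [MulAction G Ω] {g : ℕ → G} {pt : ℕ → Ω}
    (M : Md g pt H18.TE.M.P 1782 53 H18.TE.M.B 9643575969054720) : Stage ⊤ (wds g t4h_W) pt 1782 [t4l12, t4l13, t4l14, t4l15, t4l16, t4l17, t4l18, t4l19] [t4l11.Pt 0, t4l10.Pt 0, t4l9.Pt 0, t4l8.Pt 0, t4l7.Pt 0, t4l6.Pt 0, t4l5.Pt 0, t4l4.Pt 0, t4l3.Pt 0, t4l2.Pt 0, t4l1.Pt 0, t4l0.Pt 0] :=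
  (t4_S11 M).next
theorem t4_S13 {G Ω : Type*} [Group G] [MulAction G Ω] {g : ℕ → G} {pt : ℕ → Ω}
    (M : Md g pt H18.TE.M.P 1782 53 H18.TE.M.B 9643575969054720) : Stage ⊤ (wds g t4h_W) pt 1782 [t4l13, t4l14, t4l15, t4l16, t4l17, t4l18, t4l19] [t4l12.Pt 0, t4l11.Pt 0, t4l10.Pt 0, t4l9.Pt 0, t4l8.Pt 0, t4l7.Pt 0, t4l6.Pt 0, t4l5.Pt 0, t4l4.Pt 0, t4l3.Pt 0, t4l2.Pt 0, t4l1.Pt 0, t4l0.Pt 0] :=
  (t4_S12 M).next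
theorem t4_S14 {G Ω : Type*} [Group G] [MulAction G Ω] {g : ℕ → G} {pt : ℕ → Ω}
    (M : Md g pt H18.TE.M.P 1782 53 H18.TE.M.B 9643575969054720) : Stage ⊤ (wds g t4h_W) pt 1782 [t4l14, t4l15, t4l16, t4l17, t4l18, t4l19] [t4l13.Pt 0, t4l12.Pt 0, t4l11.Pt 0, t4l10.Pt 0, t4l9.Pt 0, t4l8.Pt 0, t4l7.Pt 0, t4l6.Pt 0, t4l5.Pt 0, t4l4.Pt 0, t4l3.Pt 0, t4l2.Pt 0, t4l1.Pt 0, t4l0.Pt 0] :=
  (t4_S13 M).next
theorem t4_S15 {G Ω : Type*} [Group G] [MulAction G Ω] {g : ℕ → G} {pt : ℕ → Ω}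
    (M : Md g pt H18.TE.M.P 1782 53 H18.TE.M.B 9643575969054720) : Stage ⊤ (wds g t4h_W) pt 1782 [t4l15, t4l16, t4l17, t4l18, t4l19] [t4l14.Pt 0, t4l13.Pt 0, t4l12.Pt 0, t4l11.Pt 0, t4l10.Pt 0, t4l9.Pt 0, t4l8.Pt 0, t4l7.Pt 0, t4l6.Pt 0, t4l5.Pt 0, t4l4.Pt 0, t4l3.Pt 0, t4l2.Pt 0, t4l1.Pt 0, t4l0.Pt 0] :=
  (t4_S14 M).next
theorem t4_S16 {G Ω : Type*} [Group G] [MulAction G Ω] {g : ℕ → G} {pt : ℕ → Ω}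
    (M : Md g pt H18.TE.M.P 1782 53 H18.TE.M.B 9643575969054720) : Stage ⊤ (wds g t4h_W) pt 1782 [t4l16, t4l17, t4l18, t4l19] [t4l15.Pt 0, t4l14.Pt 0, t4l13.Pt 0, t4l12.Pt 0, t4l11.Pt 0, t4l10.Pt 0, t4l9.Pt 0, t4l8.Pt 0, t4l7.Pt 0, t4l6.Pt 0, t4l5.Pt 0, t4l4.Pt 0, t4l3.Pt 0, t4l2.Pt 0, t4l1.Pt 0, t4l0.Pt 0] :=
  (t4_S15 M).next
theorem t4_S17 {G Ω : Type*} [Group G] [MulAction G Ω] {g : ℕ → G} {pt : ℕ → Ω}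
    (M : Md g pt H18.TE.M.P 1782 53 H18.TE.M.B 9643575969054720) : Stage ⊤ (wds g t4h_W) pt 1782 [t4l17, t4l18, t4l19] [t4l16.Pt 0, t4l15.Pt 0, t4l14.Pt 0, t4l13.Pt 0, t4l12.Pt 0, t4l11.Pt 0, t4l10.Pt 0, t4l9.Pt 0, t4l8.Pt 0, t4l7.Pt 0, t4l6.Pt 0, t4l5.Pt 0, t4l4.Pt 0, t4l3.Pt 0, t4l2.Pt 0, t4l1.Pt 0, t4l0.Pt 0] :=
  (t4_S16 M).next
theorem t4_S18 {G Ω : Type*} [Group G] [MulAction G Ω] {g : ℕ → G} {pt : ℕ → Ω}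
    (M : Md g pt H18.TE.M.P 1782 53 H18.TE.M.B 9643575969054720) : Stage ⊤ (wds g t4h_W) pt 1782 [t4l18, t4l19] [t4l17.Pt 0, t4l16.Pt 0, t4l15.Pt 0, t4l14.Pt 0, t4l13.Pt 0, t4l12.Pt 0, t4l11.Pt 0, t4l10.Pt 0, t4l9.Pt 0, t4l8.Pt 0, t4l7.Pt 0, t4l6.Pt 0, t4l5.Pt 0, t4l4.Pt 0, t4l3.Pt 0, t4l2.Pt 0, t4l1.Pt 0, t4l0.Pt 0] :=
  (t4_S17 M).next
theorem t4_S19 {G Ω : Type*} [Group G] [MulAction G Ω] {g : ℕ → G} {pt : ℕ → Ω}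
    (M : Md g pt H18.TE.M.P 1782 53 H18.TE.M.B 9643575969054720) : Stage ⊤ (wds g t4h_W) pt 1782 [t4l19] [t4l18.Pt 0, t4l17.Pt 0, t4l16.Pt 0, t4l15.Pt 0, t4l14.Pt 0, t4l13.Pt 0, t4l12.Pt 0, t4l11.Pt 0, t4l10.Pt 0, t4l9.Pt 0, t4l8.Pt 0, t4l7.Pt 0, t4l6.Pt 0, t4l5.Pt 0, t4l4.Pt 0, t4l3.Pt 0, t4l2.Pt 0, t4l1.Pt 0, t4l0.Pt 0] :=
  (t4_S18 M).next
theorem t4_S20 {G Ω : Type*} [Group G] [MulAction G Ω] {g : ℕ → G} {pt : ℕ → Ω}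
    (M : Md g pt H18.TE.M.P 1782 53 H18.TE.M.B 9643575969054720) : Stage ⊤ (wds g t4h_W) pt 1782 [] [t4l19.Pt 0, t4l18.Pt 0, t4l17.Pt 0, t4l16.Pt 0, t4l15.Pt 0, t4l14.Pt 0, t4l13.Pt 0, t4l12.Pt 0, t4l11.Pt 0, t4l10.Pt 0, t4l9.Pt 0, t4l8.Pt 0, t4l7.Pt 0, t4l6.Pt 0, t4l5.Pt 0, t4l4.Pt 0, t4l3.Pt 0, t4l2.Pt 0, t4l1.Pt 0, t4l0.Pt 0] :=
  (t4_S19 M).next
theorem c4e_act {G Ω : Type*} [Group G] [MulAction G Ω] {g : ℕ → G} {pt : ℕ → Ω}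
    (M : Md g pt H18.TE.M.P 1782 53 H18.TE.M.B 9643575969054720) : Act (wds g c4e_W) pt c4e_P 1782 3 :=
  M.wact c4e_lt
theorem c4c19_e : ∀ i < 1, (dent c4c19 c4e_P (nat_lit 1782)) i = 0 := allZ_sound0 c4c19_e_0
theorem c4c19_ok : DOK c4c19 c4e_P 1782 := ⟨c4c19_h, c4c19_e⟩
theorem t4n0_1 : ∀ i < 2, (t4n0.ent H18.TE.M.P t4h_P (rl [nat_lit 49, nat_lit 50, nat_lit 11] H18.TE.M.P) (rl [nat_lit 49, nat_lit 50, nat_lit 11] H18.TE.M.P) c4e_P (nat_lit 53) (nat_lit 3) H18.TE.M.B t4l19 [] (memO c4c19)) i = 0 := allZ_sound0 t4n0_1_0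
theorem t4n0_t {G Ω : Type*} [Group G] [MulAction G Ω] {g : ℕ → G} {pt : ℕ → Ω}
    (M : Md g pt H18.TE.M.P 1782 53 H18.TE.M.B 9643575969054720) : TrO (gen (wds g t4h_W) t4l19.K) (rl [49, 50, 11] g) (rl [49, 50, 11] g) 3 pt 1782 (t4l19.Pt 0) (memO c4c19) :=
  node M (t4_S19 M) (t4h_act M) (x4_act M) (x4_act M) t4n0 ((c4e_act M).mono (by decide)) (fun _ _ => trivial) t4n0_0 t4n0_1 (List.forall_mem_nil _)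
theorem c4c18_e : ∀ i < 1, (dent c4c18 c4e_P (nat_lit 1782)) i = 0 := allZ_sound0 c4c18_e_0
theorem c4c18_ok : DOK c4c18 c4e_P 1782 := ⟨c4c18_h, c4c18_e⟩
theorem t4n1_1 : ∀ i < 2, (t4n1.ent H18.TE.M.P t4h_P (rl [nat_lit 49, nat_lit 50, nat_lit 11] H18.TE.M.P) (rl [nat_lit 49, nat_lit 50, nat_lit 11] H18.TE.M.P) c4e_P (nat_lit 53) (nat_lit 3) H18.TE.M.B t4l18 [t4l19] (memO c4c18)) i = 0 := allZ_sound0 t4n1_1_0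
theorem t4n1_t {G Ω : Type*} [Group G] [MulAction G Ω] {g : ℕ → G} {pt : ℕ → Ω}
    (M : Md g pt H18.TE.M.P 1782 53 H18.TE.M.B 9643575969054720) : TrO (gen (wds g t4h_W) t4l18.K) (rl [49, 50, 11] g) (rl [49, 50, 11] g) 3 pt 1782 (t4l18.Pt 0) (memO c4c18) :=
  node M (t4_S18 M) (t4h_act M) (x4_act M) (x4_act M) t4n1 ((c4e_act M).mono (by decide)) (fun _ _ => trivial) t4n1_0 t4n1_1 (List.forall_mem_nil _)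
theorem c4c0_e : ∀ i < 1, (dent c4c0 c4e_P (nat_lit 1782)) i = 0 := allZ_sound0 c4c0_e_0
theorem c4c0_ok : DOK c4c0 c4e_P 1782 := ⟨c4c0_h, c4c0_e⟩
theorem t4n2_1 : ∀ i < 1782, (t4n2.ent H18.TE.M.P t4h_P (rl [nat_lit 49, nat_lit 50, nat_lit 11] H18.TE.M.P) (rl [nat_lit 49, nat_lit 50, nat_lit 11] H18.TE.M.P) c4e_P (nat_lit 53) (nat_lit 3) H18.TE.M.B t4l0 [t4l1, t4l2, t4l3, t4l4, t4l5, t4l6, t4l7, t4l8, t4l9, t4l10, t4l11, t4l12, t4l13, t4l14, t4l15, t4l16, t4l17, t4l18, t4l19] (memO c4c0)) i = 0 := allZ_sound0 t4n2_1_0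
theorem t4n2_t {G Ω : Type*} [Group G] [MulAction G Ω] {g : ℕ → G} {pt : ℕ → Ω}
    (M : Md g pt H18.TE.M.P 1782 53 H18.TE.M.B 9643575969054720) : TrO (gen (wds g t4h_W) t4l0.K) (rl [49, 50, 11] g) (rl [49, 50, 11] g) 3 pt 1782 (t4l0.Pt 0) (memO c4c0) :=
  node M (t4_S0 M) (t4h_act M) (x4_act M) (x4_act M) t4n2 ((c4e_act M).mono (by decide)) (fun _ _ => trivial) t4n2_0 t4n2_1 (List.forall_mem_nil _)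
theorem c4 {G Ω : Type*} [Group G] [MulAction G Ω] {g : ℕ → G} {pt : ℕ → Ω}
    (M : Md g pt H18.TE.M.P 1782 53 H18.TE.M.B 9643575969054720) : Cen ⊤ (rl [49, 50, 11] g) 3 (wds g c4e_W) pt 1782 [c4c0, c4c18, c4c19] :=
  (t4_S0 M).top ▸ Cen.lev M (t4_S0 M) (Cen.triv (t4_S1 M) (Cen.triv (t4_S2 M) (Cen.triv (t4_S3 M) (Cen.triv (t4_S4 M) (Cen.triv (t4_S5 M) (Cen.triv (t4_S6 M) (Cen.triv (t4_S7 M) (Cen.triv (t4_S8 M) (Cen.triv (t4_S9 M) (Cen.triv (t4_S10 M) (Cen.triv (t4_S11 M) (Cen.triv (t4_S12 M) (Cen.triv (t4_S13 M) (Cen.triv (t4_S14 M) (Cen.triv (t4_S15 M) (Cen.triv (t4_S16 M) (Cen.triv (t4_S17 M) (Cen.lev M (t4_S18 M) (Cen.lev M (t4_S19 M) (Cen.bot) (t4n0_t M) (x4_act M) (c4e_act M) (fun _ _ => trivial) c4c19_ok c4_f19) (t4n1_t M) (x4_act M) (c4e_act M) (fun _ _ => trivial) c4c18_ok c4_f18) (forced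 (t4_S17 M) (t4h_act M) (x4_act M) _ _ c4_f17)) (forced (t4_S16 M) (t4h_act M) (x4_act M) _ _ c4_f16)) (forced (t4_S15 M) (t4h_act M) (x4_act M) _ _ c4_f15)) (forced (t4_S14 M) (t4h_act M) (x4_act M) _ _ c4_f14)) (forced (t4_S13 M) (t4h_act M) (x4_act M) _ _ c4_f13)) (forced (t4_S12 M) (t4h_act M) (x4_act M) _ _ c4_f12)) (forced (t4_S11 M) (t4h_act M) (x4_act M) _ _ c4_f11)) (forced (t4_S10 M) (t4h_act M) (x4_act M) _ _ c4_f10)) (forced (t4_S9 M) (t4h_act M) (x4_act M) _ _ c4_f9)) (forced (t4_S8 M) (t4h_act M) (x4_act M) _ _ c4_f8)) (forced (t4_S7 M) (t4h_act M) (x4_act M) _ _ c4_f7)) (forced (t4_S6 M) (t4h_act M) (x4_act M) _ _ c4_f6)) (forced (t4_S5 M) (t4h_act M) (x4_act M) _ _ c4_f5)) (forced (t4_S4 M) (t4h_act M) (x4_act M) _ _ c4_f4)) (forced (t4_S3 M) (t4h_act M) (x4_act M) _ _ c4_f3)) (forced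 (t4_S2 M) (t4h_act M) (x4_act M) _ _ c4_f2)) (forced (t4_S1 M) (t4h_act M) (x4_act M) _ _ c4_f1)) (t4n2_t M) (x4_act M) (c4e_act M) (fun _ _ => trivial) c4c0_ok c4_f0
theorem c4_eq {G Ω : Type*} [Group G] [MulAction G Ω] {g : ℕ → G} {pt : ℕ → Ω}
    (M : Md g pt H18.TE.M.P 1782 53 H18.TE.M.B 9643575969054720) : Subgroup.centralizer (gen (rl [49, 50, 11] g) 3) = gen (wds g c4e_W) 3 ∧ Nat.card (gen (wds g c4e_W) 3) = 8 :=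
  c4_c.1 ▸ c4_c.2 ▸ ⟨(c4 M).cent, (c4 M).card M.inj⟩
theorem y4_act {G Ω : Type*} [Group G] [MulAction G Ω] {g : ℕ → G} {pt : ℕ → Ω}
    (M : Md g pt H18.TE.M.P 1782 53 H18.TE.M.B 9643575969054720) : Act (rl [10, 28, 29] g) pt (rl [nat_lit 10, nat_lit 28, nat_lit 29] H18.TE.M.P) 1782 3 :=
  M.act.rl (by decide)
theorem g4 {G Ω : Type*} [Group G] [MulAction G Ω] {g : ℕ → G} {pt : ℕ → Ω}
    (M : Md g pt H18.TE.M.P 1782 53 H18.TE.M.B 9643575969054720) : gen (wds g c4e_W) 3 ≤ gen (rl [10, 28, 29] g) 3 :=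
  M.gen_le (y4_act M) (c4e_act M) g4_k
theorem xs_act {G Ω : Type*} [Group G] [MulAction G Ω] {g : ℕ → G} {pt : ℕ → Ω}
    (M : Md g pt H18.TE.M.P 1782 53 H18.TE.M.B 9643575969054720) : Act (rl [10] g) pt (rl [nat_lit 10] H18.TE.M.P) 1782 1 :=
  M.act.rl (by decide)
theorem tsh_act {G Ω : Type*} [Group G] [MulAction G Ω] {g : ℕ → G} {pt : ℕ → Ω}
    (M : Md g pt H18.TE.M.P 1782 53 H18.TE.M.B 9643575969054720) : Act (wds g tsh_W) pt tsh_P 1782 67 :=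
  M.wact tsh_lt
theorem tsl0_e : ∀ i < 1781, (dent tsl0 tsh_P (nat_lit 1782)) i = 0 := allZ_sound0 tsl0_e_0
theorem tsl0_ok : DOK tsl0 tsh_P 1782 := ⟨tsl0_h, tsl0_e⟩
theorem tsl1_e : ∀ i < 83, (dent tsl1 tsh_P (nat_lit 1782)) i = 0 := allZ_sound0 tsl1_e_0
theorem tsl1_ok : DOK tsl1 tsh_P 1782 := ⟨tsl1_h, tsl1_e⟩
theorem tsl2_e : ∀ i < 79, (dent tsl2 tsh_P (nat_lit 1782)) i = 0 := allZ_sound0 tsl2_e_0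
theorem tsl2_ok : DOK tsl2 tsh_P 1782 := ⟨tsl2_h, tsl2_e⟩
theorem tsl3_e : ∀ i < 7, (dent tsl3 tsh_P (nat_lit 1782)) i = 0 := allZ_sound0 tsl3_e_0
theorem tsl3_ok : DOK tsl3 tsh_P 1782 := ⟨tsl3_h, tsl3_e⟩
theorem tsl4_e : ∀ i < 5, (dent tsl4 tsh_P (nat_lit 1782)) i = 0 := allZ_sound0 tsl4_e_0
theorem tsl4_ok : DOK tsl4 tsh_P 1782 := ⟨tsl4_h, tsl4_e⟩
theorem tsl5_e : ∀ i < 1, (dent tsl5 tsh_P (nat_lit 1782)) i = 0 := allZ_sound0 tsl5_e_0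
theorem tsl5_ok : DOK tsl5 tsh_P 1782 := ⟨tsl5_h, tsl5_e⟩
theorem tsl6_e : ∀ i < 63, (dent tsl6 tsh_P (nat_lit 1782)) i = 0 := allZ_sound0 tsl6_e_0
theorem tsl6_ok : DOK tsl6 tsh_P 1782 := ⟨tsl6_h, tsl6_e⟩
theorem tsl7_e : ∀ i < 3, (dent tsl7 tsh_P (nat_lit 1782)) i = 0 := allZ_sound0 tsl7_e_0
theorem tsl7_ok : DOK tsl7 tsh_P 1782 := ⟨tsl7_h, tsl7_e⟩
theorem tsl8_e : ∀ i < 3, (dent tsl8 tsh_P (nat_lit 1782)) i = 0 := allZ_sound0 tsl8_e_0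
theorem tsl8_ok : DOK tsl8 tsh_P 1782 := ⟨tsl8_h, tsl8_e⟩
theorem tsl9_e : ∀ i < 3, (dent tsl9 tsh_P (nat_lit 1782)) i = 0 := allZ_sound0 tsl9_e_0
theorem tsl9_ok : DOK tsl9 tsh_P 1782 := ⟨tsl9_h, tsl9_e⟩
theorem tsl10_e : ∀ i < 1, (dent tsl10 tsh_P (nat_lit 1782)) i = 0 := allZ_sound0 tsl10_e_0
theorem tsl10_ok : DOK tsl10 tsh_P 1782 := ⟨tsl10_h, tsl10_e⟩
theorem tsl11_e : ∀ i < 1, (dent tsl11 tsh_P (nat_lit 1782)) i = 0 := allZ_sound0 tsl11_e_0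
theorem tsl11_ok : DOK tsl11 tsh_P 1782 := ⟨tsl11_h, tsl11_e⟩
theorem tsl12_e : ∀ i < 3, (dent tsl12 tsh_P (nat_lit 1782)) i = 0 := allZ_sound0 tsl12_e_0
theorem tsl12_ok : DOK tsl12 tsh_P 1782 := ⟨tsl12_h, tsl12_e⟩
theorem tsl13_e : ∀ i < 1, (dent tsl13 tsh_P (nat_lit 1782)) i = 0 := allZ_sound0 tsl13_e_0
theorem tsl13_ok : DOK tsl13 tsh_P 1782 := ⟨tsl13_h, tsl13_e⟩
theorem tsl14_e : ∀ i < 1, (dent tsl14 tsh_P (nat_lit 1782)) i = 0 := allZ_sound0 tsl14_e_0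
theorem tsl14_ok : DOK tsl14 tsh_P 1782 := ⟨tsl14_h, tsl14_e⟩
theorem tsl15_e : ∀ i < 1, (dent tsl15 tsh_P (nat_lit 1782)) i = 0 := allZ_sound0 tsl15_e_0
theorem tsl15_ok : DOK tsl15 tsh_P 1782 := ⟨tsl15_h, tsl15_e⟩
theorem tsl16_e : ∀ i < 1, (dent tsl16 tsh_P (nat_lit 1782)) i = 0 := allZ_sound0 tsl16_e_0
theorem tsl16_ok : DOK tsl16 tsh_P 1782 := ⟨tsl16_h, tsl16_e⟩
theorem tsl17_e : ∀ i < 1, (dent tsl17 tsh_P (nat_lit 1782)) i = 0 := allZ_sound0 tsl17_e_0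
theorem tsl17_ok : DOK tsl17 tsh_P 1782 := ⟨tsl17_h, tsl17_e⟩
theorem tsl18_e : ∀ i < 1, (dent tsl18 tsh_P (nat_lit 1782)) i = 0 := allZ_sound0 tsl18_e_0
theorem tsl18_ok : DOK tsl18 tsh_P 1782 := ⟨tsl18_h, tsl18_e⟩
theorem tsl19_e : ∀ i < 1, (dent tsl19 tsh_P (nat_lit 1782)) i = 0 := allZ_sound0 tsl19_e_0
theorem tsl19_ok : DOK tsl19 tsh_P 1782 := ⟨tsl19_h, tsl19_e⟩
theorem ts_low {G Ω : Type*} [Group G] [MulAction G Ω] {g : ℕ → G} {pt : ℕ → Ω}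
    (M : Md g pt H18.TE.M.P 1782 53 H18.TE.M.B 9643575969054720) : SLow (gi (wds g tsh_W)) pt 1782 [tsl0, tsl1, tsl2, tsl3, tsl4, tsl5, tsl6, tsl7, tsl8, tsl9, tsl10, tsl11, tsl12, tsl13, tsl14, tsl15, tsl16, tsl17, tsl18, tsl19] :=
  ((((((((((((((((((((SLow.nil).cons tsl19_ok (tsh_act M) ts_f19).cons tsl18_ok (tsh_act M) ts_f18).cons tsl17_ok (tsh_act M) ts_f17).cons tsl16_ok (tsh_act M) ts_f16).cons tsl15_ok (tsh_act M) ts_f15).cons tsl14_ok (tsh_act M) ts_f14).cons tsl13_ok (tsh_act M) ts_f13).cons tsl12_ok (tsh_act M) ts_f12).cons tsl11_ok (tsh_act M) ts_f11).cons tsl10_ok (tsh_act M) ts_f10).cons tsl9_ok (tsh_act M) ts_f9).cons tsl8_ok (tsh_act M) ts_f8).cons tsl7_ok (tsh_act M) ts_f7).cons tsl6_ok (tsh_act M) ts_f6).cons tsl5_ok (tsh_act M) ts_f5).cons tsl4_ok (tsh_act M) ts_f4).cons tsl3_ok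 (tsh_act M) ts_f3).cons tsl2_ok (tsh_act M) ts_f2).cons tsl1_ok (tsh_act M) ts_f1).cons tsl0_ok (tsh_act M) ts_f0
theorem ts_S0 {G Ω : Type*} [Group G] [MulAction G Ω] {g : ℕ → G} {pt : ℕ → Ω}
    (M : Md g pt H18.TE.M.P 1782 53 H18.TE.M.B 9643575969054720) : Stage ⊤ (wds g tsh_W) pt 1782 [tsl0, tsl1, tsl2, tsl3, tsl4, tsl5, tsl6, tsl7, tsl8, tsl9, tsl10, tsl11, tsl12, tsl13, tsl14, tsl15, tsl16, tsl17, tsl18, tsl19] [] :=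
  M.stage (ts_low M) ts_c
theorem ts_S1 {G Ω : Type*} [Group G] [MulAction G Ω] {g : ℕ → G} {pt : ℕ → Ω}
    (M : Md g pt H18.TE.M.P 1782 53 H18.TE.M.B 9643575969054720) : Stage ⊤ (wds g tsh_W) pt 1782 [tsl1, tsl2, tsl3, tsl4, tsl5, tsl6, tsl7, tsl8, tsl9, tsl10, tsl11, tsl12, tsl13, tsl14, tsl15, tsl16, tsl17, tsl18, tsl19] [tsl0.Pt 0] :=
  (ts_S0 M).next
theorem ts_S2 {G Ω : Type*} [Group G] [MulAction G Ω] {g : ℕ → G} {pt : ℕ → Ω}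
    (M : Md g pt H18.TE.M.P 1782 53 H18.TE.M.B 9643575969054720) : Stage ⊤ (wds g tsh_W) pt 1782 [tsl2, tsl3, tsl4, tsl5, tsl6, tsl7, tsl8, tsl9, tsl10, tsl11, tsl12, tsl13, tsl14, tsl15, tsl16, tsl17, tsl18, tsl19] [tsl1.Pt 0, tsl0.Pt 0] :=
  (ts_S1 M).next
theorem ts_S3 {G Ω : Type*} [Group G] [MulAction G Ω] {g : ℕ → G} {pt : ℕ → Ω}
    (M : Md g pt H18.TE.M.P 1782 53 H18.TE.M.B 9643575969054720) : Stage ⊤ (wds g tsh_W) pt 1782 [tsl3, tsl4, tsl5, tsl6, tsl7, tsl8, tsl9, tsl10, tsl11, tsl12, tsl13, tsl14, tsl15, tsl16, tsl17, tsl18, tsl19] [tsl2.Pt 0, tsl1.Pt 0, tsl0.Pt 0] :=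
  (ts_S2 M).next
theorem ts_S4 {G Ω : Type*} [Group G] [MulAction G Ω] {g : ℕ → G} {pt : ℕ → Ω}
    (M : Md g pt H18.TE.M.P 1782 53 H18.TE.M.B 9643575969054720) : Stage ⊤ (wds g tsh_W) pt 1782 [tsl4, tsl5, tsl6, tsl7, tsl8, tsl9, tsl10, tsl11, tsl12, tsl13, tsl14, tsl15, tsl16, tsl17, tsl18, tsl19] [tsl3.Pt 0, tsl2.Pt 0, tsl1.Pt 0, tsl0.Pt 0] :=
  (ts_S3 M).next
theorem ts_S5 {G Ω : Type*} [Group G] [MulAction G Ω] {g : ℕ → G} {pt : ℕ → Ω}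
    (M : Md g pt H18.TE.M.P 1782 53 H18.TE.M.B 9643575969054720) : Stage ⊤ (wds g tsh_W) pt 1782 [tsl5, tsl6, tsl7, tsl8, tsl9, tsl10, tsl11, tsl12, tsl13, tsl14, tsl15, tsl16, tsl17, tsl18, tsl19] [tsl4.Pt 0, tsl3.Pt 0, tsl2.Pt 0, tsl1.Pt 0, tsl0.Pt 0] :=
  (ts_S4 M).next
theorem ts_S6 {G Ω : Type*} [Group G] [MulAction G Ω] {g : ℕ → G} {pt : ℕ → Ω}
    (M : Md g pt H18.TE.M.P 1782 53 H18.TE.M.B 9643575969054720) : Stage ⊤ (wds g tsh_W) pt 1782 [tsl6, tsl7, tsl8, tsl9, tsl10, tsl11, tsl12, tsl13, tsl14, tsl15, tsl16, tsl17, tsl18, tsl19] [tsl5.Pt 0, tsl4.Pt 0, tsl3.Pt 0, tsl2.Pt 0, tsl1.Pt 0, tsl0.Pt 0] :=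
  (ts_S5 M).next
theorem ts_S7 {G Ω : Type*} [Group G] [MulAction G Ω] {g : ℕ → G} {pt : ℕ → Ω}
    (M : Md g pt H18.TE.M.P 1782 53 H18.TE.M.B 9643575969054720) : Stage ⊤ (wds g tsh_W) pt 1782 [tsl7, tsl8, tsl9, tsl10, tsl11, tsl12, tsl13, tsl14, tsl15, tsl16, tsl17, tsl18, tsl19] [tsl6.Pt 0, tsl5.Pt 0, tsl4.Pt 0, tsl3.Pt 0, tsl2.Pt 0, tsl1.Pt 0, tsl0.Pt 0] :=
  (ts_S6 M).next
theorem ts_S8 {G Ω : Type*} [Group G] [MulAction G Ω] {g : ℕ → G} {pt : ℕ → Ω}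
    (M : Md g pt H18.TE.M.P 1782 53 H18.TE.M.B 9643575969054720) : Stage ⊤ (wds g tsh_W) pt 1782 [tsl8, tsl9, tsl10, tsl11, tsl12, tsl13, tsl14, tsl15, tsl16, tsl17, tsl18, tsl19] [tsl7.Pt 0, tsl6.Pt 0, tsl5.Pt 0, tsl4.Pt 0, tsl3.Pt 0, tsl2.Pt 0, tsl1.Pt 0, tsl0.Pt 0] :=
  (ts_S7 M).next
theorem ts_S9 {G Ω : Type*} [Group G] [MulAction G Ω] {g : ℕ → G} {pt : ℕ → Ω}
    (M : Md g pt H18.TE.M.P 1782 53 H18.TE.M.B 9643575969054720) : Stage ⊤ (wds g tsh_W) pt 1782 [tsl9, tsl10, tsl11, tsl12, tsl13, tsl14, tsl15, tsl16, tsl17, tsl18, tsl19] [tsl8.Pt 0, tsl7.Pt 0, tsl6.Pt 0, tsl5.Pt 0, tsl4.Pt 0, tsl3.Pt 0, tsl2.Pt 0, tsl1.Pt 0, tsl0.Pt 0] :=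
  (ts_S8 M).next
theorem ts_S10 {G Ω : Type*} [Group G] [MulAction G Ω] {g : ℕ → G} {pt : ℕ → Ω}
    (M : Md g pt H18.TE.M.P 1782 53 H18.TE.M.B 9643575969054720) : Stage ⊤ (wds g tsh_W) pt 1782 [tsl10, tsl11, tsl12, tsl13, tsl14, tsl15, tsl16, tsl17, tsl18, tsl19] [tsl9.Pt 0, tsl8.Pt 0, tsl7.Pt 0, tsl6.Pt 0, tsl5.Pt 0, tsl4.Pt 0, tsl3.Pt 0, tsl2.Pt 0, tsl1.Pt 0, tsl0.Pt 0] :=
  (ts_S9 M).next
theorem ts_S11 {G Ω : Type*} [Group G] [MulAction G Ω] {g : ℕ → G} {pt : ℕ → Ω}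
    (M : Md g pt H18.TE.M.P 1782 53 H18.TE.M.B 9643575969054720) : Stage ⊤ (wds g tsh_W) pt 1782 [tsl11, tsl12, tsl13, tsl14, tsl15, tsl16, tsl17, tsl18, tsl19] [tsl10.Pt 0, tsl9.Pt 0, tsl8.Pt 0, tsl7.Pt 0, tsl6.Pt 0, tsl5.Pt 0, tsl4.Pt 0, tsl3.Pt 0, tsl2.Pt 0, tsl1.Pt 0, tsl0.Pt 0] :=
  (ts_S10 M).next
theorem ts_S12 {G Ω : Type*} [Group G] [MulAction G Ω] {g : ℕ → G} {pt : ℕ → Ω}
    (M : Md g pt H18.TE.M.P 1782 53 H18.TE.M.B 9643575969054720) : Stage ⊤ (wds g tsh_W) pt 1782 [tsl12, tsl13, tsl14, tsl15, tsl16, tsl17, tsl18, tsl19] [tsl11.Pt 0, tsl10.Pt 0, tsl9.Pt 0, tsl8.Pt 0, tsl7.Pt 0, tsl6.Pt 0, tsl5.Pt 0, tsl4.Pt 0, tsl3.Pt 0, tsl2.Pt 0, tsl1.Pt 0, tsl0.Pt 0] :=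
  (ts_S11 M).next
theorem ts_S13 {G Ω : Type*} [Group G] [MulAction G Ω] {g : ℕ → G} {pt : ℕ → Ω}
    (M : Md g pt H18.TE.M.P 1782 53 H18.TE.M.B 9643575969054720) : Stage ⊤ (wds g tsh_W) pt 1782 [tsl13, tsl14, tsl15, tsl16, tsl17, tsl18, tsl19] [tsl12.Pt 0, tsl11.Pt 0, tsl10.Pt 0, tsl9.Pt 0, tsl8.Pt 0, tsl7.Pt 0, tsl6.Pt 0, tsl5.Pt 0, tsl4.Pt 0, tsl3.Pt 0, tsl2.Pt 0, tsl1.Pt 0, tsl0.Pt 0] :=
  (ts_S12 M).next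
theorem ts_S14 {G Ω : Type*} [Group G] [MulAction G Ω] {g : ℕ → G} {pt : ℕ → Ω}
    (M : Md g pt H18.TE.M.P 1782 53 H18.TE.M.B 9643575969054720) : Stage ⊤ (wds g tsh_W) pt 1782 [tsl14, tsl15, tsl16, tsl17, tsl18, tsl19] [tsl13.Pt 0, tsl12.Pt 0, tsl11.Pt 0, tsl10.Pt 0, tsl9.Pt 0, tsl8.Pt 0, tsl7.Pt 0, tsl6.Pt 0, tsl5.Pt 0, tsl4.Pt 0, tsl3.Pt 0, tsl2.Pt 0, tsl1.Pt 0, tsl0.Pt 0] :=
  (ts_S13 M).next
theorem ts_S15 {G Ω : Type*} [Group G] [MulAction G Ω] {g : ℕ → G} {pt : ℕ → Ω}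
    (M : Md g pt H18.TE.M.P 1782 53 H18.TE.M.B 9643575969054720) : Stage ⊤ (wds g tsh_W) pt 1782 [tsl15, tsl16, tsl17, tsl18, tsl19] [tsl14.Pt 0, tsl13.Pt 0, tsl12.Pt 0, tsl11.Pt 0, tsl10.Pt 0, tsl9.Pt 0, tsl8.Pt 0, tsl7.Pt 0, tsl6.Pt 0, tsl5.Pt 0, tsl4.Pt 0, tsl3.Pt 0, tsl2.Pt 0, tsl1.Pt 0, tsl0.Pt 0] :=
  (ts_S14 M).next
theorem ts_S16 {G Ω : Type*} [Group G] [MulAction G Ω] {g : ℕ → G} {pt : ℕ → Ω}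
    (M : Md g pt H18.TE.M.P 1782 53 H18.TE.M.B 9643575969054720) : Stage ⊤ (wds g tsh_W) pt 1782 [tsl16, tsl17, tsl18, tsl19] [tsl15.Pt 0, tsl14.Pt 0, tsl13.Pt 0, tsl12.Pt 0, tsl11.Pt 0, tsl10.Pt 0, tsl9.Pt 0, tsl8.Pt 0, tsl7.Pt 0, tsl6.Pt 0, tsl5.Pt 0, tsl4.Pt 0, tsl3.Pt 0, tsl2.Pt 0, tsl1.Pt 0, tsl0.Pt 0] :=
  (ts_S15 M).next
theorem ts_S17 {G Ω : Type*} [Group G] [MulAction G Ω] {g : ℕ → G} {pt : ℕ → Ω}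
    (M : Md g pt H18.TE.M.P 1782 53 H18.TE.M.B 9643575969054720) : Stage ⊤ (wds g tsh_W) pt 1782 [tsl17, tsl18, tsl19] [tsl16.Pt 0, tsl15.Pt 0, tsl14.Pt 0, tsl13.Pt 0, tsl12.Pt 0, tsl11.Pt 0, tsl10.Pt 0, tsl9.Pt 0, tsl8.Pt 0, tsl7.Pt 0, tsl6.Pt 0, tsl5.Pt 0, tsl4.Pt 0, tsl3.Pt 0, tsl2.Pt 0, tsl1.Pt 0, tsl0.Pt 0] :=
  (ts_S16 M).next
theorem ts_S18 {G Ω : Type*} [Group G] [MulAction G Ω] {g : ℕ → G} {pt : ℕ → Ω}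
    (M : Md g pt H18.TE.M.P 1782 53 H18.TE.M.B 9643575969054720) : Stage ⊤ (wds g tsh_W) pt 1782 [tsl18, tsl19] [tsl17.Pt 0, tsl16.Pt 0, tsl15.Pt 0, tsl14.Pt 0, tsl13.Pt 0, tsl12.Pt 0, tsl11.Pt 0, tsl10.Pt 0, tsl9.Pt 0, tsl8.Pt 0, tsl7.Pt 0, tsl6.Pt 0, tsl5.Pt 0, tsl4.Pt 0, tsl3.Pt 0, tsl2.Pt 0, tsl1.Pt 0, tsl0.Pt 0] :=
  (ts_S17 M).next
theorem ts_S19 {G Ω : Type*} [Group G] [MulAction G Ω] {g : ℕ → G} {pt : ℕ → Ω}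
    (M : Md g pt H18.TE.M.P 1782 53 H18.TE.M.B 9643575969054720) : Stage ⊤ (wds g tsh_W) pt 1782 [tsl19] [tsl18.Pt 0, tsl17.Pt 0, tsl16.Pt 0, tsl15.Pt 0, tsl14.Pt 0, tsl13.Pt 0, tsl12.Pt 0, tsl11.Pt 0, tsl10.Pt 0, tsl9.Pt 0, tsl8.Pt 0, tsl7.Pt 0, tsl6.Pt 0, tsl5.Pt 0, tsl4.Pt 0, tsl3.Pt 0, tsl2.Pt 0, tsl1.Pt 0, tsl0.Pt 0] :=
  (ts_S18 M).next
theorem ts_S20 {G Ω : Type*} [Group G] [MulAction G Ω] {g : ℕ → G} {pt : ℕ → Ω}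
    (M : Md g pt H18.TE.M.P 1782 53 H18.TE.M.B 9643575969054720) : Stage ⊤ (wds g tsh_W) pt 1782 [] [tsl19.Pt 0, tsl18.Pt 0, tsl17.Pt 0, tsl16.Pt 0, tsl15.Pt 0, tsl14.Pt 0, tsl13.Pt 0, tsl12.Pt 0, tsl11.Pt 0, tsl10.Pt 0, tsl9.Pt 0, tsl8.Pt 0, tsl7.Pt 0, tsl6.Pt 0, tsl5.Pt 0, tsl4.Pt 0, tsl3.Pt 0, tsl2.Pt 0, tsl1.Pt 0, tsl0.Pt 0] :=
  (ts_S19 M).next
theorem cse_act {G Ω : Type*} [Group G] [MulAction G Ω] {g : ℕ → G} {pt : ℕ → Ω}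
    (M : Md g pt H18.TE.M.P 1782 53 H18.TE.M.B 9643575969054720) : Act (wds g cse_W) pt cse_P 1782 25 :=
  M.wact cse_lt
theorem csc19_e : ∀ i < 1, (dent csc19 cse_P (nat_lit 1782)) i = 0 := allZ_sound0 csc19_e_0
theorem csc19_ok : DOK csc19 cse_P 1782 := ⟨csc19_h, csc19_e⟩
theorem tsn0_1 : ∀ i < 2, (tsn0.ent H18.TE.M.P tsh_P (rl [nat_lit 10] H18.TE.M.P) (rl [nat_lit 10] H18.TE.M.P) cse_P (nat_lit 53) (nat_lit 1) H18.TE.M.B tsl19 [] (memO csc19)) i = 0 := allZ_sound0 tsn0_1_0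
theorem tsn0_t {G Ω : Type*} [Group G] [MulAction G Ω] {g : ℕ → G} {pt : ℕ → Ω}
    (M : Md g pt H18.TE.M.P 1782 53 H18.TE.M.B 9643575969054720) : TrO (gen (wds g tsh_W) tsl19.K) (rl [10] g) (rl [10] g) 1 pt 1782 (tsl19.Pt 0) (memO csc19) :=
  node M (ts_S19 M) (tsh_act M) (xs_act M) (xs_act M) tsn0 ((cse_act M).mono (by decide)) (fun _ _ => trivial) tsn0_0 tsn0_1 (List.forall_mem_nil _)
theorem csc18_e : ∀ i < 1, (dent csc18 cse_P (nat_lit 1782)) i = 0 := allZ_sound0 csc18_e_0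
theorem csc18_ok : DOK csc18 cse_P 1782 := ⟨csc18_h, csc18_e⟩
theorem tsn1_1 : ∀ i < 2, (tsn1.ent H18.TE.M.P tsh_P (rl [nat_lit 10] H18.TE.M.P) (rl [nat_lit 10] H18.TE.M.P) cse_P (nat_lit 53) (nat_lit 1) H18.TE.M.B tsl18 [tsl19] (memO csc18)) i = 0 := allZ_sound0 tsn1_1_0
theorem tsn1_t {G Ω : Type*} [Group G] [MulAction G Ω] {g : ℕ → G} {pt : ℕ → Ω}
    (M : Md g pt H18.TE.M.P 1782 53 H18.TE.M.B 9643575969054720) : TrO (gen (wds g tsh_W) tsl18.K) (rl [10] g) (rl [10] g) 1 pt 1782 (tsl18.Pt 0) (memO csc18) :=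
  node M (ts_S18 M) (tsh_act M) (xs_act M) (xs_act M) tsn1 ((cse_act M).mono (by decide)) (fun _ _ => trivial) tsn1_0 tsn1_1 (List.forall_mem_nil _)
theorem csc17_e : ∀ i < 1, (dent csc17 cse_P (nat_lit 1782)) i = 0 := allZ_sound0 csc17_e_0
theorem csc17_ok : DOK csc17 cse_P 1782 := ⟨csc17_h, csc17_e⟩
theorem tsn2_1 : ∀ i < 2, (tsn2.ent H18.TE.M.P tsh_P (rl [nat_lit 10] H18.TE.M.P) (rl [nat_lit 10] H18.TE.M.P) cse_P (nat_lit 53) (nat_lit 1) H18.TE.M.B tsl17 [tsl18, tsl19] (memO csc17)) i = 0 := allZ_sound0 tsn2_1_0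
theorem tsn2_t {G Ω : Type*} [Group G] [MulAction G Ω] {g : ℕ → G} {pt : ℕ → Ω}
    (M : Md g pt H18.TE.M.P 1782 53 H18.TE.M.B 9643575969054720) : TrO (gen (wds g tsh_W) tsl17.K) (rl [10] g) (rl [10] g) 1 pt 1782 (tsl17.Pt 0) (memO csc17) :=
  node M (ts_S17 M) (tsh_act M) (xs_act M) (xs_act M) tsn2 ((cse_act M).mono (by decide)) (fun _ _ => trivial) tsn2_0 tsn2_1 (List.forall_mem_nil _)
theorem csc16_e : ∀ i < 1, (dent csc16 cse_P (nat_lit 1782)) i = 0 := allZ_sound0 csc16_e_0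
theorem csc16_ok : DOK csc16 cse_P 1782 := ⟨csc16_h, csc16_e⟩
theorem tsn3_1 : ∀ i < 2, (tsn3.ent H18.TE.M.P tsh_P (rl [nat_lit 10] H18.TE.M.P) (rl [nat_lit 10] H18.TE.M.P) cse_P (nat_lit 53) (nat_lit 1) H18.TE.M.B tsl16 [tsl17, tsl18, tsl19] (memO csc16)) i = 0 := allZ_sound0 tsn3_1_0
theorem tsn3_t {G Ω : Type*} [Group G] [MulAction G Ω] {g : ℕ → G} {pt : ℕ → Ω}
    (M : Md g pt H18.TE.M.P 1782 53 H18.TE.M.B 9643575969054720) : TrO (gen (wds g tsh_W) tsl16.K) (rl [10] g) (rl [10] g) 1 pt 1782 (tsl16.Pt 0) (memO csc16) :=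
  node M (ts_S16 M) (tsh_act M) (xs_act M) (xs_act M) tsn3 ((cse_act M).mono (by decide)) (fun _ _ => trivial) tsn3_0 tsn3_1 (List.forall_mem_nil _)
theorem csc15_e : ∀ i < 1, (dent csc15 cse_P (nat_lit 1782)) i = 0 := allZ_sound0 csc15_e_0
theorem csc15_ok : DOK csc15 cse_P 1782 := ⟨csc15_h, csc15_e⟩
theorem tsn4_1 : ∀ i < 2, (tsn4.ent H18.TE.M.P tsh_P (rl [nat_lit 10] H18.TE.M.P) (rl [nat_lit 10] H18.TE.M.P) cse_P (nat_lit 53) (nat_lit 1) H18.TE.M.B tsl15 [tsl16, tsl17, tsl18, tsl19] (memO csc15)) i = 0 := allZ_sound0 tsn4_1_0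
theorem tsn4_t {G Ω : Type*} [Group G] [MulAction G Ω] {g : ℕ → G} {pt : ℕ → Ω}
    (M : Md g pt H18.TE.M.P 1782 53 H18.TE.M.B 9643575969054720) : TrO (gen (wds g tsh_W) tsl15.K) (rl [10] g) (rl [10] g) 1 pt 1782 (tsl15.Pt 0) (memO csc15) :=
  node M (ts_S15 M) (tsh_act M) (xs_act M) (xs_act M) tsn4 ((cse_act M).mono (by decide)) (fun _ _ => trivial) tsn4_0 tsn4_1 (List.forall_mem_nil _)
theorem csc14_e : ∀ i < 1, (dent csc14 cse_P (nat_lit 1782)) i = 0 := allZ_sound0 csc14_e_0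
theorem csc14_ok : DOK csc14 cse_P 1782 := ⟨csc14_h, csc14_e⟩
theorem tsn5_1 : ∀ i < 2, (tsn5.ent H18.TE.M.P tsh_P (rl [nat_lit 10] H18.TE.M.P) (rl [nat_lit 10] H18.TE.M.P) cse_P (nat_lit 53) (nat_lit 1) H18.TE.M.B tsl14 [tsl15, tsl16, tsl17, tsl18, tsl19] (memO csc14)) i = 0 := allZ_sound0 tsn5_1_0
theorem tsn5_t {G Ω : Type*} [Group G] [MulAction G Ω] {g : ℕ → G} {pt : ℕ → Ω}
    (M : Md g pt H18.TE.M.P 1782 53 H18.TE.M.B 9643575969054720) : TrO (gen (wds g tsh_W) tsl14.K) (rl [10] g) (rl [10] g) 1 pt 1782 (tsl14.Pt 0) (memO csc14) :=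
  node M (ts_S14 M) (tsh_act M) (xs_act M) (xs_act M) tsn5 ((cse_act M).mono (by decide)) (fun _ _ => trivial) tsn5_0 tsn5_1 (List.forall_mem_nil _)
theorem csc13_e : ∀ i < 1, (dent csc13 cse_P (nat_lit 1782)) i = 0 := allZ_sound0 csc13_e_0
theorem csc13_ok : DOK csc13 cse_P 1782 := ⟨csc13_h, csc13_e⟩
theorem tsn6_1 : ∀ i < 2, (tsn6.ent H18.TE.M.P tsh_P (rl [nat_lit 10] H18.TE.M.P) (rl [nat_lit 10] H18.TE.M.P) cse_P (nat_lit 53) (nat_lit 1) H18.TE.M.B tsl13 [tsl14, tsl15, tsl16, tsl17, tsl18, tsl19] (memO csc13)) i = 0 := allZ_sound0 tsn6_1_0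
theorem tsn6_t {G Ω : Type*} [Group G] [MulAction G Ω] {g : ℕ → G} {pt : ℕ → Ω}
    (M : Md g pt H18.TE.M.P 1782 53 H18.TE.M.B 9643575969054720) : TrO (gen (wds g tsh_W) tsl13.K) (rl [10] g) (rl [10] g) 1 pt 1782 (tsl13.Pt 0) (memO csc13) :=
  node M (ts_S13 M) (tsh_act M) (xs_act M) (xs_act M) tsn6 ((cse_act M).mono (by decide)) (fun _ _ => trivial) tsn6_0 tsn6_1 (List.forall_mem_nil _)
theorem csc12_e : ∀ i < 1, (dent csc12 cse_P (nat_lit 1782)) i = 0 := allZ_sound0 csc12_e_0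
theorem csc12_ok : DOK csc12 cse_P 1782 := ⟨csc12_h, csc12_e⟩
theorem tsn7_1 : ∀ i < 4, (tsn7.ent H18.TE.M.P tsh_P (rl [nat_lit 10] H18.TE.M.P) (rl [nat_lit 10] H18.TE.M.P) cse_P (nat_lit 53) (nat_lit 1) H18.TE.M.B tsl12 [tsl13, tsl14, tsl15, tsl16, tsl17, tsl18, tsl19] (memO csc12)) i = 0 := allZ_sound0 tsn7_1_0
theorem tsn7_t {G Ω : Type*} [Group G] [MulAction G Ω] {g : ℕ → G} {pt : ℕ → Ω}
    (M : Md g pt H18.TE.M.P 1782 53 H18.TE.M.B 9643575969054720) : TrO (gen (wds g tsh_W) tsl12.K) (rl [10] g) (rl [10] g) 1 pt 1782 (tsl12.Pt 0) (memO csc12) :=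
  node M (ts_S12 M) (tsh_act M) (xs_act M) (xs_act M) tsn7 ((cse_act M).mono (by decide)) (fun _ _ => trivial) tsn7_0 tsn7_1 (List.forall_mem_nil _)
theorem csc11_e : ∀ i < 1, (dent csc11 cse_P (nat_lit 1782)) i = 0 := allZ_sound0 csc11_e_0
theorem csc11_ok : DOK csc11 cse_P 1782 := ⟨csc11_h, csc11_e⟩
theorem tsn8_1 : ∀ i < 2, (tsn8.ent H18.TE.M.P tsh_P (rl [nat_lit 10] H18.TE.M.P) (rl [nat_lit 10] H18.TE.M.P) cse_P (nat_lit 53) (nat_lit 1) H18.TE.M.B tsl11 [tsl12, tsl13, tsl14, tsl15, tsl16, tsl17, tsl18, tsl19] (memO csc11)) i = 0 := allZ_sound0 tsn8_1_0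
theorem tsn8_t {G Ω : Type*} [Group G] [MulAction G Ω] {g : ℕ → G} {pt : ℕ → Ω}
    (M : Md g pt H18.TE.M.P 1782 53 H18.TE.M.B 9643575969054720) : TrO (gen (wds g tsh_W) tsl11.K) (rl [10] g) (rl [10] g) 1 pt 1782 (tsl11.Pt 0) (memO csc11) :=
  node M (ts_S11 M) (tsh_act M) (xs_act M) (xs_act M) tsn8 ((cse_act M).mono (by decide)) (fun _ _ => trivial) tsn8_0 tsn8_1 (List.forall_mem_nil _)
theorem csc10_e : ∀ i < 1, (dent csc10 cse_P (nat_lit 1782)) i = 0 := allZ_sound0 csc10_e_0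
theorem csc10_ok : DOK csc10 cse_P 1782 := ⟨csc10_h, csc10_e⟩
theorem tsn9_1 : ∀ i < 2, (tsn9.ent H18.TE.M.P tsh_P (rl [nat_lit 10] H18.TE.M.P) (rl [nat_lit 10] H18.TE.M.P) cse_P (nat_lit 53) (nat_lit 1) H18.TE.M.B tsl10 [tsl11, tsl12, tsl13, tsl14, tsl15, tsl16, tsl17, tsl18, tsl19] (memO csc10)) i = 0 := allZ_sound0 tsn9_1_0
theorem tsn9_t {G Ω : Type*} [Group G] [MulAction G Ω] {g : ℕ → G} {pt : ℕ → Ω}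
    (M : Md g pt H18.TE.M.P 1782 53 H18.TE.M.B 9643575969054720) : TrO (gen (wds g tsh_W) tsl10.K) (rl [10] g) (rl [10] g) 1 pt 1782 (tsl10.Pt 0) (memO csc10) :=
  node M (ts_S10 M) (tsh_act M) (xs_act M) (xs_act M) tsn9 ((cse_act M).mono (by decide)) (fun _ _ => trivial) tsn9_0 tsn9_1 (List.forall_mem_nil _)
theorem csc9_e : ∀ i < 1, (dent csc9 cse_P (nat_lit 1782)) i = 0 := allZ_sound0 csc9_e_0
theorem csc9_ok : DOK csc9 cse_P 1782 := ⟨csc9_h, csc9_e⟩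
theorem tsn10_1 : ∀ i < 4, (tsn10.ent H18.TE.M.P tsh_P (rl [nat_lit 10] H18.TE.M.P) (rl [nat_lit 10] H18.TE.M.P) cse_P (nat_lit 53) (nat_lit 1) H18.TE.M.B tsl9 [tsl10, tsl11, tsl12, tsl13, tsl14, tsl15, tsl16, tsl17, tsl18, tsl19] (memO csc9)) i = 0 := allZ_sound0 tsn10_1_0
theorem tsn10_t {G Ω : Type*} [Group G] [MulAction G Ω] {g : ℕ → G} {pt : ℕ → Ω}
    (M : Md g pt H18.TE.M.P 1782 53 H18.TE.M.B 9643575969054720) : TrO (gen (wds g tsh_W) tsl9.K) (rl [10] g) (rl [10] g) 1 pt 1782 (tsl9.Pt 0) (memO csc9) :=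
  node M (ts_S9 M) (tsh_act M) (xs_act M) (xs_act M) tsn10 ((cse_act M).mono (by decide)) (fun _ _ => trivial) tsn10_0 tsn10_1 (List.forall_mem_nil _)
theorem csc8_e : ∀ i < 1, (dent csc8 cse_P (nat_lit 1782)) i = 0 := allZ_sound0 csc8_e_0
theorem csc8_ok : DOK csc8 cse_P 1782 := ⟨csc8_h, csc8_e⟩
theorem tsn11_1 : ∀ i < 4, (tsn11.ent H18.TE.M.P tsh_P (rl [nat_lit 10] H18.TE.M.P) (rl [nat_lit 10] H18.TE.M.P) cse_P (nat_lit 53) (nat_lit 1) H18.TE.M.B tsl8 [tsl9, tsl10, tsl11, tsl12, tsl13, tsl14, tsl15, tsl16, tsl17, tsl18, tsl19] (memO csc8)) i = 0 := allZ_sound0 tsn11_1_0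
theorem tsn11_t {G Ω : Type*} [Group G] [MulAction G Ω] {g : ℕ → G} {pt : ℕ → Ω}
    (M : Md g pt H18.TE.M.P 1782 53 H18.TE.M.B 9643575969054720) : TrO (gen (wds g tsh_W) tsl8.K) (rl [10] g) (rl [10] g) 1 pt 1782 (tsl8.Pt 0) (memO csc8) :=
  node M (ts_S8 M) (tsh_act M) (xs_act M) (xs_act M) tsn11 ((cse_act M).mono (by decide)) (fun _ _ => trivial) tsn11_0 tsn11_1 (List.forall_mem_nil _)
theorem csc7_e : ∀ i < 1, (dent csc7 cse_P (nat_lit 1782)) i = 0 := allZ_sound0 csc7_e_0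
theorem csc7_ok : DOK csc7 cse_P 1782 := ⟨csc7_h, csc7_e⟩
theorem tsn12_1 : ∀ i < 4, (tsn12.ent H18.TE.M.P tsh_P (rl [nat_lit 10] H18.TE.M.P) (rl [nat_lit 10] H18.TE.M.P) cse_P (nat_lit 53) (nat_lit 1) H18.TE.M.B tsl7 [tsl8, tsl9, tsl10, tsl11, tsl12, tsl13, tsl14, tsl15, tsl16, tsl17, tsl18, tsl19] (memO csc7)) i = 0 := allZ_sound0 tsn12_1_0
theorem tsn12_t {G Ω : Type*} [Group G] [MulAction G Ω] {g : ℕ → G} {pt : ℕ → Ω}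
    (M : Md g pt H18.TE.M.P 1782 53 H18.TE.M.B 9643575969054720) : TrO (gen (wds g tsh_W) tsl7.K) (rl [10] g) (rl [10] g) 1 pt 1782 (tsl7.Pt 0) (memO csc7) :=
  node M (ts_S7 M) (tsh_act M) (xs_act M) (xs_act M) tsn12 ((cse_act M).mono (by decide)) (fun _ _ => trivial) tsn12_0 tsn12_1 (List.forall_mem_nil _)
theorem csc6_e : ∀ i < 31, (dent csc6 cse_P (nat_lit 1782)) i = 0 := allZ_sound0 csc6_e_0
theorem csc6_ok : DOK csc6 cse_P 1782 := ⟨csc6_h, csc6_e⟩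
theorem tsn13_1 : ∀ i < 64, (tsn13.ent H18.TE.M.P tsh_P (rl [nat_lit 10] H18.TE.M.P) (rl [nat_lit 10] H18.TE.M.P) cse_P (nat_lit 53) (nat_lit 1) H18.TE.M.B tsl6 [tsl7, tsl8, tsl9, tsl10, tsl11, tsl12, tsl13, tsl14, tsl15, tsl16, tsl17, tsl18, tsl19] (memO csc6)) i = 0 := allZ_sound0 tsn13_1_0
theorem tsn13_t {G Ω : Type*} [Group G] [MulAction G Ω] {g : ℕ → G} {pt : ℕ → Ω}
    (M : Md g pt H18.TE.M.P 1782 53 H18.TE.M.B 9643575969054720) : TrO (gen (wds g tsh_W) tsl6.K) (rl [10] g) (rl [10] g) 1 pt 1782 (tsl6.Pt 0) (memO csc6) :=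
  node M (ts_S6 M) (tsh_act M) (xs_act M) (xs_act M) tsn13 ((cse_act M).mono (by decide)) (fun _ _ => trivial) tsn13_0 tsn13_1 (List.forall_mem_nil _)
theorem csc5_e : ∀ i < 1, (dent csc5 cse_P (nat_lit 1782)) i = 0 := allZ_sound0 csc5_e_0
theorem csc5_ok : DOK csc5 cse_P 1782 := ⟨csc5_h, csc5_e⟩
theorem tsn14_1 : ∀ i < 2, (tsn14.ent H18.TE.M.P tsh_P (rl [nat_lit 10] H18.TE.M.P) (rl [nat_lit 10] H18.TE.M.P) cse_P (nat_lit 53) (nat_lit 1) H18.TE.M.B tsl5 [tsl6, tsl7, tsl8, tsl9, tsl10, tsl11, tsl12, tsl13, tsl14, tsl15, tsl16, tsl17, tsl18, tsl19] (memO csc5)) i = 0 := allZ_sound0 tsn14_1_0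
theorem tsn14_t {G Ω : Type*} [Group G] [MulAction G Ω] {g : ℕ → G} {pt : ℕ → Ω}
    (M : Md g pt H18.TE.M.P 1782 53 H18.TE.M.B 9643575969054720) : TrO (gen (wds g tsh_W) tsl5.K) (rl [10] g) (rl [10] g) 1 pt 1782 (tsl5.Pt 0) (memO csc5) :=
  node M (ts_S5 M) (tsh_act M) (xs_act M) (xs_act M) tsn14 ((cse_act M).mono (by decide)) (fun _ _ => trivial) tsn14_0 tsn14_1 (List.forall_mem_nil _)
theorem csc4_e : ∀ i < 5, (dent csc4 cse_P (nat_lit 1782)) i = 0 := allZ_sound0 csc4_e_0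
theorem csc4_ok : DOK csc4 cse_P 1782 := ⟨csc4_h, csc4_e⟩
theorem tsn15_1 : ∀ i < 6, (tsn15.ent H18.TE.M.P tsh_P (rl [nat_lit 10] H18.TE.M.P) (rl [nat_lit 10] H18.TE.M.P) cse_P (nat_lit 53) (nat_lit 1) H18.TE.M.B tsl4 [tsl5, tsl6, tsl7, tsl8, tsl9, tsl10, tsl11, tsl12, tsl13, tsl14, tsl15, tsl16, tsl17, tsl18, tsl19] (memO csc4)) i = 0 := allZ_sound0 tsn15_1_0
theorem tsn15_t {G Ω : Type*} [Group G] [MulAction G Ω] {g : ℕ → G} {pt : ℕ → Ω}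
    (M : Md g pt H18.TE.M.P 1782 53 H18.TE.M.B 9643575969054720) : TrO (gen (wds g tsh_W) tsl4.K) (rl [10] g) (rl [10] g) 1 pt 1782 (tsl4.Pt 0) (memO csc4) :=
  node M (ts_S4 M) (tsh_act M) (xs_act M) (xs_act M) tsn15 ((cse_act M).mono (by decide)) (fun _ _ => trivial) tsn15_0 tsn15_1 (List.forall_mem_nil _)
theorem csc3_e : ∀ i < 1, (dent csc3 cse_P (nat_lit 1782)) i = 0 := allZ_sound0 csc3_e_0
theorem csc3_ok : DOK csc3 cse_P 1782 := ⟨csc3_h, csc3_e⟩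
theorem tsn16_1 : ∀ i < 8, (tsn16.ent H18.TE.M.P tsh_P (rl [nat_lit 10] H18.TE.M.P) (rl [nat_lit 10] H18.TE.M.P) cse_P (nat_lit 53) (nat_lit 1) H18.TE.M.B tsl3 [tsl4, tsl5, tsl6, tsl7, tsl8, tsl9, tsl10, tsl11, tsl12, tsl13, tsl14, tsl15, tsl16, tsl17, tsl18, tsl19] (memO csc3)) i = 0 := allZ_sound0 tsn16_1_0
theorem tsn16_t {G Ω : Type*} [Group G] [MulAction G Ω] {g : ℕ → G} {pt : ℕ → Ω}
    (M : Md g pt H18.TE.M.P 1782 53 H18.TE.M.B 9643575969054720) : TrO (gen (wds g tsh_W) tsl3.K) (rl [10] g) (rl [10] g) 1 pt 1782 (tsl3.Pt 0) (memO csc3) :=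
  node M (ts_S3 M) (tsh_act M) (xs_act M) (xs_act M) tsn16 ((cse_act M).mono (by decide)) (fun _ _ => trivial) tsn16_0 tsn16_1 (List.forall_mem_nil _)
theorem csc2_e : ∀ i < 39, (dent csc2 cse_P (nat_lit 1782)) i = 0 := allZ_sound0 csc2_e_0
theorem csc2_ok : DOK csc2 cse_P 1782 := ⟨csc2_h, csc2_e⟩
theorem tsn17_1 : ∀ i < 80, (tsn17.ent H18.TE.M.P tsh_P (rl [nat_lit 10] H18.TE.M.P) (rl [nat_lit 10] H18.TE.M.P) cse_P (nat_lit 53) (nat_lit 1) H18.TE.M.B tsl2 [tsl3, tsl4, tsl5, tsl6, tsl7, tsl8, tsl9, tsl10, tsl11, tsl12, tsl13, tsl14, tsl15, tsl16, tsl17, tsl18, tsl19] (memO csc2)) i = 0 := allZ_sound0 tsn17_1_0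
theorem tsn17_t {G Ω : Type*} [Group G] [MulAction G Ω] {g : ℕ → G} {pt : ℕ → Ω}
    (M : Md g pt H18.TE.M.P 1782 53 H18.TE.M.B 9643575969054720) : TrO (gen (wds g tsh_W) tsl2.K) (rl [10] g) (rl [10] g) 1 pt 1782 (tsl2.Pt 0) (memO csc2) :=
  node M (ts_S2 M) (tsh_act M) (xs_act M) (xs_act M) tsn17 ((cse_act M).mono (by decide)) (fun _ _ => trivial) tsn17_0 tsn17_1 (List.forall_mem_nil _)
theorem csc1_e : ∀ i < 41, (dent csc1 cse_P (nat_lit 1782)) i = 0 := allZ_sound0 csc1_e_0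
theorem csc1_ok : DOK csc1 cse_P 1782 := ⟨csc1_h, csc1_e⟩
theorem tsn18_1 : ∀ i < 84, (tsn18.ent H18.TE.M.P tsh_P (rl [nat_lit 10] H18.TE.M.P) (rl [nat_lit 10] H18.TE.M.P) cse_P (nat_lit 53) (nat_lit 1) H18.TE.M.B tsl1 [tsl2, tsl3, tsl4, tsl5, tsl6, tsl7, tsl8, tsl9, tsl10, tsl11, tsl12, tsl13, tsl14, tsl15, tsl16, tsl17, tsl18, tsl19] (memO csc1)) i = 0 := allZ_sound0 tsn18_1_0
theorem tsn18_t {G Ω : Type*} [Group G] [MulAction G Ω] {g : ℕ → G} {pt : ℕ → Ω}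
    (M : Md g pt H18.TE.M.P 1782 53 H18.TE.M.B 9643575969054720) : TrO (gen (wds g tsh_W) tsl1.K) (rl [10] g) (rl [10] g) 1 pt 1782 (tsl1.Pt 0) (memO csc1) :=
  node M (ts_S1 M) (tsh_act M) (xs_act M) (xs_act M) tsn18 ((cse_act M).mono (by decide)) (fun _ _ => trivial) tsn18_0 tsn18_1 (List.forall_mem_nil _)
theorem csc0_e : ∀ i < 1023, (dent csc0 cse_P (nat_lit 1782)) i = 0 := allZ_sound0 csc0_e_0
theorem csc0_ok : DOK csc0 cse_P 1782 := ⟨csc0_h, csc0_e⟩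
theorem tsn19_1 : ∀ i < 1782, (tsn19.ent H18.TE.M.P tsh_P (rl [nat_lit 10] H18.TE.M.P) (rl [nat_lit 10] H18.TE.M.P) cse_P (nat_lit 53) (nat_lit 1) H18.TE.M.B tsl0 [tsl1, tsl2, tsl3, tsl4, tsl5, tsl6, tsl7, tsl8, tsl9, tsl10, tsl11, tsl12, tsl13, tsl14, tsl15, tsl16, tsl17, tsl18, tsl19] (memO csc0)) i = 0 := allZ_sound0 tsn19_1_0
theorem tsn19_t {G Ω : Type*} [Group G] [MulAction G Ω] {g : ℕ → G} {pt : ℕ → Ω}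
    (M : Md g pt H18.TE.M.P 1782 53 H18.TE.M.B 9643575969054720) : TrO (gen (wds g tsh_W) tsl0.K) (rl [10] g) (rl [10] g) 1 pt 1782 (tsl0.Pt 0) (memO csc0) :=
  node M (ts_S0 M) (tsh_act M) (xs_act M) (xs_act M) tsn19 ((cse_act M).mono (by decide)) (fun _ _ => trivial) tsn19_0 tsn19_1 (List.forall_mem_nil _)
theorem cs {G Ω : Type*} [Group G] [MulAction G Ω] {g : ℕ → G} {pt : ℕ → Ω}
    (M : Md g pt H18.TE.M.P 1782 53 H18.TE.M.B 9643575969054720) : Cen ⊤ (rl [10] g) 1 (wds g cse_W) pt 1782 [csc0, csc1, csc2, csc3, csc4, csc5, csc6, csc7, csc8, csc9, csc10, csc11, csc12, csc13, csc14, csc15, csc16, csc17, csc18, csc19] :=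
  (ts_S0 M).top ▸ Cen.lev M (ts_S0 M) (Cen.lev M (ts_S1 M) (Cen.lev M (ts_S2 M) (Cen.lev M (ts_S3 M) (Cen.lev M (ts_S4 M) (Cen.lev M (ts_S5 M) (Cen.lev M (ts_S6 M) (Cen.lev M (ts_S7 M) (Cen.lev M (ts_S8 M) (Cen.lev M (ts_S9 M) (Cen.lev M (ts_S10 M) (Cen.lev M (ts_S11 M) (Cen.lev M (ts_S12 M) (Cen.lev M (ts_S13 M) (Cen.lev M (ts_S14 M) (Cen.lev M (ts_S15 M) (Cen.lev M (ts_S16 M) (Cen.lev M (ts_S17 M) (Cen.lev M (ts_S18 M) (Cen.lev M (ts_S19 M) (Cen.bot) (tsn0_t M) (xs_act M) (cse_act M) (fun _ _ => trivial) csc19_ok cs_f19) (tsn1_t M) (xs_act M) (cse_act M) (fun _ _ => trivial) csc18_ok cs_f18) (tsn2_t M) (xs_act M) (cse_act M) (fun _ _ => trivial) csc17_ok cs_f17) (tsn3_t M) (xs_act M) (cse_act M) (fun _ _ => trivial) csc16_ok cs_f16) (tsn4_t M) (xs_act M) (cse_act M) (fun _ _ => trivial) csc15_ok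 cs_f15) (tsn5_t M) (xs_act M) (cse_act M) (fun _ _ => trivial) csc14_ok cs_f14) (tsn6_t M) (xs_act M) (cse_act M) (fun _ _ => trivial) csc13_ok cs_f13) (tsn7_t M) (xs_act M) (cse_act M) (fun _ _ => trivial) csc12_ok cs_f12) (tsn8_t M) (xs_act M) (cse_act M) (fun _ _ => trivial) csc11_ok cs_f11) (tsn9_t M) (xs_act M) (cse_act M) (fun _ _ => trivial) csc10_ok cs_f10) (tsn10_t M) (xs_act M) (cse_act M) (fun _ _ => trivial) csc9_ok cs_f9) (tsn11_t M) (xs_act M) (cse_act M) (fun _ _ => trivial) csc8_ok cs_f8) (tsn12_t M) (xs_act M) (cse_act M) (fun _ _ => trivial) csc7_ok cs_f7) (tsn13_t M) (xs_act M) (cse_act M) (fun _ _ => trivial) csc6_ok cs_f6) (tsn14_t M) (xs_act M) (cse_act M) (fun _ _ => trivial) csc5_ok cs_f5) (tsn15_t M) (xs_act M) (cse_act M) (fun _ _ => trivial) csc4_ok cs_f4) (tsn16_t M)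 (xs_act M) (cse_act M) (fun _ _ => trivial) csc3_ok cs_f3) (tsn17_t M) (xs_act M) (cse_act M) (fun _ _ => trivial) csc2_ok cs_f2) (tsn18_t M) (xs_act M) (cse_act M) (fun _ _ => trivial) csc1_ok cs_f1) (tsn19_t M) (xs_act M) (cse_act M) (fun _ _ => trivial) csc0_ok cs_f0
theorem cs_card {G Ω : Type*} [Group G] [MulAction G Ω] {g : ℕ → G} {pt : ℕ → Ω}
    (M : Md g pt H18.TE.M.P 1782 53 H18.TE.M.B 9643575969054720) : Nat.card (Subgroup.centralizer {(rl [10] g) 0}) = 10823317585920 :=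
  (cs M).card_cent1 M.inj cs_c.1
theorem cs_eq {G Ω : Type*} [Group G] [MulAction G Ω] {g : ℕ → G} {pt : ℕ → Ω}
    (M : Md g pt H18.TE.M.P 1782 53 H18.TE.M.B 9643575969054720) : Subgroup.centralizer (gen (rl [10] g) 1) = gen (wds g cse_W) 25 ∧ Nat.card (gen (wds g cse_W) 25) = 10823317585920 :=
  cs_c.1 ▸ cs_c.2 ▸ ⟨(cs M).cent, (cs M).card M.inj⟩
theorem f1_act {G Ω : Type*} [Group G] [MulAction G Ω] {g : ℕ → G} {pt : ℕ → Ω}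
    (M : Md g pt H18.TE.M.P 1782 53 H18.TE.M.B 9643575969054720) : Act (rl [51, 52, 45, 46, 47, 48] g) pt (rl [nat_lit 51, nat_lit 52, nat_lit 45, nat_lit 46, nat_lit 47, nat_lit 48] H18.TE.M.P) 1782 6 :=
  M.act.rl (by decide)
theorem dle_act {G Ω : Type*} [Group G] [MulAction G Ω] {g : ℕ → G} {pt : ℕ → Ω}
    (M : Md g pt H18.TE.M.P 1782 53 H18.TE.M.B 9643575969054720) : Act (wds (rl [51, 52, 45, 46, 47, 48] g) dle_W) pt dle_P 1782 23 :=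
  ((f1_act M).mono (by decide : 6 ≤ 6)).wds dle_lt _
theorem dll0_e : ∀ i < 83, (dent dll0 dle_P (nat_lit 1782)) i = 0 := allZ_sound0 dll0_e_0
theorem dll0_ok : DOK dll0 dle_P 1782 := ⟨dll0_h, dll0_e⟩
theorem dll1_e : ∀ i < 79, (dent dll1 dle_P (nat_lit 1782)) i = 0 := allZ_sound0 dll1_e_0
theorem dll1_ok : DOK dll1 dle_P 1782 := ⟨dll1_h, dll1_e⟩
theorem dll2_e : ∀ i < 63, (dent dll2 dle_P (nat_lit 1782)) i = 0 := allZ_sound0 dll2_e_0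
theorem dll2_ok : DOK dll2 dle_P 1782 := ⟨dll2_h, dll2_e⟩
theorem dll3_e : ∀ i < 127, (dent dll3 dle_P (nat_lit 1782)) i = 0 := allZ_sound0 dll3_e_0
theorem dll3_ok : DOK dll3 dle_P 1782 := ⟨dll3_h, dll3_e⟩
theorem dll4_e : ∀ i < 5, (dent dll4 dle_P (nat_lit 1782)) i = 0 := allZ_sound0 dll4_e_0
theorem dll4_ok : DOK dll4 dle_P 1782 := ⟨dll4_h, dll4_e⟩
theorem dll5_e : ∀ i < 1, (dent dll5 dle_P (nat_lit 1782)) i = 0 := allZ_sound0 dll5_e_0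
theorem dll5_ok : DOK dll5 dle_P 1782 := ⟨dll5_h, dll5_e⟩
theorem dll6_e : ∀ i < 1, (dent dll6 dle_P (nat_lit 1782)) i = 0 := allZ_sound0 dll6_e_0
theorem dll6_ok : DOK dll6 dle_P 1782 := ⟨dll6_h, dll6_e⟩
theorem dll7_e : ∀ i < 1, (dent dll7 dle_P (nat_lit 1782)) i = 0 := allZ_sound0 dll7_e_0
theorem dll7_ok : DOK dll7 dle_P 1782 := ⟨dll7_h, dll7_e⟩
theorem dll8_e : ∀ i < 1, (dent dll8 dle_P (nat_lit 1782)) i = 0 := allZ_sound0 dll8_e_0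
theorem dll8_ok : DOK dll8 dle_P 1782 := ⟨dll8_h, dll8_e⟩
theorem dll9_e : ∀ i < 1, (dent dll9 dle_P (nat_lit 1782)) i = 0 := allZ_sound0 dll9_e_0
theorem dll9_ok : DOK dll9 dle_P 1782 := ⟨dll9_h, dll9_e⟩
theorem dll10_e : ∀ i < 1, (dent dll10 dle_P (nat_lit 1782)) i = 0 := allZ_sound0 dll10_e_0
theorem dll10_ok : DOK dll10 dle_P 1782 := ⟨dll10_h, dll10_e⟩
theorem dll11_e : ∀ i < 1, (dent dll11 dle_P (nat_lit 1782)) i = 0 := allZ_sound0 dll11_e_0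
theorem dll11_ok : DOK dll11 dle_P 1782 := ⟨dll11_h, dll11_e⟩
theorem dll12_e : ∀ i < 1, (dent dll12 dle_P (nat_lit 1782)) i = 0 := allZ_sound0 dll12_e_0
theorem dll12_ok : DOK dll12 dle_P 1782 := ⟨dll12_h, dll12_e⟩
theorem dll13_e : ∀ i < 1, (dent dll13 dle_P (nat_lit 1782)) i = 0 := allZ_sound0 dll13_e_0
theorem dll13_ok : DOK dll13 dle_P 1782 := ⟨dll13_h, dll13_e⟩
theorem dll14_e : ∀ i < 1, (dent dll14 dle_P (nat_lit 1782)) i = 0 := allZ_sound0 dll14_e_0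
theorem dll14_ok : DOK dll14 dle_P 1782 := ⟨dll14_h, dll14_e⟩
theorem dll15_e : ∀ i < 1, (dent dll15 dle_P (nat_lit 1782)) i = 0 := allZ_sound0 dll15_e_0
theorem dll15_ok : DOK dll15 dle_P 1782 := ⟨dll15_h, dll15_e⟩
theorem dll16_e : ∀ i < 1, (dent dll16 dle_P (nat_lit 1782)) i = 0 := allZ_sound0 dll16_e_0
theorem dll16_ok : DOK dll16 dle_P 1782 := ⟨dll16_h, dll16_e⟩
theorem dll17_e : ∀ i < 1, (dent dll17 dle_P (nat_lit 1782)) i = 0 := allZ_sound0 dll17_e_0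
theorem dll17_ok : DOK dll17 dle_P 1782 := ⟨dll17_h, dll17_e⟩
theorem dll18_e : ∀ i < 1, (dent dll18 dle_P (nat_lit 1782)) i = 0 := allZ_sound0 dll18_e_0
theorem dll18_ok : DOK dll18 dle_P 1782 := ⟨dll18_h, dll18_e⟩
theorem dl_low {G Ω : Type*} [Group G] [MulAction G Ω] {g : ℕ → G} {pt : ℕ → Ω}
    (M : Md g pt H18.TE.M.P 1782 53 H18.TE.M.B 9643575969054720) : SLow (gi (wds (rl [51, 52, 45, 46, 47, 48] g) dle_W)) pt 1782 [dll0, dll1, dll2, dll3, dll4, dll5, dll6, dll7, dll8, dll9, dll10, dll11, dll12, dll13, dll14, dll15, dll16, dll17, dll18] :=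
  (((((((((((((((((((SLow.nil).cons dll18_ok (dle_act M) dl_f18).cons dll17_ok (dle_act M) dl_f17).cons dll16_ok (dle_act M) dl_f16).cons dll15_ok (dle_act M) dl_f15).cons dll14_ok (dle_act M) dl_f14).cons dll13_ok (dle_act M) dl_f13).cons dll12_ok (dle_act M) dl_f12).cons dll11_ok (dle_act M) dl_f11).cons dll10_ok (dle_act M) dl_f10).cons dll9_ok (dle_act M) dl_f9).cons dll8_ok (dle_act M) dl_f8).cons dll7_ok (dle_act M) dl_f7).cons dll6_ok (dle_act M) dl_f6).cons dll5_ok (dle_act M) dl_f5).cons dll4_ok (dle_act M) dl_f4).cons dll3_ok (dle_act M) dl_f3).cons dll2_ok (dle_act M) dl_f2).cons dll1_ok (dle_act M) dl_f1).cons dll0_ok (dle_act M) dl_f0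
theorem dl {G Ω : Type*} [Group G] [MulAction G Ω] {g : ℕ → G} {pt : ℕ → Ω}
    (M : Md g pt H18.TE.M.P 1782 53 H18.TE.M.B 9643575969054720) : 5411658792960 ≤ Nat.card (gen (rl [51, 52, 45, 46, 47, 48] g) 6) :=
  have := M.fin
  dl_c ▸ ((dl_low M).card_ge M.inj).trans (Subgroup.card_le_of_le
    (by rw [gen_gi]; exact gen_wds_le dle_lt _))
theorem y3_act {G Ω : Type*} [Group G] [MulAction G Ω] {g : ℕ → G} {pt : ℕ → Ω}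
    (M : Md g pt H18.TE.M.P 1782 53 H18.TE.M.B 9643575969054720) : Act (wds g y3_W) pt y3_P 1782 10 :=
  M.wact y3_lt
theorem w3e_act {G Ω : Type*} [Group G] [MulAction G Ω] {g : ℕ → G} {pt : ℕ → Ω}
    (M : Md g pt H18.TE.M.P 1782 53 H18.TE.M.B 9643575969054720) : Act (wds (wds g y3_W) w3e_W) pt w3e_P 1782 10 :=
  ((y3_act M).mono (by decide : 10 ≤ 10)).wds w3e_lt _
theorem w3l0_e : ∀ i < 1, (dent w3l0 w3e_P (nat_lit 1782)) i = 0 := allZ_sound0 w3l0_e_0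
theorem w3l0_ok : DOK w3l0 w3e_P 1782 := ⟨w3l0_h, w3l0_e⟩
theorem w3l1_e : ∀ i < 1, (dent w3l1 w3e_P (nat_lit 1782)) i = 0 := allZ_sound0 w3l1_e_0
theorem w3l1_ok : DOK w3l1 w3e_P 1782 := ⟨w3l1_h, w3l1_e⟩
theorem w3l2_e : ∀ i < 1, (dent w3l2 w3e_P (nat_lit 1782)) i = 0 := allZ_sound0 w3l2_e_0
theorem w3l2_ok : DOK w3l2 w3e_P 1782 := ⟨w3l2_h, w3l2_e⟩
theorem w3l3_e : ∀ i < 1, (dent w3l3 w3e_P (nat_lit 1782)) i = 0 := allZ_sound0 w3l3_e_0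
theorem w3l3_ok : DOK w3l3 w3e_P 1782 := ⟨w3l3_h, w3l3_e⟩
theorem w3l4_e : ∀ i < 1, (dent w3l4 w3e_P (nat_lit 1782)) i = 0 := allZ_sound0 w3l4_e_0
theorem w3l4_ok : DOK w3l4 w3e_P 1782 := ⟨w3l4_h, w3l4_e⟩
theorem w3l5_e : ∀ i < 1, (dent w3l5 w3e_P (nat_lit 1782)) i = 0 := allZ_sound0 w3l5_e_0
theorem w3l5_ok : DOK w3l5 w3e_P 1782 := ⟨w3l5_h, w3l5_e⟩
theorem w3l6_e : ∀ i < 1, (dent w3l6 w3e_P (nat_lit 1782)) i = 0 := allZ_sound0 w3l6_e_0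
theorem w3l6_ok : DOK w3l6 w3e_P 1782 := ⟨w3l6_h, w3l6_e⟩
theorem w3l7_e : ∀ i < 1, (dent w3l7 w3e_P (nat_lit 1782)) i = 0 := allZ_sound0 w3l7_e_0
theorem w3l7_ok : DOK w3l7 w3e_P 1782 := ⟨w3l7_h, w3l7_e⟩
theorem w3l8_e : ∀ i < 1, (dent w3l8 w3e_P (nat_lit 1782)) i = 0 := allZ_sound0 w3l8_e_0
theorem w3l8_ok : DOK w3l8 w3e_P 1782 := ⟨w3l8_h, w3l8_e⟩
theorem w3l9_e : ∀ i < 1, (dent w3l9 w3e_P (nat_lit 1782)) i = 0 := allZ_sound0 w3l9_e_0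
theorem w3l9_ok : DOK w3l9 w3e_P 1782 := ⟨w3l9_h, w3l9_e⟩
theorem w3_low {G Ω : Type*} [Group G] [MulAction G Ω] {g : ℕ → G} {pt : ℕ → Ω}
    (M : Md g pt H18.TE.M.P 1782 53 H18.TE.M.B 9643575969054720) : SLow (gi (wds (wds g y3_W) w3e_W)) pt 1782 [w3l0, w3l1, w3l2, w3l3, w3l4, w3l5, w3l6, w3l7, w3l8, w3l9] :=
  ((((((((((SLow.nil).cons w3l9_ok (w3e_act M) w3_f9).cons w3l8_ok (w3e_act M) w3_f8).cons w3l7_ok (w3e_act M) w3_f7).cons w3l6_ok (w3e_act M) w3_f6).cons w3l5_ok (w3e_act M) w3_f5).cons w3l4_ok (w3e_act M) w3_f4).cons w3l3_ok (w3e_act M) w3_f3).cons w3l2_ok (w3e_act M) w3_f2).cons w3l1_ok (w3e_act M) w3_f1).cons w3l0_ok (w3e_act M) w3_f0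
theorem w3 {G Ω : Type*} [Group G] [MulAction G Ω] {g : ℕ → G} {pt : ℕ → Ω}
    (M : Md g pt H18.TE.M.P 1782 53 H18.TE.M.B 9643575969054720) : 1024 ≤ Nat.card (gen (wds g y3_W) 10) :=
  have := M.fin
  w3_c ▸ ((w3_low M).card_ge M.inj).trans (Subgroup.card_le_of_le
    (by rw [gen_gi]; exact gen_wds_le w3e_lt _))
theorem n1 {G Ω : Type*} [Group G] [MulAction G Ω] {g : ℕ → G} {pt : ℕ → Ω}
    (M : Md g pt H18.TE.M.P 1782 53 H18.TE.M.B 9643575969054720) : evA g [10] ≠ evA g [] :=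
  M.nrel M.act _ n1_k
theorem n2 {G Ω : Type*} [Group G] [MulAction G Ω] {g : ℕ → G} {pt : ℕ → Ω}
    (M : Md g pt H18.TE.M.P 1782 53 H18.TE.M.B 9643575969054720) : evA g [11] ≠ evA g [10] :=
  M.nrel M.act _ n2_k
theorem n3 {G Ω : Type*} [Group G] [MulAction G Ω] {g : ℕ → G} {pt : ℕ → Ω}
    (M : Md g pt H18.TE.M.P 1782 53 H18.TE.M.B 9643575969054720) : evA g [45] ≠ evA g [] :=
  M.nrel M.act _ n3_k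
theorem n4 {G Ω : Type*} [Group G] [MulAction G Ω] {g : ℕ → G} {pt : ℕ → Ω}
    (M : Md g pt H18.TE.M.P 1782 53 H18.TE.M.B 9643575969054720) : evA g [38, 11] ≠ evA g [11, 38] :=
  M.nrel M.act _ n4_k

end H18.TE.M
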