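import Cfsg.Agent.H18.TEg.U.C0
import Cfsg.Agent.H18.TEg.U.C1
import Cfsg.Agent.H18.TEg.U.C2

/-! Generated by tools/h0/tr.py. -/

set_option maxRecDepth 100000
set_option maxHeartbeats 0

namespace H18.TE.U
open H16 H0.TR
open scoped commutatorElement

theorem md {G : Type*} [Group G] (e : gen H16.U62.g 10 ≃* G) :
    ∃ (_ : MulAction G (Fin 672)) (g : ℕ → G), Md g (ptF 672) H16.U62.P 672 10 H16.U62.B 9196830720 ∧
      ∀ k < 10, (e.symm (g k)).1 = H16.U62.g k :=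
  exists_md H16.U62.act (ptF_inj 672) H16.U62.card H16.U62.isBase md_b e
theorem x_m : ∀ k < 9, ∀ i < 672, (matEnt (wdsP H16.U62.P x_W) x_P) k i = 0 := allZ2_sound x_m_a
theorem x_act {G Ω : Type*} [Group G] [MulAction G Ω] {g : ℕ → G} {pt : ℕ → Ω}
    (M : Md g pt H16.U62.P 672 10 H16.U62.B 9196830720) : Act (wds g x_W) pt x_P 672 9 :=
  act_mat (M.wact x_lt) x_m
theorem dt {G Ω : Type*} [Group G] [MulAction G Ω] {g : ℕ → G} {pt : ℕ → Ω}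
    (M : Md g pt H16.U62.P 672 10 H16.U62.B 9196830720) : Dt (wds g x_W) :=
  ⟨fun i j => M.eq_of (x_act M) (dt_cm i j),
   fun i => M.eq_of (x_act M) (dt_cb i),
   fun k i => M.eq_of (x_act M) (dt_hu k i),
   fun k => M.eq_of (x_act M) (dt_uu k),
   fun k j => M.eq_of (x_act M) (dt_rl k j),
   M.eq_of (x_act M) dt_g4,
   M.eq_of (x_act M) dt_tg,
   fun i => M.eq_of (x_act M) (dt_gh i),
   M.eq_of (x_act M) dt_z1,
   M.eq_of (x_act M) dt_z2⟩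
theorem xt {G Ω : Type*} [Group G] [MulAction G Ω] {g : ℕ → G} {pt : ℕ → Ω}
    (M : Md g pt H16.U62.P 672 10 H16.U62.B 9196830720) : gen g 10 ≤ gen (wds g x_W) 9 :=
  M.gen_le (x_act M) M.act xt_k
theorem x0 {G Ω : Type*} [Group G] [MulAction G Ω] {g : ℕ → G} {pt : ℕ → Ω}
    (M : Md g pt H16.U62.P 672 10 H16.U62.B 9196830720) : evA (wds g x_W) [0] ≠ evA (wds g x_W) [] :=
  M.nrel (x_act M) _ x0_k
theorem p_m : ∀ k < 3, ∀ i < 672, (matEnt (wdsP H16.U62.P p_W) p_P) k i = 0 := allZ2_sound p_m_a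
theorem p_act {G Ω : Type*} [Group G] [MulAction G Ω] {g : ℕ → G} {pt : ℕ → Ω}
    (M : Md g pt H16.U62.P 672 10 H16.U62.B 9196830720) : Act (wds g p_W) pt p_P 672 3 :=
  act_mat (M.wact p_lt) p_m
theorem t_m : ∀ k < 15, ∀ i < 672, (matEnt (wdsP p_P t_W) t_P) k i = 0 := allZ2_sound t_m_a
theorem t_act {G Ω : Type*} [Group G] [MulAction G Ω] {g : ℕ → G} {pt : ℕ → Ω}
    (M : Md g pt H16.U62.P 672 10 H16.U62.B 9196830720) : Act (wds (wds g p_W) t_W) pt t_P 672 15 :=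
  act_mat ((p_act M).wds t_lt _) t_m
theorem tpl0_e : ∀ i < 127, (dent tpl0 (wdsP t_P tpe) (nat_lit 672)) i = 0 := allZ_sound0 tpl0_e_0
theorem tpl0_ok : DOK tpl0 (wdsP t_P tpe) 672 := ⟨tpl0_h, tpl0_e⟩
theorem tpl1_e : ∀ i < 127, (dent tpl1 (wdsP t_P tpe) (nat_lit 672)) i = 0 := allZ_sound0 tpl1_e_0
theorem tpl1_ok : DOK tpl1 (wdsP t_P tpe) 672 := ⟨tpl1_h, tpl1_e⟩
theorem tpl2_e : ∀ i < 1, (dent tpl2 (wdsP t_P tpe) (nat_lit 672)) i = 0 := allZ_sound0 tpl2_e_0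
theorem tpl2_ok : DOK tpl2 (wdsP t_P tpe) 672 := ⟨tpl2_h, tpl2_e⟩
theorem tp_low {G Ω : Type*} [Group G] [MulAction G Ω] {g : ℕ → G} {pt : ℕ → Ω}
    (M : Md g pt H16.U62.P 672 10 H16.U62.B 9196830720) : SLow (gi (wds (wds (wds g p_W) t_W) tpe)) pt 672 [tpl0, tpl1, tpl2] :=
  (((SLow.nil).cons tpl2_ok (((t_act M).mono (by decide : 15 ≤ 15)).wds tp_e 19) tp_f2).cons tpl1_ok (((t_act M).mono (by decide : 15 ≤ 15)).wds tp_e 19) tp_f1).cons tpl0_ok (((t_act M).mono (by decide : 15 ≤ 15)).wds tp_e 19) tp_f0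
theorem tp {G Ω : Type*} [Group G] [MulAction G Ω] {g : ℕ → G} {pt : ℕ → Ω}
    (M : Md g pt H16.U62.P 672 10 H16.U62.B 9196830720) : PC0 (wds (wds g p_W) t_W) 15 2 ∧ Nat.card (gen (wds (wds g p_W) t_W) 15) = 2 ^ 15 :=
  have := M.fin
  have h := (M.sm.of_act ((t_act M).mono (by decide : 15 ≤ 15))).pc0 (by decide) tp_p
  ⟨h, le_antisymm (h.card_le' le_rfl) (tp_c ▸ ((tp_low M).card_ge M.inj).trans (Subgroup.card_le_of_le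
    (by rw [gen_gi]; exact gen_le.2 fun k _ => evA_mem_gen _ (nth_lt tp_e k))))⟩
theorem tc {G Ω : Type*} [Group G] [MulAction G Ω] {g : ℕ → G} {pt : ℕ → Ω}
    (M : Md g pt H16.U62.P 672 10 H16.U62.B 9196830720) : gen (wds (wds g p_W) t_W) 9 ≤ Subgroup.centralizer (gen (wds (wds g p_W) t_W) 9 : Set G) :=
  H0.Fi.comm_all M ((t_act M).mono (by decide : 9 ≤ 15)) ((t_act M).mono (by decide : 9 ≤ 15)) tc_k
theorem tq {G Ω : Type*} [Group G] [MulAction G Ω] {g : ℕ → G} {pt : ℕ → Ω}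
    (M : Md g pt H16.U62.P 672 10 H16.U62.B 9196830720) : ∀ k < 9, (wds (wds g p_W) t_W) k ^ 2 = 1 :=
  H0.Fi.pw_all M ((t_act M).mono (by decide : 9 ≤ 15)) tq_k
theorem th_i : ∀ i < 672, (H0.Fi.invEnt t_P (nat_lit 9) thA) i = 0 := allZ_sound0 th_i_0
theorem th_k_0 : ∀ i < 64, (H0.Fi.ncEnt t_P (fun i => ifz (H0.Fi.bit thA i) 0 1) [nat_lit 120, nat_lit 464] thK (H0.Fi.digW (nat_lit 2) (nat_lit 9) (nat_lit 6)) (H0.Fi.digW (nat_lit 2) (nat_lit 9) (nat_lit 6)) (nat_lit 0)) i = 0 := allZ_sound0 th_k_0_0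
theorem th_k_1 : ∀ i < 64, (H0.Fi.ncEnt t_P (fun i => ifz (H0.Fi.bit thA i) 0 1) [nat_lit 120, nat_lit 464] thK (H0.Fi.digW (nat_lit 2) (nat_lit 9) (nat_lit 6)) (H0.Fi.digW (nat_lit 2) (nat_lit 9) (nat_lit 6)) (nat_lit 1)) i = 0 := allZ_sound0 th_k_1_0
theorem th_k_2 : ∀ i < 64, (H0.Fi.ncEnt t_P (fun i => ifz (H0.Fi.bit thA i) 0 1) [nat_lit 120, nat_lit 464] thK (H0.Fi.digW (nat_lit 2) (nat_lit 9) (nat_lit 6)) (H0.Fi.digW (nat_lit 2) (nat_lit 9) (nat_lit 6)) (nat_lit 2)) i = 0 := allZ_sound0 th_k_2_0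
theorem th_k_3 : ∀ i < 64, (H0.Fi.ncEnt t_P (fun i => ifz (H0.Fi.bit thA i) 0 1) [nat_lit 120, nat_lit 464] thK (H0.Fi.digW (nat_lit 2) (nat_lit 9) (nat_lit 6)) (H0.Fi.digW (nat_lit 2) (nat_lit 9) (nat_lit 6)) (nat_lit 3)) i = 0 := allZ_sound0 th_k_3_0
theorem th_k_4 : ∀ i < 64, (H0.Fi.ncEnt t_P (fun i => ifz (H0.Fi.bit thA i) 0 1) [nat_lit 120, nat_lit 464] thK (H0.Fi.digW (nat_lit 2) (nat_lit 9) (nat_lit 6)) (H0.Fi.digW (nat_lit 2) (nat_lit 9) (nat_lit 6)) (nat_lit 4)) i = 0 := allZ_sound0 th_k_4_0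
theorem th_k_5 : ∀ i < 64, (H0.Fi.ncEnt t_P (fun i => ifz (H0.Fi.bit thA i) 0 1) [nat_lit 120, nat_lit 464] thK (H0.Fi.digW (nat_lit 2) (nat_lit 9) (nat_lit 6)) (H0.Fi.digW (nat_lit 2) (nat_lit 9) (nat_lit 6)) (nat_lit 5)) i = 0 := allZ_sound0 th_k_5_0
theorem th_k_6 : ∀ i < 64, (H0.Fi.ncEnt t_P (fun i => ifz (H0.Fi.bit thA i) 0 1) [nat_lit 120, nat_lit 464] thK (H0.Fi.digW (nat_lit 2) (nat_lit 9) (nat_lit 6)) (H0.Fi.digW (nat_lit 2) (nat_lit 9) (nat_lit 6)) (nat_lit 6)) i = 0 := allZ_sound0 th_k_6_0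
theorem th_k_7 : ∀ i < 64, (H0.Fi.ncEnt t_P (fun i => ifz (H0.Fi.bit thA i) 0 1) [nat_lit 120, nat_lit 464] thK (H0.Fi.digW (nat_lit 2) (nat_lit 9) (nat_lit 6)) (H0.Fi.digW (nat_lit 2) (nat_lit 9) (nat_lit 6)) (nat_lit 7)) i = 0 := allZ_sound0 th_k_7_0
theorem th_k_8 : ∀ i < 64, (H0.Fi.ncEnt t_P (fun i => ifz (H0.Fi.bit thA i) 0 1) [nat_lit 120, nat_lit 464] thK (H0.Fi.digW (nat_lit 2) (nat_lit 9) (nat_lit 6)) (H0.Fi.digW (nat_lit 2) (nat_lit 9) (nat_lit 6)) (nat_lit 8)) i = 0 := allZ_sound0 th_k_8_0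
theorem th_k_9 : ∀ i < 64, (H0.Fi.ncEnt t_P (fun i => ifz (H0.Fi.bit thA i) 0 1) [nat_lit 120, nat_lit 464] thK (H0.Fi.digW (nat_lit 2) (nat_lit 9) (nat_lit 6)) (H0.Fi.digW (nat_lit 2) (nat_lit 9) (nat_lit 6)) (nat_lit 9)) i = 0 := allZ_sound0 th_k_9_0
theorem th_k_10 : ∀ i < 64, (H0.Fi.ncEnt t_P (fun i => ifz (H0.Fi.bit thA i) 0 1) [nat_lit 120, nat_lit 464] thK (H0.Fi.digW (nat_lit 2) (nat_lit 9) (nat_lit 6)) (H0.Fi.digW (nat_lit 2) (nat_lit 9) (nat_lit 6)) (nat_lit 10)) i = 0 := allZ_sound0 th_k_10_0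
theorem th_k_11 : ∀ i < 64, (H0.Fi.ncEnt t_P (fun i => ifz (H0.Fi.bit thA i) 0 1) [nat_lit 120, nat_lit 464] thK (H0.Fi.digW (nat_lit 2) (nat_lit 9) (nat_lit 6)) (H0.Fi.digW (nat_lit 2) (nat_lit 9) (nat_lit 6)) (nat_lit 11)) i = 0 := allZ_sound0 th_k_11_0
theorem th_k_12 : ∀ i < 64, (H0.Fi.ncEnt t_P (fun i => ifz (H0.Fi.bit thA i) 0 1) [nat_lit 120, nat_lit 464] thK (H0.Fi.digW (nat_lit 2) (nat_lit 9) (nat_lit 6)) (H0.Fi.digW (nat_lit 2) (nat_lit 9) (nat_lit 6)) (nat_lit 12)) i = 0 := allZ_sound0 th_k_12_0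
theorem th_k_13 : ∀ i < 64, (H0.Fi.ncEnt t_P (fun i => ifz (H0.Fi.bit thA i) 0 1) [nat_lit 120, nat_lit 464] thK (H0.Fi.digW (nat_lit 2) (nat_lit 9) (nat_lit 6)) (H0.Fi.digW (nat_lit 2) (nat_lit 9) (nat_lit 6)) (nat_lit 13)) i = 0 := allZ_sound0 th_k_13_0
theorem th_k_14 : ∀ i < 64, (H0.Fi.ncEnt t_P (fun i => ifz (H0.Fi.bit thA i) 0 1) [nat_lit 120, nat_lit 464] thK (H0.Fi.digW (nat_lit 2) (nat_lit 9) (nat_lit 6)) (H0.Fi.digW (nat_lit 2) (nat_lit 9) (nat_lit 6)) (nat_lit 14)) i = 0 := allZ_sound0 th_k_14_0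
theorem th_k_15 : ∀ i < 64, (H0.Fi.ncEnt t_P (fun i => ifz (H0.Fi.bit thA i) 0 1) [nat_lit 120, nat_lit 464] thK (H0.Fi.digW (nat_lit 2) (nat_lit 9) (nat_lit 6)) (H0.Fi.digW (nat_lit 2) (nat_lit 9) (nat_lit 6)) (nat_lit 15)) i = 0 := allZ_sound0 th_k_15_0
theorem th_k_16 : ∀ i < 64, (H0.Fi.ncEnt t_P (fun i => ifz (H0.Fi.bit thA i) 0 1) [nat_lit 120, nat_lit 464] thK (H0.Fi.digW (nat_lit 2) (nat_lit 9) (nat_lit 6)) (H0.Fi.digW (nat_lit 2) (nat_lit 9) (nat_lit 6)) (nat_lit 16)) i = 0 := allZ_sound0 th_k_16_0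
theorem th_k_17 : ∀ i < 64, (H0.Fi.ncEnt t_P (fun i => ifz (H0.Fi.bit thA i) 0 1) [nat_lit 120, nat_lit 464] thK (H0.Fi.digW (nat_lit 2) (nat_lit 9) (nat_lit 6)) (H0.Fi.digW (nat_lit 2) (nat_lit 9) (nat_lit 6)) (nat_lit 17)) i = 0 := allZ_sound0 th_k_17_0
theorem th_k_18 : ∀ i < 64, (H0.Fi.ncEnt t_P (fun i => ifz (H0.Fi.bit thA i) 0 1) [nat_lit 120, nat_lit 464] thK (H0.Fi.digW (nat_lit 2) (nat_lit 9) (nat_lit 6)) (H0.Fi.digW (nat_lit 2) (nat_lit 9) (nat_lit 6)) (nat_lit 18)) i = 0 := allZ_sound0 th_k_18_0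
theorem th_k_19 : ∀ i < 64, (H0.Fi.ncEnt t_P (fun i => ifz (H0.Fi.bit thA i) 0 1) [nat_lit 120, nat_lit 464] thK (H0.Fi.digW (nat_lit 2) (nat_lit 9) (nat_lit 6)) (H0.Fi.digW (nat_lit 2) (nat_lit 9) (nat_lit 6)) (nat_lit 19)) i = 0 := allZ_sound0 th_k_19_0
theorem th_k_20 : ∀ i < 64, (H0.Fi.ncEnt t_P (fun i => ifz (H0.Fi.bit thA i) 0 1) [nat_lit 120, nat_lit 464] thK (H0.Fi.digW (nat_lit 2) (nat_lit 9) (nat_lit 6)) (H0.Fi.digW (nat_lit 2) (nat_lit 9) (nat_lit 6)) (nat_lit 20)) i = 0 := allZ_sound0 th_k_20_0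
theorem th_k_21 : ∀ i < 64, (H0.Fi.ncEnt t_P (fun i => ifz (H0.Fi.bit thA i) 0 1) [nat_lit 120, nat_lit 464] thK (H0.Fi.digW (nat_lit 2) (nat_lit 9) (nat_lit 6)) (H0.Fi.digW (nat_lit 2) (nat_lit 9) (nat_lit 6)) (nat_lit 21)) i = 0 := allZ_sound0 th_k_21_0
theorem th_k_22 : ∀ i < 64, (H0.Fi.ncEnt t_P (fun i => ifz (H0.Fi.bit thA i) 0 1) [nat_lit 120, nat_lit 464] thK (H0.Fi.digW (nat_lit 2) (nat_lit 9) (nat_lit 6)) (H0.Fi.digW (nat_lit 2) (nat_lit 9) (nat_lit 6)) (nat_lit 22)) i = 0 := allZ_sound0 th_k_22_0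
theorem th_k_23 : ∀ i < 64, (H0.Fi.ncEnt t_P (fun i => ifz (H0.Fi.bit thA i) 0 1) [nat_lit 120, nat_lit 464] thK (H0.Fi.digW (nat_lit 2) (nat_lit 9) (nat_lit 6)) (H0.Fi.digW (nat_lit 2) (nat_lit 9) (nat_lit 6)) (nat_lit 23)) i = 0 := allZ_sound0 th_k_23_0
theorem th_k_24 : ∀ i < 64, (H0.Fi.ncEnt t_P (fun i => ifz (H0.Fi.bit thA i) 0 1) [nat_lit 120, nat_lit 464] thK (H0.Fi.digW (nat_lit 2) (nat_lit 9) (nat_lit 6)) (H0.Fi.digW (nat_lit 2) (nat_lit 9) (nat_lit 6)) (nat_lit 24)) i = 0 := allZ_sound0 th_k_24_0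
theorem th_k_25 : ∀ i < 64, (H0.Fi.ncEnt t_P (fun i => ifz (H0.Fi.bit thA i) 0 1) [nat_lit 120, nat_lit 464] thK (H0.Fi.digW (nat_lit 2) (nat_lit 9) (nat_lit 6)) (H0.Fi.digW (nat_lit 2) (nat_lit 9) (nat_lit 6)) (nat_lit 25)) i = 0 := allZ_sound0 th_k_25_0
theorem th_k_26 : ∀ i < 64, (H0.Fi.ncEnt t_P (fun i => ifz (H0.Fi.bit thA i) 0 1) [nat_lit 120, nat_lit 464] thK (H0.Fi.digW (nat_lit 2) (nat_lit 9) (nat_lit 6)) (H0.Fi.digW (nat_lit 2) (nat_lit 9) (nat_lit 6)) (nat_lit 26)) i = 0 := allZ_sound0 th_k_26_0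
theorem th_k_27 : ∀ i < 64, (H0.Fi.ncEnt t_P (fun i => ifz (H0.Fi.bit thA i) 0 1) [nat_lit 120, nat_lit 464] thK (H0.Fi.digW (nat_lit 2) (nat_lit 9) (nat_lit 6)) (H0.Fi.digW (nat_lit 2) (nat_lit 9) (nat_lit 6)) (nat_lit 27)) i = 0 := allZ_sound0 th_k_27_0
theorem th_k_28 : ∀ i < 64, (H0.Fi.ncEnt t_P (fun i => ifz (H0.Fi.bit thA i) 0 1) [nat_lit 120, nat_lit 464] thK (H0.Fi.digW (nat_lit 2) (nat_lit 9) (nat_lit 6)) (H0.Fi.digW (nat_lit 2) (nat_lit 9) (nat_lit 6)) (nat_lit 28)) i = 0 := allZ_sound0 th_k_28_0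
theorem th_k_29 : ∀ i < 64, (H0.Fi.ncEnt t_P (fun i => ifz (H0.Fi.bit thA i) 0 1) [nat_lit 120, nat_lit 464] thK (H0.Fi.digW (nat_lit 2) (nat_lit 9) (nat_lit 6)) (H0.Fi.digW (nat_lit 2) (nat_lit 9) (nat_lit 6)) (nat_lit 29)) i = 0 := allZ_sound0 th_k_29_0
theorem th_k_30 : ∀ i < 64, (H0.Fi.ncEnt t_P (fun i => ifz (H0.Fi.bit thA i) 0 1) [nat_lit 120, nat_lit 464] thK (H0.Fi.digW (nat_lit 2) (nat_lit 9) (nat_lit 6)) (H0.Fi.digW (nat_lit 2) (nat_lit 9) (nat_lit 6)) (nat_lit 30)) i = 0 := allZ_sound0 th_k_30_0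
theorem th_k_31 : ∀ i < 64, (H0.Fi.ncEnt t_P (fun i => ifz (H0.Fi.bit thA i) 0 1) [nat_lit 120, nat_lit 464] thK (H0.Fi.digW (nat_lit 2) (nat_lit 9) (nat_lit 6)) (H0.Fi.digW (nat_lit 2) (nat_lit 9) (nat_lit 6)) (nat_lit 31)) i = 0 := allZ_sound0 th_k_31_0
theorem th_k_32 : ∀ i < 64, (H0.Fi.ncEnt t_P (fun i => ifz (H0.Fi.bit thA i) 0 1) [nat_lit 120, nat_lit 464] thK (H0.Fi.digW (nat_lit 2) (nat_lit 9) (nat_lit 6)) (H0.Fi.digW (nat_lit 2) (nat_lit 9) (nat_lit 6)) (nat_lit 32)) i = 0 := allZ_sound0 th_k_32_0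
theorem th_k_33 : ∀ i < 64, (H0.Fi.ncEnt t_P (fun i => ifz (H0.Fi.bit thA i) 0 1) [nat_lit 120, nat_lit 464] thK (H0.Fi.digW (nat_lit 2) (nat_lit 9) (nat_lit 6)) (H0.Fi.digW (nat_lit 2) (nat_lit 9) (nat_lit 6)) (nat_lit 33)) i = 0 := allZ_sound0 th_k_33_0
theorem th_k_34 : ∀ i < 64, (H0.Fi.ncEnt t_P (fun i => ifz (H0.Fi.bit thA i) 0 1) [nat_lit 120, nat_lit 464] thK (H0.Fi.digW (nat_lit 2) (nat_lit 9) (nat_lit 6)) (H0.Fi.digW (nat_lit 2) (nat_lit 9) (nat_lit 6)) (nat_lit 34)) i = 0 := allZ_sound0 th_k_34_0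
theorem th_k_35 : ∀ i < 64, (H0.Fi.ncEnt t_P (fun i => ifz (H0.Fi.bit thA i) 0 1) [nat_lit 120, nat_lit 464] thK (H0.Fi.digW (nat_lit 2) (nat_lit 9) (nat_lit 6)) (H0.Fi.digW (nat_lit 2) (nat_lit 9) (nat_lit 6)) (nat_lit 35)) i = 0 := allZ_sound0 th_k_35_0
theorem th_k_36 : ∀ i < 64, (H0.Fi.ncEnt t_P (fun i => ifz (H0.Fi.bit thA i) 0 1) [nat_lit 120, nat_lit 464] thK (H0.Fi.digW (nat_lit 2) (nat_lit 9) (nat_lit 6)) (H0.Fi.digW (nat_lit 2) (nat_lit 9) (nat_lit 6)) (nat_lit 36)) i = 0 := allZ_sound0 th_k_36_0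
theorem th_k_37 : ∀ i < 64, (H0.Fi.ncEnt t_P (fun i => ifz (H0.Fi.bit thA i) 0 1) [nat_lit 120, nat_lit 464] thK (H0.Fi.digW (nat_lit 2) (nat_lit 9) (nat_lit 6)) (H0.Fi.digW (nat_lit 2) (nat_lit 9) (nat_lit 6)) (nat_lit 37)) i = 0 := allZ_sound0 th_k_37_0
theorem th_k_38 : ∀ i < 64, (H0.Fi.ncEnt t_P (fun i => ifz (H0.Fi.bit thA i) 0 1) [nat_lit 120, nat_lit 464] thK (H0.Fi.digW (nat_lit 2) (nat_lit 9) (nat_lit 6)) (H0.Fi.digW (nat_lit 2) (nat_lit 9) (nat_lit 6)) (nat_lit 38)) i = 0 := allZ_sound0 th_k_38_0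
theorem th_k_39 : ∀ i < 64, (H0.Fi.ncEnt t_P (fun i => ifz (H0.Fi.bit thA i) 0 1) [nat_lit 120, nat_lit 464] thK (H0.Fi.digW (nat_lit 2) (nat_lit 9) (nat_lit 6)) (H0.Fi.digW (nat_lit 2) (nat_lit 9) (nat_lit 6)) (nat_lit 39)) i = 0 := allZ_sound0 th_k_39_0
theorem th_k_40 : ∀ i < 64, (H0.Fi.ncEnt t_P (fun i => ifz (H0.Fi.bit thA i) 0 1) [nat_lit 120, nat_lit 464] thK (H0.Fi.digW (nat_lit 2) (nat_lit 9) (nat_lit 6)) (H0.Fi.digW (nat_lit 2) (nat_lit 9) (nat_lit 6)) (nat_lit 40)) i = 0 := allZ_sound0 th_k_40_0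
theorem th_k_41 : ∀ i < 64, (H0.Fi.ncEnt t_P (fun i => ifz (H0.Fi.bit thA i) 0 1) [nat_lit 120, nat_lit 464] thK (H0.Fi.digW (nat_lit 2) (nat_lit 9) (nat_lit 6)) (H0.Fi.digW (nat_lit 2) (nat_lit 9) (nat_lit 6)) (nat_lit 41)) i = 0 := allZ_sound0 th_k_41_0
theorem th_k_42 : ∀ i < 64, (H0.Fi.ncEnt t_P (fun i => ifz (H0.Fi.bit thA i) 0 1) [nat_lit 120, nat_lit 464] thK (H0.Fi.digW (nat_lit 2) (nat_lit 9) (nat_lit 6)) (H0.Fi.digW (nat_lit 2) (nat_lit 9) (nat_lit 6)) (nat_lit 42)) i = 0 := allZ_sound0 th_k_42_0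
theorem th_k_43 : ∀ i < 64, (H0.Fi.ncEnt t_P (fun i => ifz (H0.Fi.bit thA i) 0 1) [nat_lit 120, nat_lit 464] thK (H0.Fi.digW (nat_lit 2) (nat_lit 9) (nat_lit 6)) (H0.Fi.digW (nat_lit 2) (nat_lit 9) (nat_lit 6)) (nat_lit 43)) i = 0 := allZ_sound0 th_k_43_0
theorem th_k_44 : ∀ i < 64, (H0.Fi.ncEnt t_P (fun i => ifz (H0.Fi.bit thA i) 0 1) [nat_lit 120, nat_lit 464] thK (H0.Fi.digW (nat_lit 2) (nat_lit 9) (nat_lit 6)) (H0.Fi.digW (nat_lit 2) (nat_lit 9) (nat_lit 6)) (nat_lit 44)) i = 0 := allZ_sound0 th_k_44_0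
theorem th_k_45 : ∀ i < 64, (H0.Fi.ncEnt t_P (fun i => ifz (H0.Fi.bit thA i) 0 1) [nat_lit 120, nat_lit 464] thK (H0.Fi.digW (nat_lit 2) (nat_lit 9) (nat_lit 6)) (H0.Fi.digW (nat_lit 2) (nat_lit 9) (nat_lit 6)) (nat_lit 45)) i = 0 := allZ_sound0 th_k_45_0
theorem th_k_46 : ∀ i < 64, (H0.Fi.ncEnt t_P (fun i => ifz (H0.Fi.bit thA i) 0 1) [nat_lit 120, nat_lit 464] thK (H0.Fi.digW (nat_lit 2) (nat_lit 9) (nat_lit 6)) (H0.Fi.digW (nat_lit 2) (nat_lit 9) (nat_lit 6)) (nat_lit 46)) i = 0 := allZ_sound0 th_k_46_0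
theorem th_k_47 : ∀ i < 64, (H0.Fi.ncEnt t_P (fun i => ifz (H0.Fi.bit thA i) 0 1) [nat_lit 120, nat_lit 464] thK (H0.Fi.digW (nat_lit 2) (nat_lit 9) (nat_lit 6)) (H0.Fi.digW (nat_lit 2) (nat_lit 9) (nat_lit 6)) (nat_lit 47)) i = 0 := allZ_sound0 th_k_47_0
theorem th_k_48 : ∀ i < 64, (H0.Fi.ncEnt t_P (fun i => ifz (H0.Fi.bit thA i) 0 1) [nat_lit 120, nat_lit 464] thK (H0.Fi.digW (nat_lit 2) (nat_lit 9) (nat_lit 6)) (H0.Fi.digW (nat_lit 2) (nat_lit 9) (nat_lit 6)) (nat_lit 48)) i = 0 := allZ_sound0 th_k_48_0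
theorem th_k_49 : ∀ i < 64, (H0.Fi.ncEnt t_P (fun i => ifz (H0.Fi.bit thA i) 0 1) [nat_lit 120, nat_lit 464] thK (H0.Fi.digW (nat_lit 2) (nat_lit 9) (nat_lit 6)) (H0.Fi.digW (nat_lit 2) (nat_lit 9) (nat_lit 6)) (nat_lit 49)) i = 0 := allZ_sound0 th_k_49_0
theorem th_k_50 : ∀ i < 64, (H0.Fi.ncEnt t_P (fun i => ifz (H0.Fi.bit thA i) 0 1) [nat_lit 120, nat_lit 464] thK (H0.Fi.digW (nat_lit 2) (nat_lit 9) (nat_lit 6)) (H0.Fi.digW (nat_lit 2) (nat_lit 9) (nat_lit 6)) (nat_lit 50)) i = 0 := allZ_sound0 th_k_50_0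
theorem th_k_51 : ∀ i < 64, (H0.Fi.ncEnt t_P (fun i => ifz (H0.Fi.bit thA i) 0 1) [nat_lit 120, nat_lit 464] thK (H0.Fi.digW (nat_lit 2) (nat_lit 9) (nat_lit 6)) (H0.Fi.digW (nat_lit 2) (nat_lit 9) (nat_lit 6)) (nat_lit 51)) i = 0 := allZ_sound0 th_k_51_0
theorem th_k_52 : ∀ i < 64, (H0.Fi.ncEnt t_P (fun i => ifz (H0.Fi.bit thA i) 0 1) [nat_lit 120, nat_lit 464] thK (H0.Fi.digW (nat_lit 2) (nat_lit 9) (nat_lit 6)) (H0.Fi.digW (nat_lit 2) (nat_lit 9) (nat_lit 6)) (nat_lit 52)) i = 0 := allZ_sound0 th_k_52_0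
theorem th_k_53 : ∀ i < 64, (H0.Fi.ncEnt t_P (fun i => ifz (H0.Fi.bit thA i) 0 1) [nat_lit 120, nat_lit 464] thK (H0.Fi.digW (nat_lit 2) (nat_lit 9) (nat_lit 6)) (H0.Fi.digW (nat_lit 2) (nat_lit 9) (nat_lit 6)) (nat_lit 53)) i = 0 := allZ_sound0 th_k_53_0
theorem th_k_54 : ∀ i < 64, (H0.Fi.ncEnt t_P (fun i => ifz (H0.Fi.bit thA i) 0 1) [nat_lit 120, nat_lit 464] thK (H0.Fi.digW (nat_lit 2) (nat_lit 9) (nat_lit 6)) (H0.Fi.digW (nat_lit 2) (nat_lit 9) (nat_lit 6)) (nat_lit 54)) i = 0 := allZ_sound0 th_k_54_0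
theorem th_k_55 : ∀ i < 64, (H0.Fi.ncEnt t_P (fun i => ifz (H0.Fi.bit thA i) 0 1) [nat_lit 120, nat_lit 464] thK (H0.Fi.digW (nat_lit 2) (nat_lit 9) (nat_lit 6)) (H0.Fi.digW (nat_lit 2) (nat_lit 9) (nat_lit 6)) (nat_lit 55)) i = 0 := allZ_sound0 th_k_55_0
theorem th_k_56 : ∀ i < 64, (H0.Fi.ncEnt t_P (fun i => ifz (H0.Fi.bit thA i) 0 1) [nat_lit 120, nat_lit 464] thK (H0.Fi.digW (nat_lit 2) (nat_lit 9) (nat_lit 6)) (H0.Fi.digW (nat_lit 2) (nat_lit 9) (nat_lit 6)) (nat_lit 56)) i = 0 := allZ_sound0 th_k_56_0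
theorem th_k_57 : ∀ i < 64, (H0.Fi.ncEnt t_P (fun i => ifz (H0.Fi.bit thA i) 0 1) [nat_lit 120, nat_lit 464] thK (H0.Fi.digW (nat_lit 2) (nat_lit 9) (nat_lit 6)) (H0.Fi.digW (nat_lit 2) (nat_lit 9) (nat_lit 6)) (nat_lit 57)) i = 0 := allZ_sound0 th_k_57_0
theorem th_k_58 : ∀ i < 64, (H0.Fi.ncEnt t_P (fun i => ifz (H0.Fi.bit thA i) 0 1) [nat_lit 120, nat_lit 464] thK (H0.Fi.digW (nat_lit 2) (nat_lit 9) (nat_lit 6)) (H0.Fi.digW (nat_lit 2) (nat_lit 9) (nat_lit 6)) (nat_lit 58)) i = 0 := allZ_sound0 th_k_58_0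
theorem th_k_59 : ∀ i < 64, (H0.Fi.ncEnt t_P (fun i => ifz (H0.Fi.bit thA i) 0 1) [nat_lit 120, nat_lit 464] thK (H0.Fi.digW (nat_lit 2) (nat_lit 9) (nat_lit 6)) (H0.Fi.digW (nat_lit 2) (nat_lit 9) (nat_lit 6)) (nat_lit 59)) i = 0 := allZ_sound0 th_k_59_0
theorem th_k_60 : ∀ i < 64, (H0.Fi.ncEnt t_P (fun i => ifz (H0.Fi.bit thA i) 0 1) [nat_lit 120, nat_lit 464] thK (H0.Fi.digW (nat_lit 2) (nat_lit 9) (nat_lit 6)) (H0.Fi.digW (nat_lit 2) (nat_lit 9) (nat_lit 6)) (nat_lit 60)) i = 0 := allZ_sound0 th_k_60_0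
theorem th_k_61 : ∀ i < 64, (H0.Fi.ncEnt t_P (fun i => ifz (H0.Fi.bit thA i) 0 1) [nat_lit 120, nat_lit 464] thK (H0.Fi.digW (nat_lit 2) (nat_lit 9) (nat_lit 6)) (H0.Fi.digW (nat_lit 2) (nat_lit 9) (nat_lit 6)) (nat_lit 61)) i = 0 := allZ_sound0 th_k_61_0
theorem th_k_62 : ∀ i < 64, (H0.Fi.ncEnt t_P (fun i => ifz (H0.Fi.bit thA i) 0 1) [nat_lit 120, nat_lit 464] thK (H0.Fi.digW (nat_lit 2) (nat_lit 9) (nat_lit 6)) (H0.Fi.digW (nat_lit 2) (nat_lit 9) (nat_lit 6)) (nat_lit 62)) i = 0 := allZ_sound0 th_k_62_0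
theorem th_k_63 : ∀ i < 64, (H0.Fi.ncEnt t_P (fun i => ifz (H0.Fi.bit thA i) 0 1) [nat_lit 120, nat_lit 464] thK (H0.Fi.digW (nat_lit 2) (nat_lit 9) (nat_lit 6)) (H0.Fi.digW (nat_lit 2) (nat_lit 9) (nat_lit 6)) (nat_lit 63)) i = 0 := allZ_sound0 th_k_63_0
theorem th_k : ∀ k < 64, ∀ i < 64, (H0.Fi.ncEnt t_P (fun i => ifz (H0.Fi.bit thA i) 0 1) [nat_lit 120, nat_lit 464] thK (H0.Fi.digW (nat_lit 2) (nat_lit 9) (nat_lit 6)) (H0.Fi.digW (nat_lit 2) (nat_lit 9) (nat_lit 6))) k i = 0 :=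
  letters_glue (letters_glue (letters_glue (letters_glue (letters_glue (letters_glue (letters_glue (letters_glue (letters_glue (letters_glue (letters_glue (letters_glue (letters_glue (letters_glue (letters_glue (letters_glue (letters_glue (letters_glue (letters_glue (letters_glue (letters_glue (letters_glue (letters_glue (letters_glue (letters_glue (letters_glue (letters_glue (letters_glue (letters_glue (letters_glue (letters_glue (letters_glue (letters_glue (letters_glue (letters_glue (letters_glue (letters_glue (letters_glue (letters_glue (letters_glue (letters_glue (letters_glue (letters_glue (letters_glue (letters_glue (letters_glue (letters_glue (letters_glue (letters_glue (letters_glue (letters_glue (letters_glue (letters_glue (letters_glue (letters_glue (letters_glue (letters_glue (letters_glue (letters_glue (letters_glue (letters_glue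 (letters_glue (letters_glue (letters_glue (letters_nil) th_k_0) th_k_1) th_k_2) th_k_3) th_k_4) th_k_5) th_k_6) th_k_7) th_k_8) th_k_9) th_k_10) th_k_11) th_k_12) th_k_13) th_k_14) th_k_15) th_k_16) th_k_17) th_k_18) th_k_19) th_k_20) th_k_21) th_k_22) th_k_23) th_k_24) th_k_25) th_k_26) th_k_27) th_k_28) th_k_29) th_k_30) th_k_31) th_k_32) th_k_33) th_k_34) th_k_35) th_k_36) th_k_37) th_k_38) th_k_39) th_k_40) th_k_41) th_k_42) th_k_43) th_k_44) th_k_45) th_k_46) th_k_47) th_k_48) th_k_49) th_k_50) th_k_51) th_k_52) th_k_53) th_k_54) th_k_55) th_k_56) th_k_57) th_k_58) th_k_59) th_k_60) th_k_61) th_k_62) th_k_63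
theorem th_f_0 : ∀ i < 512, (H0.Fi.ncEnt t_P id [nat_lit 108, nat_lit 380] thF (H0.Fi.digW (nat_lit 2) (nat_lit 9) (nat_lit 6)) (H0.Fi.digW (nat_lit 2) (nat_lit 0) (nat_lit 9)) (nat_lit 0)) i = 0 := allZ_sound0 th_f_0_0
theorem th_f_1 : ∀ i < 512, (H0.Fi.ncEnt t_P id [nat_lit 108, nat_lit 380] thF (H0.Fi.digW (nat_lit 2) (nat_lit 9) (nat_lit 6)) (H0.Fi.digW (nat_lit 2) (nat_lit 0) (nat_lit 9)) (nat_lit 1)) i = 0 := allZ_sound0 th_f_1_0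
theorem th_f_2 : ∀ i < 512, (H0.Fi.ncEnt t_P id [nat_lit 108, nat_lit 380] thF (H0.Fi.digW (nat_lit 2) (nat_lit 9) (nat_lit 6)) (H0.Fi.digW (nat_lit 2) (nat_lit 0) (nat_lit 9)) (nat_lit 2)) i = 0 := allZ_sound0 th_f_2_0
theorem th_f_3 : ∀ i < 512, (H0.Fi.ncEnt t_P id [nat_lit 108, nat_lit 380] thF (H0.Fi.digW (nat_lit 2) (nat_lit 9) (nat_lit 6)) (H0.Fi.digW (nat_lit 2) (nat_lit 0) (nat_lit 9)) (nat_lit 3)) i = 0 := allZ_sound0 th_f_3_0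
theorem th_f_4 : ∀ i < 512, (H0.Fi.ncEnt t_P id [nat_lit 108, nat_lit 380] thF (H0.Fi.digW (nat_lit 2) (nat_lit 9) (nat_lit 6)) (H0.Fi.digW (nat_lit 2) (nat_lit 0) (nat_lit 9)) (nat_lit 4)) i = 0 := allZ_sound0 th_f_4_0
theorem th_f_5 : ∀ i < 512, (H0.Fi.ncEnt t_P id [nat_lit 108, nat_lit 380] thF (H0.Fi.digW (nat_lit 2) (nat_lit 9) (nat_lit 6)) (H0.Fi.digW (nat_lit 2) (nat_lit 0) (nat_lit 9)) (nat_lit 5)) i = 0 := allZ_sound0 th_f_5_0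
theorem th_f_6 : ∀ i < 512, (H0.Fi.ncEnt t_P id [nat_lit 108, nat_lit 380] thF (H0.Fi.digW (nat_lit 2) (nat_lit 9) (nat_lit 6)) (H0.Fi.digW (nat_lit 2) (nat_lit 0) (nat_lit 9)) (nat_lit 6)) i = 0 := allZ_sound0 th_f_6_0
theorem th_f_7 : ∀ i < 512, (H0.Fi.ncEnt t_P id [nat_lit 108, nat_lit 380] thF (H0.Fi.digW (nat_lit 2) (nat_lit 9) (nat_lit 6)) (H0.Fi.digW (nat_lit 2) (nat_lit 0) (nat_lit 9)) (nat_lit 7)) i = 0 := allZ_sound0 th_f_7_0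
theorem th_f_8 : ∀ i < 512, (H0.Fi.ncEnt t_P id [nat_lit 108, nat_lit 380] thF (H0.Fi.digW (nat_lit 2) (nat_lit 9) (nat_lit 6)) (H0.Fi.digW (nat_lit 2) (nat_lit 0) (nat_lit 9)) (nat_lit 8)) i = 0 := allZ_sound0 th_f_8_0
theorem th_f_9 : ∀ i < 512, (H0.Fi.ncEnt t_P id [nat_lit 108, nat_lit 380] thF (H0.Fi.digW (nat_lit 2) (nat_lit 9) (nat_lit 6)) (H0.Fi.digW (nat_lit 2) (nat_lit 0) (nat_lit 9)) (nat_lit 9)) i = 0 := allZ_sound0 th_f_9_0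
theorem th_f_10 : ∀ i < 512, (H0.Fi.ncEnt t_P id [nat_lit 108, nat_lit 380] thF (H0.Fi.digW (nat_lit 2) (nat_lit 9) (nat_lit 6)) (H0.Fi.digW (nat_lit 2) (nat_lit 0) (nat_lit 9)) (nat_lit 10)) i = 0 := allZ_sound0 th_f_10_0
theorem th_f_11 : ∀ i < 512, (H0.Fi.ncEnt t_P id [nat_lit 108, nat_lit 380] thF (H0.Fi.digW (nat_lit 2) (nat_lit 9) (nat_lit 6)) (H0.Fi.digW (nat_lit 2) (nat_lit 0) (nat_lit 9)) (nat_lit 11)) i = 0 := allZ_sound0 th_f_11_0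
theorem th_f_12 : ∀ i < 512, (H0.Fi.ncEnt t_P id [nat_lit 108, nat_lit 380] thF (H0.Fi.digW (nat_lit 2) (nat_lit 9) (nat_lit 6)) (H0.Fi.digW (nat_lit 2) (nat_lit 0) (nat_lit 9)) (nat_lit 12)) i = 0 := allZ_sound0 th_f_12_0
theorem th_f_13 : ∀ i < 512, (H0.Fi.ncEnt t_P id [nat_lit 108, nat_lit 380] thF (H0.Fi.digW (nat_lit 2) (nat_lit 9) (nat_lit 6)) (H0.Fi.digW (nat_lit 2) (nat_lit 0) (nat_lit 9)) (nat_lit 13)) i = 0 := allZ_sound0 th_f_13_0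
theorem th_f_14 : ∀ i < 512, (H0.Fi.ncEnt t_P id [nat_lit 108, nat_lit 380] thF (H0.Fi.digW (nat_lit 2) (nat_lit 9) (nat_lit 6)) (H0.Fi.digW (nat_lit 2) (nat_lit 0) (nat_lit 9)) (nat_lit 14)) i = 0 := allZ_sound0 th_f_14_0
theorem th_f_15 : ∀ i < 512, (H0.Fi.ncEnt t_P id [nat_lit 108, nat_lit 380] thF (H0.Fi.digW (nat_lit 2) (nat_lit 9) (nat_lit 6)) (H0.Fi.digW (nat_lit 2) (nat_lit 0) (nat_lit 9)) (nat_lit 15)) i = 0 := allZ_sound0 th_f_15_0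
theorem th_f_16 : ∀ i < 512, (H0.Fi.ncEnt t_P id [nat_lit 108, nat_lit 380] thF (H0.Fi.digW (nat_lit 2) (nat_lit 9) (nat_lit 6)) (H0.Fi.digW (nat_lit 2) (nat_lit 0) (nat_lit 9)) (nat_lit 16)) i = 0 := allZ_sound0 th_f_16_0
theorem th_f_17 : ∀ i < 512, (H0.Fi.ncEnt t_P id [nat_lit 108, nat_lit 380] thF (H0.Fi.digW (nat_lit 2) (nat_lit 9) (nat_lit 6)) (H0.Fi.digW (nat_lit 2) (nat_lit 0) (nat_lit 9)) (nat_lit 17)) i = 0 := allZ_sound0 th_f_17_0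
theorem th_f_18 : ∀ i < 512, (H0.Fi.ncEnt t_P id [nat_lit 108, nat_lit 380] thF (H0.Fi.digW (nat_lit 2) (nat_lit 9) (nat_lit 6)) (H0.Fi.digW (nat_lit 2) (nat_lit 0) (nat_lit 9)) (nat_lit 18)) i = 0 := allZ_sound0 th_f_18_0
theorem th_f_19 : ∀ i < 512, (H0.Fi.ncEnt t_P id [nat_lit 108, nat_lit 380] thF (H0.Fi.digW (nat_lit 2) (nat_lit 9) (nat_lit 6)) (H0.Fi.digW (nat_lit 2) (nat_lit 0) (nat_lit 9)) (nat_lit 19)) i = 0 := allZ_sound0 th_f_19_0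
theorem th_f_20 : ∀ i < 512, (H0.Fi.ncEnt t_P id [nat_lit 108, nat_lit 380] thF (H0.Fi.digW (nat_lit 2) (nat_lit 9) (nat_lit 6)) (H0.Fi.digW (nat_lit 2) (nat_lit 0) (nat_lit 9)) (nat_lit 20)) i = 0 := allZ_sound0 th_f_20_0
theorem th_f_21 : ∀ i < 512, (H0.Fi.ncEnt t_P id [nat_lit 108, nat_lit 380] thF (H0.Fi.digW (nat_lit 2) (nat_lit 9) (nat_lit 6)) (H0.Fi.digW (nat_lit 2) (nat_lit 0) (nat_lit 9)) (nat_lit 21)) i = 0 := allZ_sound0 th_f_21_0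
theorem th_f_22 : ∀ i < 512, (H0.Fi.ncEnt t_P id [nat_lit 108, nat_lit 380] thF (H0.Fi.digW (nat_lit 2) (nat_lit 9) (nat_lit 6)) (H0.Fi.digW (nat_lit 2) (nat_lit 0) (nat_lit 9)) (nat_lit 22)) i = 0 := allZ_sound0 th_f_22_0
theorem th_f_23 : ∀ i < 512, (H0.Fi.ncEnt t_P id [nat_lit 108, nat_lit 380] thF (H0.Fi.digW (nat_lit 2) (nat_lit 9) (nat_lit 6)) (H0.Fi.digW (nat_lit 2) (nat_lit 0) (nat_lit 9)) (nat_lit 23)) i = 0 := allZ_sound0 th_f_23_0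
theorem th_f_24 : ∀ i < 512, (H0.Fi.ncEnt t_P id [nat_lit 108, nat_lit 380] thF (H0.Fi.digW (nat_lit 2) (nat_lit 9) (nat_lit 6)) (H0.Fi.digW (nat_lit 2) (nat_lit 0) (nat_lit 9)) (nat_lit 24)) i = 0 := allZ_sound0 th_f_24_0
theorem th_f_25 : ∀ i < 512, (H0.Fi.ncEnt t_P id [nat_lit 108, nat_lit 380] thF (H0.Fi.digW (nat_lit 2) (nat_lit 9) (nat_lit 6)) (H0.Fi.digW (nat_lit 2) (nat_lit 0) (nat_lit 9)) (nat_lit 25)) i = 0 := allZ_sound0 th_f_25_0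
theorem th_f_26 : ∀ i < 512, (H0.Fi.ncEnt t_P id [nat_lit 108, nat_lit 380] thF (H0.Fi.digW (nat_lit 2) (nat_lit 9) (nat_lit 6)) (H0.Fi.digW (nat_lit 2) (nat_lit 0) (nat_lit 9)) (nat_lit 26)) i = 0 := allZ_sound0 th_f_26_0
theorem th_f_27 : ∀ i < 512, (H0.Fi.ncEnt t_P id [nat_lit 108, nat_lit 380] thF (H0.Fi.digW (nat_lit 2) (nat_lit 9) (nat_lit 6)) (H0.Fi.digW (nat_lit 2) (nat_lit 0) (nat_lit 9)) (nat_lit 27)) i = 0 := allZ_sound0 th_f_27_0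
theorem th_f_28 : ∀ i < 512, (H0.Fi.ncEnt t_P id [nat_lit 108, nat_lit 380] thF (H0.Fi.digW (nat_lit 2) (nat_lit 9) (nat_lit 6)) (H0.Fi.digW (nat_lit 2) (nat_lit 0) (nat_lit 9)) (nat_lit 28)) i = 0 := allZ_sound0 th_f_28_0
theorem th_f_29 : ∀ i < 512, (H0.Fi.ncEnt t_P id [nat_lit 108, nat_lit 380] thF (H0.Fi.digW (nat_lit 2) (nat_lit 9) (nat_lit 6)) (H0.Fi.digW (nat_lit 2) (nat_lit 0) (nat_lit 9)) (nat_lit 29)) i = 0 := allZ_sound0 th_f_29_0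
theorem th_f_30 : ∀ i < 512, (H0.Fi.ncEnt t_P id [nat_lit 108, nat_lit 380] thF (H0.Fi.digW (nat_lit 2) (nat_lit 9) (nat_lit 6)) (H0.Fi.digW (nat_lit 2) (nat_lit 0) (nat_lit 9)) (nat_lit 30)) i = 0 := allZ_sound0 th_f_30_0
theorem th_f_31 : ∀ i < 512, (H0.Fi.ncEnt t_P id [nat_lit 108, nat_lit 380] thF (H0.Fi.digW (nat_lit 2) (nat_lit 9) (nat_lit 6)) (H0.Fi.digW (nat_lit 2) (nat_lit 0) (nat_lit 9)) (nat_lit 31)) i = 0 := allZ_sound0 th_f_31_0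
theorem th_f_32 : ∀ i < 512, (H0.Fi.ncEnt t_P id [nat_lit 108, nat_lit 380] thF (H0.Fi.digW (nat_lit 2) (nat_lit 9) (nat_lit 6)) (H0.Fi.digW (nat_lit 2) (nat_lit 0) (nat_lit 9)) (nat_lit 32)) i = 0 := allZ_sound0 th_f_32_0
theorem th_f_33 : ∀ i < 512, (H0.Fi.ncEnt t_P id [nat_lit 108, nat_lit 380] thF (H0.Fi.digW (nat_lit 2) (nat_lit 9) (nat_lit 6)) (H0.Fi.digW (nat_lit 2) (nat_lit 0) (nat_lit 9)) (nat_lit 33)) i = 0 := allZ_sound0 th_f_33_0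
theorem th_f_34 : ∀ i < 512, (H0.Fi.ncEnt t_P id [nat_lit 108, nat_lit 380] thF (H0.Fi.digW (nat_lit 2) (nat_lit 9) (nat_lit 6)) (H0.Fi.digW (nat_lit 2) (nat_lit 0) (nat_lit 9)) (nat_lit 34)) i = 0 := allZ_sound0 th_f_34_0
theorem th_f_35 : ∀ i < 512, (H0.Fi.ncEnt t_P id [nat_lit 108, nat_lit 380] thF (H0.Fi.digW (nat_lit 2) (nat_lit 9) (nat_lit 6)) (H0.Fi.digW (nat_lit 2) (nat_lit 0) (nat_lit 9)) (nat_lit 35)) i = 0 := allZ_sound0 th_f_35_0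
theorem th_f_36 : ∀ i < 512, (H0.Fi.ncEnt t_P id [nat_lit 108, nat_lit 380] thF (H0.Fi.digW (nat_lit 2) (nat_lit 9) (nat_lit 6)) (H0.Fi.digW (nat_lit 2) (nat_lit 0) (nat_lit 9)) (nat_lit 36)) i = 0 := allZ_sound0 th_f_36_0
theorem th_f_37 : ∀ i < 512, (H0.Fi.ncEnt t_P id [nat_lit 108, nat_lit 380] thF (H0.Fi.digW (nat_lit 2) (nat_lit 9) (nat_lit 6)) (H0.Fi.digW (nat_lit 2) (nat_lit 0) (nat_lit 9)) (nat_lit 37)) i = 0 := allZ_sound0 th_f_37_0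
theorem th_f_38 : ∀ i < 512, (H0.Fi.ncEnt t_P id [nat_lit 108, nat_lit 380] thF (H0.Fi.digW (nat_lit 2) (nat_lit 9) (nat_lit 6)) (H0.Fi.digW (nat_lit 2) (nat_lit 0) (nat_lit 9)) (nat_lit 38)) i = 0 := allZ_sound0 th_f_38_0
theorem th_f_39 : ∀ i < 512, (H0.Fi.ncEnt t_P id [nat_lit 108, nat_lit 380] thF (H0.Fi.digW (nat_lit 2) (nat_lit 9) (nat_lit 6)) (H0.Fi.digW (nat_lit 2) (nat_lit 0) (nat_lit 9)) (nat_lit 39)) i = 0 := allZ_sound0 th_f_39_0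
theorem th_f_40 : ∀ i < 512, (H0.Fi.ncEnt t_P id [nat_lit 108, nat_lit 380] thF (H0.Fi.digW (nat_lit 2) (nat_lit 9) (nat_lit 6)) (H0.Fi.digW (nat_lit 2) (nat_lit 0) (nat_lit 9)) (nat_lit 40)) i = 0 := allZ_sound0 th_f_40_0
theorem th_f_41 : ∀ i < 512, (H0.Fi.ncEnt t_P id [nat_lit 108, nat_lit 380] thF (H0.Fi.digW (nat_lit 2) (nat_lit 9) (nat_lit 6)) (H0.Fi.digW (nat_lit 2) (nat_lit 0) (nat_lit 9)) (nat_lit 41)) i = 0 := allZ_sound0 th_f_41_0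
theorem th_f_42 : ∀ i < 512, (H0.Fi.ncEnt t_P id [nat_lit 108, nat_lit 380] thF (H0.Fi.digW (nat_lit 2) (nat_lit 9) (nat_lit 6)) (H0.Fi.digW (nat_lit 2) (nat_lit 0) (nat_lit 9)) (nat_lit 42)) i = 0 := allZ_sound0 th_f_42_0
theorem th_f_43 : ∀ i < 512, (H0.Fi.ncEnt t_P id [nat_lit 108, nat_lit 380] thF (H0.Fi.digW (nat_lit 2) (nat_lit 9) (nat_lit 6)) (H0.Fi.digW (nat_lit 2) (nat_lit 0) (nat_lit 9)) (nat_lit 43)) i = 0 := allZ_sound0 th_f_43_0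
theorem th_f_44 : ∀ i < 512, (H0.Fi.ncEnt t_P id [nat_lit 108, nat_lit 380] thF (H0.Fi.digW (nat_lit 2) (nat_lit 9) (nat_lit 6)) (H0.Fi.digW (nat_lit 2) (nat_lit 0) (nat_lit 9)) (nat_lit 44)) i = 0 := allZ_sound0 th_f_44_0
theorem th_f_45 : ∀ i < 512, (H0.Fi.ncEnt t_P id [nat_lit 108, nat_lit 380] thF (H0.Fi.digW (nat_lit 2) (nat_lit 9) (nat_lit 6)) (H0.Fi.digW (nat_lit 2) (nat_lit 0) (nat_lit 9)) (nat_lit 45)) i = 0 := allZ_sound0 th_f_45_0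
theorem th_f_46 : ∀ i < 512, (H0.Fi.ncEnt t_P id [nat_lit 108, nat_lit 380] thF (H0.Fi.digW (nat_lit 2) (nat_lit 9) (nat_lit 6)) (H0.Fi.digW (nat_lit 2) (nat_lit 0) (nat_lit 9)) (nat_lit 46)) i = 0 := allZ_sound0 th_f_46_0
theorem th_f_47 : ∀ i < 512, (H0.Fi.ncEnt t_P id [nat_lit 108, nat_lit 380] thF (H0.Fi.digW (nat_lit 2) (nat_lit 9) (nat_lit 6)) (H0.Fi.digW (nat_lit 2) (nat_lit 0) (nat_lit 9)) (nat_lit 47)) i = 0 := allZ_sound0 th_f_47_0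
theorem th_f_48 : ∀ i < 512, (H0.Fi.ncEnt t_P id [nat_lit 108, nat_lit 380] thF (H0.Fi.digW (nat_lit 2) (nat_lit 9) (nat_lit 6)) (H0.Fi.digW (nat_lit 2) (nat_lit 0) (nat_lit 9)) (nat_lit 48)) i = 0 := allZ_sound0 th_f_48_0
theorem th_f_49 : ∀ i < 512, (H0.Fi.ncEnt t_P id [nat_lit 108, nat_lit 380] thF (H0.Fi.digW (nat_lit 2) (nat_lit 9) (nat_lit 6)) (H0.Fi.digW (nat_lit 2) (nat_lit 0) (nat_lit 9)) (nat_lit 49)) i = 0 := allZ_sound0 th_f_49_0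
theorem th_f_50 : ∀ i < 512, (H0.Fi.ncEnt t_P id [nat_lit 108, nat_lit 380] thF (H0.Fi.digW (nat_lit 2) (nat_lit 9) (nat_lit 6)) (H0.Fi.digW (nat_lit 2) (nat_lit 0) (nat_lit 9)) (nat_lit 50)) i = 0 := allZ_sound0 th_f_50_0
theorem th_f_51 : ∀ i < 512, (H0.Fi.ncEnt t_P id [nat_lit 108, nat_lit 380] thF (H0.Fi.digW (nat_lit 2) (nat_lit 9) (nat_lit 6)) (H0.Fi.digW (nat_lit 2) (nat_lit 0) (nat_lit 9)) (nat_lit 51)) i = 0 := allZ_sound0 th_f_51_0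
theorem th_f_52 : ∀ i < 512, (H0.Fi.ncEnt t_P id [nat_lit 108, nat_lit 380] thF (H0.Fi.digW (nat_lit 2) (nat_lit 9) (nat_lit 6)) (H0.Fi.digW (nat_lit 2) (nat_lit 0) (nat_lit 9)) (nat_lit 52)) i = 0 := allZ_sound0 th_f_52_0
theorem th_f_53 : ∀ i < 512, (H0.Fi.ncEnt t_P id [nat_lit 108, nat_lit 380] thF (H0.Fi.digW (nat_lit 2) (nat_lit 9) (nat_lit 6)) (H0.Fi.digW (nat_lit 2) (nat_lit 0) (nat_lit 9)) (nat_lit 53)) i = 0 := allZ_sound0 th_f_53_0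
theorem th_f_54 : ∀ i < 512, (H0.Fi.ncEnt t_P id [nat_lit 108, nat_lit 380] thF (H0.Fi.digW (nat_lit 2) (nat_lit 9) (nat_lit 6)) (H0.Fi.digW (nat_lit 2) (nat_lit 0) (nat_lit 9)) (nat_lit 54)) i = 0 := allZ_sound0 th_f_54_0
theorem th_f_55 : ∀ i < 512, (H0.Fi.ncEnt t_P id [nat_lit 108, nat_lit 380] thF (H0.Fi.digW (nat_lit 2) (nat_lit 9) (nat_lit 6)) (H0.Fi.digW (nat_lit 2) (nat_lit 0) (nat_lit 9)) (nat_lit 55)) i = 0 := allZ_sound0 th_f_55_0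
theorem th_f_56 : ∀ i < 512, (H0.Fi.ncEnt t_P id [nat_lit 108, nat_lit 380] thF (H0.Fi.digW (nat_lit 2) (nat_lit 9) (nat_lit 6)) (H0.Fi.digW (nat_lit 2) (nat_lit 0) (nat_lit 9)) (nat_lit 56)) i = 0 := allZ_sound0 th_f_56_0
theorem th_f_57 : ∀ i < 512, (H0.Fi.ncEnt t_P id [nat_lit 108, nat_lit 380] thF (H0.Fi.digW (nat_lit 2) (nat_lit 9) (nat_lit 6)) (H0.Fi.digW (nat_lit 2) (nat_lit 0) (nat_lit 9)) (nat_lit 57)) i = 0 := allZ_sound0 th_f_57_0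
theorem th_f_58 : ∀ i < 512, (H0.Fi.ncEnt t_P id [nat_lit 108, nat_lit 380] thF (H0.Fi.digW (nat_lit 2) (nat_lit 9) (nat_lit 6)) (H0.Fi.digW (nat_lit 2) (nat_lit 0) (nat_lit 9)) (nat_lit 58)) i = 0 := allZ_sound0 th_f_58_0
theorem th_f_59 : ∀ i < 512, (H0.Fi.ncEnt t_P id [nat_lit 108, nat_lit 380] thF (H0.Fi.digW (nat_lit 2) (nat_lit 9) (nat_lit 6)) (H0.Fi.digW (nat_lit 2) (nat_lit 0) (nat_lit 9)) (nat_lit 59)) i = 0 := allZ_sound0 th_f_59_0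
theorem th_f_60 : ∀ i < 512, (H0.Fi.ncEnt t_P id [nat_lit 108, nat_lit 380] thF (H0.Fi.digW (nat_lit 2) (nat_lit 9) (nat_lit 6)) (H0.Fi.digW (nat_lit 2) (nat_lit 0) (nat_lit 9)) (nat_lit 60)) i = 0 := allZ_sound0 th_f_60_0
theorem th_f_61 : ∀ i < 512, (H0.Fi.ncEnt t_P id [nat_lit 108, nat_lit 380] thF (H0.Fi.digW (nat_lit 2) (nat_lit 9) (nat_lit 6)) (H0.Fi.digW (nat_lit 2) (nat_lit 0) (nat_lit 9)) (nat_lit 61)) i = 0 := allZ_sound0 th_f_61_0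
theorem th_f_62 : ∀ i < 512, (H0.Fi.ncEnt t_P id [nat_lit 108, nat_lit 380] thF (H0.Fi.digW (nat_lit 2) (nat_lit 9) (nat_lit 6)) (H0.Fi.digW (nat_lit 2) (nat_lit 0) (nat_lit 9)) (nat_lit 62)) i = 0 := allZ_sound0 th_f_62_0
theorem th_f_63 : ∀ i < 512, (H0.Fi.ncEnt t_P id [nat_lit 108, nat_lit 380] thF (H0.Fi.digW (nat_lit 2) (nat_lit 9) (nat_lit 6)) (H0.Fi.digW (nat_lit 2) (nat_lit 0) (nat_lit 9)) (nat_lit 63)) i = 0 := allZ_sound0 th_f_63_0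
theorem th_f : ∀ k < 64, ∀ i < 512, (H0.Fi.ncEnt t_P id [nat_lit 108, nat_lit 380] thF (H0.Fi.digW (nat_lit 2) (nat_lit 9) (nat_lit 6)) (H0.Fi.digW (nat_lit 2) (nat_lit 0) (nat_lit 9))) k i = 0 :=
  letters_glue (letters_glue (letters_glue (letters_glue (letters_glue (letters_glue (letters_glue (letters_glue (letters_glue (letters_glue (letters_glue (letters_glue (letters_glue (letters_glue (letters_glue (letters_glue (letters_glue (letters_glue (letters_glue (letters_glue (letters_glue (letters_glue (letters_glue (letters_glue (letters_glue (letters_glue (letters_glue (letters_glue (letters_glue (letters_glue (letters_glue (letters_glue (letters_glue (letters_glue (letters_glue (letters_glue (letters_glue (letters_glue (letters_glue (letters_glue (letters_glue (letters_glue (letters_glue (letters_glue (letters_glue (letters_glue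 (letters_glue (letters_glue (letters_glue (letters_glue (letters_glue (letters_glue (letters_glue (letters_glue (letters_glue (letters_glue (letters_glue (letters_glue (letters_glue (letters_glue (letters_glue (letters_glue (letters_glue (letters_glue (letters_nil) th_f_0) th_f_1) th_f_2) th_f_3) th_f_4) th_f_5) th_f_6) th_f_7) th_f_8) th_f_9) th_f_10) th_f_11) th_f_12) th_f_13) th_f_14) th_f_15) th_f_16) th_f_17) th_f_18) th_f_19) th_f_20) th_f_21) th_f_22) th_f_23) th_f_24) th_f_25) th_f_26) th_f_27) th_f_28) th_f_29) th_f_30) th_f_31) th_f_32) th_f_33) th_f_34) th_f_35) th_f_36) th_f_37) th_f_38) th_f_39) th_f_40) th_f_41) th_f_42) th_f_43) th_f_44) th_f_45) th_f_46) th_f_47) th_f_48) th_f_49) th_f_50) th_f_51) th_f_52) th_f_53) th_f_54) th_f_55) th_f_56) th_f_57) th_f_58) th_f_59) th_f_60) th_f_61) th_f_62) th_f_63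
theorem th_s : ∀ i < 64, (fun c => bif c.beq 0 || H0.Fi.srch thK thF (nat_lit 64) (nat_lit 512) (nat_lit 3) (thK c) (thF c) then 0 else 1) i = 0 := range_glue (range_glue (allZ_sound0 th_s_0) th_s_1) th_s_2
theorem th {G Ω : Type*} [Group G] [MulAction G Ω] {g : ℕ → G} {pt : ℕ → Ω}
    (M : Md g pt H16.U62.P 672 10 H16.U62.B 9196830720) : Cfsg.thompsonSubgroupOf 2 (gen (wds (wds g p_W) t_W) 15) = gen (wds (wds g p_W) t_W) 9 :=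
  have := M.fin
  H0.Fi.thomp (j := 9) (r := 6) M.inj (tp M).1 (H0.Fi.card_gen (tp M).1 (tp M).2 (by decide)) (t_act M)
    ((tp M).1.le_norm (by decide)) (H0.Fi.ea_of (tc M) (tq M)) th_i (X := [nat_lit 120, nat_lit 464]) (Y := [nat_lit 108, nat_lit 380]) (by decide) (by decide) th_k th_f th_s

end H18.TE.U
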